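import Mathlib

/-!
# Normal coverings: quotient by a common subgroup, and embeddings of field extensions into commutants
-/

set_option autoImplicit false
set_option linter.unusedSectionVars false

namespace CfsgLib.Cover5

open Polynomial

/-- `G` is the union of the conjugates of two proper subgroups. -/
def TwoCover (G : Type*) [Group G] : Prop :=
  ∃ H K : Subgroup G, H ≠ ⊤ ∧ K ≠ ⊤ ∧ ∀ g : G, ∃ x : G, x * g * x⁻¹ ∈ H ∨ x * g * x⁻¹ ∈ K

/-- A covering of `G` by two subgroups containing `N` gives one of `G ⧸ N`. -/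
theorem twoCover_quotient {G : Type*} [Group G] (N : Subgroup G) [N.Normal] {H K : Subgroup G}
    (hH : H ≠ ⊤) (hK : K ≠ ⊤) (hNH : N ≤ H) (hNK : N ≤ K)
    (h : ∀ g : G, ∃ x : G, x * g * x⁻¹ ∈ H ∨ x * g * x⁻¹ ∈ K) : TwoCover (G ⧸ N) := by
  have key : ∀ L : Subgroup G, N ≤ L → L ≠ ⊤ → L.map (QuotientGroup.mk' N) ≠ ⊤ := by
    intro L hNL hL e
    apply hL
    have := congrArg (Subgroup.comap (QuotientGroup.mk' N)) e
    rwa [Subgroup.comap_map_eq, QuotientGroup.ker_mk', sup_eq_left.mpr hNL,
      Subgroup.comap_top] at this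
  refine ⟨H.map (QuotientGroup.mk' N), K.map (QuotientGroup.mk' N), key H hNH hH, key K hNK hK, ?_⟩
  intro g
  obtain ⟨g, rfl⟩ := QuotientGroup.mk'_surjective N g
  obtain ⟨x, hx⟩ := h g
  refine ⟨QuotientGroup.mk' N x, ?_⟩
  rcases hx with hx | hx
  · left; exact ⟨_, hx, by simp only [map_mul, map_inv]⟩
  · right; exact ⟨_, hx, by simp only [map_mul, map_inv]⟩

section embedding

variable {F : Type*} [Field F] [Finite F]

/-- An extension of finite fields embeds into a finite commutative algebra all of whose residue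
fields have degree divisible by its degree. -/
theorem exists_algHom {A : Type*} [CommRing A] [Algebra F A] [FiniteDimensional F A]
    (E : Type*) [Field E] [Algebra F E] [FiniteDimensional F E]
    (h : ∀ I : Ideal A, I.IsMaximal → Module.finrank F E ∣ Module.finrank F (A ⧸ I)) :
    Nonempty (E →ₐ[F] A) := by
  classical
  have : Finite A := Module.finite_of_finite F
  have : IsArtinianRing A := IsArtinianRing.of_finite F A
  let pb := Field.powerBasisOfFiniteOfSeparable F E
  set f := minpoly F pb.gen with hf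
  have hsep : f.Separable := Algebra.IsSeparable.isSeparable F pb.gen
  have hroot : ∀ I : MaximalSpectrum A, ∃ z : A,
      Ideal.Quotient.mkₐ F I.asIdeal (aeval z f) = 0 := by
    intro I
    have := I.isMaximal
    letI := Ideal.Quotient.field I.asIdeal
    have : Finite (A ⧸ I.asIdeal) := Finite.of_surjective _ Ideal.Quotient.mk_surjective
    obtain ⟨φ⟩ := FiniteField.nonempty_algHom_of_finrank_dvd (F := F) (K := E) (L := A ⧸ I.asIdeal)
      (h I.asIdeal inferInstance)
    obtain ⟨z, hz⟩ := Ideal.Quotient.mk_surjective (φ pb.gen)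
    refine ⟨z, ?_⟩
    rw [← aeval_algHom_apply, Ideal.Quotient.mkₐ_eq_mk, hz, aeval_algHom_apply, hf, minpoly.aeval,
      map_zero]
  choose z hz using hroot
  have hco : Pairwise fun I J : MaximalSpectrum A => IsCoprime I.asIdeal J.asIdeal := by
    intro I J hIJ
    exact Ideal.isCoprime_iff_sup_eq.mpr
      (I.isMaximal.coprime_of_ne J.isMaximal fun e => hIJ (MaximalSpectrum.ext e))
  obtain ⟨y, hy⟩ := Ideal.quotientInfToPiQuotient_surj hco (fun I => Ideal.Quotient.mk _ (z I))
  obtain ⟨y, rfl⟩ := Ideal.Quotient.mk_surjective y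
  have hyI : ∀ I : MaximalSpectrum A, Ideal.Quotient.mkₐ F I.asIdeal y =
      Ideal.Quotient.mkₐ F I.asIdeal (z I) := fun I => congrFun hy I
  have hnil : IsNilpotent (aeval y f) := by
    rw [← mem_nilradical, nilradical, ← Ideal.jacobson_eq_radical, Ideal.jacobson, Submodule.mem_sInf]
    rintro I ⟨-, hI⟩
    have h1 := hz ⟨I, hI⟩
    rw [← aeval_algHom_apply, ← hyI ⟨I, hI⟩, aeval_algHom_apply] at h1
    exact Ideal.Quotient.eq_zero_iff_mem.mp h1
  have hu : IsUnit (aeval y (derivative f)) := by
    obtain ⟨a, b, hab⟩ := hsep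
    have e := congrArg (aeval y) hab
    rw [map_add, map_mul, map_mul, map_one] at e
    have h1 : IsNilpotent (aeval y a * aeval y f) := (Commute.all _ _).isNilpotent_mul_left hnil
    have h2 : IsUnit (aeval y b * aeval y (derivative f)) := by
      rw [eq_sub_of_add_eq' e]
      exact h1.isUnit_one_sub
    exact isUnit_of_mul_isUnit_right h2
  obtain ⟨r, ⟨-, hr⟩, -⟩ := existsUnique_nilpotent_sub_and_aeval_eq_zero hnil hu
  exact ⟨pb.lift r hr⟩

end embedding

end CfsgLib.Cover5
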