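import Cfsg.Agent.Cover5.Basic
import Cfsg.Prelude.Def_G2

/-!
# `G₂(q)`, `q` even, is covered by the stabilisers of two quadratic subalgebras
-/

set_option autoImplicit false
set_option linter.unusedSectionVars false
set_option linter.unusedVariables false
set_option linter.style.haveILetI false

namespace CfsgLib.Cover5.GTwo

open Cfsg.Lie
open scoped Matrix

variable {F : Type*} [Field F]

/-- The unit. -/
def one8 : Fin 8 → F := ![1, 0, 0, 0, 0, 0, 0, 1]
/-- The trace. -/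
def tr8 (x : Fin 8 → F) : F := x 0 + x 7
/-- The norm. -/
def nm8 (x : Fin 8 → F) : F := x 0 * x 7 - (x 1 * x 4 + x 2 * x 5 + x 3 * x 6)

theorem zorn_sq (x : Fin 8 → F) : zornMul x x = tr8 x • x - nm8 x • one8 := by
  ext i
  fin_cases i <;> simp [zornMul, dot3, cross3, tr8, nm8, one8] <;> ring

theorem one_mul8 (x : Fin 8 → F) : zornMul one8 x = x := by
  ext i
  fin_cases i <;> simp [zornMul, dot3, cross3, one8]

theorem mul_one8 (x : Fin 8 → F) : zornMul x one8 = x := by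
  ext i
  fin_cases i <;> simp [zornMul, dot3, cross3, one8]

/-- An element of `G₂` acting on vectors. -/
def app (g : G2 F) : (Fin 8 → F) →ₗ[F] (Fin 8 → F) := Matrix.toLin' (g.1 : Matrix (Fin 8) (Fin 8) F)

theorem app_mul (g h : G2 F) (x : Fin 8 → F) : app (g * h) x = app g (app h x) := by
  show Matrix.toLin' ((g.1 : Matrix (Fin 8) (Fin 8) F) * (h.1 : Matrix (Fin 8) (Fin 8) F)) x = _
  rw [Matrix.toLin'_mul]; rfl

theorem app_one (x : Fin 8 → F) : app (1 : G2 F) x = x := by simp [app]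

theorem app_inv (g : G2 F) (x : Fin 8 → F) : app g (app g⁻¹ x) = x := by
  rw [← app_mul, mul_inv_cancel, app_one]

theorem inv_app (g : G2 F) (x : Fin 8 → F) : app g⁻¹ (app g x) = x := by
  rw [← app_mul, inv_mul_cancel, app_one]

theorem app_zorn (g : G2 F) (x y : Fin 8 → F) :
    app g (zornMul x y) = zornMul (app g x) (app g y) := g.2 x y

theorem app_one8 (g : G2 F) : app g one8 = one8 := by
  have h := app_zorn g one8 (app g⁻¹ one8)
  rw [one_mul8, app_inv, mul_one8] at h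
  exact h.symm

theorem invariants (g : G2 F) (x : Fin 8 → F) : tr8 (app g x) = tr8 x ∧ nm8 (app g x) = nm8 x := by
  by_cases hx : ∃ c : F, app g x = c • one8
  · obtain ⟨c, hc⟩ := hx
    have : x = c • one8 := by
      have h := congrArg (app g⁻¹) hc
      rwa [inv_app, map_smul, app_one8] at h
    rw [hc, this]; exact ⟨rfl, rfl⟩
  push Not at hx
  have h1 := zorn_sq (app g x)
  rw [← app_zorn, zorn_sq, map_sub, map_smul, map_smul, app_one8] at h1
  have h2 : (tr8 x - tr8 (app g x)) • app g x = (nm8 x - nm8 (app g x)) • one8 := by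
    rw [sub_smul, sub_smul]
    linear_combination (norm := module) h1
  have h3 : tr8 x - tr8 (app g x) = 0 := by
    by_contra h
    apply hx ((tr8 x - tr8 (app g x))⁻¹ * (nm8 x - nm8 (app g x)))
    rw [← smul_smul, ← h2, smul_smul, inv_mul_cancel₀ h, one_smul]
  rw [h3, zero_smul] at h2
  have h4 := congrFun h2 0
  simp [one8] at h4
  exact ⟨(sub_eq_zero.mp h3).symm, (sub_eq_zero.mp h4.symm).symm⟩

/-- A linear map preserving the product with a linear left inverse, in `G₂`. -/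
theorem exists_auto (φ ψ : (Fin 8 → F) → (Fin 8 → F)) (hadd : ∀ x y, φ (x + y) = φ x + φ y)
    (hsmul : ∀ (c : F) x, φ (c • x) = c • φ x) (hinv : ∀ x, ψ (φ x) = x)
    (hm : ∀ x y, φ (zornMul x y) = zornMul (φ x) (φ y)) :
    ∃ g : G2 F, ∀ x, app g x = φ x := by
  let L : (Fin 8 → F) →ₗ[F] (Fin 8 → F) := { toFun := φ, map_add' := hadd, map_smul' := hsmul }
  have hinj : Function.Injective L.toMatrix'.mulVec := fun x y h => by
    rw [LinearMap.toMatrix'_mulVec, LinearMap.toMatrix'_mulVec] at h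
    have := congrArg ψ (show φ x = φ y from h)
    rwa [hinv, hinv] at this
  obtain ⟨u, hu⟩ := Matrix.mulVec_injective_iff_isUnit.1 hinj
  have key : ∀ x, (u : Matrix (Fin 8) (Fin 8) F) *ᵥ x = φ x := fun x => by
    rw [hu, LinearMap.toMatrix'_mulVec]; rfl
  refine ⟨⟨u, fun x y => ?_⟩, key⟩
  show (u : Matrix (Fin 8) (Fin 8) F) *ᵥ zornMul x y = _
  rw [key, hm]
  show _ = zornMul ((u : Matrix (Fin 8) (Fin 8) F) *ᵥ x) ((u : Matrix (Fin 8) (Fin 8) F) *ᵥ y)
  rw [key, key]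

/-- Interchanging the two idempotents. -/
theorem exists_swap : ∃ g : G2 F, ∀ x : Fin 8 → F,
    app g x = ![x 7, -x 4, -x 5, -x 6, -x 1, -x 2, -x 3, x 0] := by
  refine exists_auto _ (fun x => ![x 7, -x 4, -x 5, -x 6, -x 1, -x 2, -x 3, x 0])
    (fun x y => ?_) (fun c x => ?_) (fun x => ?_) (fun x y => ?_)
  all_goals ext i; fin_cases i <;> simp [zornMul, dot3, cross3] <;> ring

/-- The unipotent automorphisms. -/
theorem exists_shear (p q r : F) : ∃ g : G2 F, ∀ x : Fin 8 → F,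
    app g x = ![x 0 + (x 4 * p + x 5 * q + x 6 * r),
      x 1 + (x 7 - x 0) * p - (x 4 * p + x 5 * q + x 6 * r) * p,
      x 2 + (x 7 - x 0) * q - (x 4 * p + x 5 * q + x 6 * r) * q,
      x 3 + (x 7 - x 0) * r - (x 4 * p + x 5 * q + x 6 * r) * r,
      x 4 + (x 2 * r - x 3 * q), x 5 + (x 3 * p - x 1 * r), x 6 + (x 1 * q - x 2 * p),
      x 7 - (x 4 * p + x 5 * q + x 6 * r)] := by
  refine exists_auto _ (fun x => ![x 0 - (x 4 * p + x 5 * q + x 6 * r),
      x 1 - (x 7 - x 0) * p - (x 4 * p + x 5 * q + x 6 * r) * p,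
      x 2 - (x 7 - x 0) * q - (x 4 * p + x 5 * q + x 6 * r) * q,
      x 3 - (x 7 - x 0) * r - (x 4 * p + x 5 * q + x 6 * r) * r,
      x 4 - (x 2 * r - x 3 * q), x 5 - (x 3 * p - x 1 * r), x 6 - (x 1 * q - x 2 * p),
      x 7 + (x 4 * p + x 5 * q + x 6 * r)])
    (fun x y => ?_) (fun c x => ?_) (fun x => ?_) (fun x y => ?_)
  all_goals ext i; fin_cases i <;> simp [zornMul, dot3, cross3] <;> ring

/-- The special linear group: lower unitriangular part. -/
theorem exists_lower (s t : F) : ∃ g : G2 F, ∀ x : Fin 8 → F,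
    app g x = ![x 0, x 1, x 2 + s * x 1, x 3 + t * x 1, x 4 - s * x 5 - t * x 6, x 5, x 6, x 7] := by
  refine exists_auto _
    (fun x => ![x 0, x 1, x 2 - s * x 1, x 3 - t * x 1, x 4 + s * x 5 + t * x 6, x 5, x 6, x 7])
    (fun x y => ?_) (fun c x => ?_) (fun x => ?_) (fun x y => ?_)
  all_goals ext i; fin_cases i <;> simp [zornMul, dot3, cross3] <;> ring

/-- The special linear group: upper unitriangular part. -/
theorem exists_upper (s t : F) : ∃ g : G2 F, ∀ x : Fin 8 → F,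
    app g x = ![x 0, x 1 + s * x 2 + t * x 3, x 2, x 3, x 4, x 5 - s * x 4, x 6 - t * x 4, x 7] := by
  refine exists_auto _
    (fun x => ![x 0, x 1 - s * x 2 - t * x 3, x 2, x 3, x 4, x 5 + s * x 4, x 6 + t * x 4, x 7])
    (fun x y => ?_) (fun c x => ?_) (fun x => ?_) (fun x y => ?_)
  all_goals ext i; fin_cases i <;> simp [zornMul, dot3, cross3] <;> ring

/-- The standard element of trace one and norm `c`. -/
def rho (c : F) : Fin 8 → F := ![0, 1, 0, 0, -c, 0, 0, 1]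

/-- All elements of trace one and norm `c` are alike. -/
theorem exists_to_rho [CharP F 2] (x : Fin 8 → F) (ht : tr8 x = 1) :
    ∃ g : G2 F, app g x = rho (nm8 x) := by
  set c := nm8 x with hc
  suffices h : ∀ y : Fin 8 → F, tr8 y = 1 → nm8 y = c → y 0 = 0 → y 1 = 1 → y 2 = 0 → y 3 = 0 →
      ∃ g : G2 F, app g y = rho c by
    -- reduce to `α = 0`, `a = e₁`
    have step : ∀ (y : Fin 8 → F) (g : G2 F), tr8 y = 1 → nm8 y = c →
        tr8 (app g y) = 1 ∧ nm8 (app g y) = c := fun y g h1 h2 => by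
      rw [(invariants g y).1, (invariants g y).2]; exact ⟨h1, h2⟩
    have s3 : ∀ y : Fin 8 → F, tr8 y = 1 → nm8 y = c → y 0 = 0 → y 1 ≠ 0 ∨ y 2 ≠ 0 ∨ y 3 ≠ 0 →
        ∃ g : G2 F, app g y = rho c := by
      intro y h1 h2 h0 hne
      -- make the first coordinate one
      obtain ⟨g₁, z, hz, hz0, hz2⟩ : ∃ (g : G2 F) (z : Fin 8 → F),
          app g y = z ∧ z 0 = 0 ∧ z 2 ≠ 0 := by
        by_cases hy2 : y 2 = 0
        · by_cases hy1 : y 1 = 0
          · have hy3 : y 3 ≠ 0 := by tauto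
            obtain ⟨u, hu⟩ := exists_upper (F := F) 0 1
            obtain ⟨l, hl⟩ := exists_lower (F := F) 1 0
            refine ⟨l * u, _, rfl, ?_, ?_⟩
            · rw [app_mul, hl, hu]; simpa using h0
            · rw [app_mul, hl, hu]; simpa [hy2, hy1] using hy3
          · obtain ⟨l, hl⟩ := exists_lower (F := F) 1 0
            refine ⟨l, _, rfl, ?_, ?_⟩
            · rw [hl]; simpa using h0
            · rw [hl]; simpa [hy2] using hy1
        · exact ⟨1, y, app_one y, h0, hy2⟩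
      obtain ⟨u, hu⟩ := exists_upper (F := F) ((1 - z 1) / z 2) 0
      obtain ⟨l, hl⟩ := exists_lower (F := F) (-(z 2)) (-(z 3))
      have hz' := step y g₁ h1 h2
      rw [hz] at hz'
      have hw := step z (l * u) hz'.1 hz'.2
      have e1 : (1 - z 1) / z 2 * z 2 = 1 - z 1 := div_mul_cancel₀ _ hz2
      obtain ⟨g, hg⟩ := h (app (l * u) z) hw.1 hw.2 (by rw [app_mul, hl, hu]; simpa using hz0)
        (by rw [app_mul, hl, hu]; simp [e1]) (by rw [app_mul, hl, hu]; simp [e1])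
        (by rw [app_mul, hl, hu]; simp [e1])
      exact ⟨g * (l * u) * g₁, by rw [app_mul, app_mul, hz, hg]⟩
    have s2 : ∀ y : Fin 8 → F, tr8 y = 1 → nm8 y = c → y 0 = 0 →
        ∃ g : G2 F, app g y = rho c := by
      intro y h1 h2 h0
      by_cases ha : y 1 ≠ 0 ∨ y 2 ≠ 0 ∨ y 3 ≠ 0
      · exact s3 y h1 h2 h0 ha
      push Not at ha
      obtain ⟨a1, a2, a3⟩ := ha
      have h7 : y 7 = 1 := by simpa [tr8, h0] using h1
      -- a vector orthogonal to `b`
      obtain ⟨p, q, r, hb, hne⟩ : ∃ p q r : F, y 4 * p + y 5 * q + y 6 * r = 0 ∧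
          (p ≠ 0 ∨ q ≠ 0 ∨ r ≠ 0) := by
        by_cases h4 : y 4 = 0
        · exact ⟨1, 0, 0, by rw [h4]; ring, Or.inl one_ne_zero⟩
        · exact ⟨y 5, -y 4, 0, by ring, Or.inr (Or.inl (neg_ne_zero.mpr h4))⟩
      obtain ⟨g, hg⟩ := exists_shear p q r
      have hw := step y g h1 h2
      obtain ⟨g', hg'⟩ := s3 _ hw.1 hw.2 (by rw [hg]; simp [h0, hb])
        (by rw [hg]; simpa [h0, h7, a1, a2, a3, hb] using hne)
      exact ⟨g' * g, by rw [app_mul, hg']⟩
    have s1 : ∀ y : Fin 8 → F, tr8 y = 1 → nm8 y = c → y 4 ≠ 0 ∨ y 5 ≠ 0 ∨ y 6 ≠ 0 →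
        ∃ g : G2 F, app g y = rho c := by
      intro y h1 h2 hne
      obtain ⟨p, q, r, hb⟩ : ∃ p q r : F, y 4 * p + y 5 * q + y 6 * r = -y 0 := by
        rcases hne with h | h | h
        · exact ⟨-y 0 / y 4, 0, 0, by rw [mul_div_cancel₀ _ h]; ring⟩
        · exact ⟨0, -y 0 / y 5, 0, by rw [mul_div_cancel₀ _ h]; ring⟩
        · exact ⟨0, 0, -y 0 / y 6, by rw [mul_div_cancel₀ _ h]; ring⟩
      obtain ⟨g, hg⟩ := exists_shear p q r
      have hw := step y g h1 h2
      obtain ⟨g', hg'⟩ := s2 _ hw.1 hw.2 (by rw [hg]; simp [hb])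
      exact ⟨g' * g, by rw [app_mul, hg']⟩
    by_cases hb : x 4 ≠ 0 ∨ x 5 ≠ 0 ∨ x 6 ≠ 0
    · exact s1 x ht rfl hb
    push Not at hb
    obtain ⟨b4, b5, b6⟩ := hb
    obtain ⟨w, hw⟩ := exists_swap (F := F)
    by_cases ha : x 1 ≠ 0 ∨ x 2 ≠ 0 ∨ x 3 ≠ 0
    · have hh := step x w ht rfl
      obtain ⟨g, hg⟩ := s1 _ hh.1 hh.2 (by rw [hw]; simpa using ha)
      exact ⟨g * w, by rw [app_mul, hg]⟩
    push Not at ha
    obtain ⟨a1, a2, a3⟩ := ha
    by_cases hd : x 7 - x 0 = 0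
    · -- then the shear by `e₁` does nothing useful; but `x 0 + x 7 = 1`
      rcases eq_or_ne (x 0) 0 with h0 | h0
      · exact s2 x ht rfl h0
      · exfalso
        have e : x 7 = x 0 := sub_eq_zero.mp hd
        have h2 : (2 : F) * x 0 = 1 := by rw [← ht, tr8, e]; ring
        rw [CharTwo.two_eq_zero, zero_mul] at h2; exact zero_ne_one h2
    · obtain ⟨s, hs⟩ := exists_shear (F := F) 1 0 0
      have h1 := step x s ht rfl
      have h1' := step _ w h1.1 h1.2
      obtain ⟨g, hg⟩ := s1 _ h1'.1 h1'.2 (by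
        left
        rw [hw, hs]
        simpa [a1, a2, a3, b4, b5, b6] using sub_ne_zero.mpr (Ne.symm (sub_ne_zero.mp hd)))
      exact ⟨g * w * s, by rw [app_mul, app_mul, hg]⟩
  intro y h1 h2 h0 e1 e2 e3
  have h7 : y 7 = 1 := by simpa [tr8, h0] using h1
  have h4 : y 4 = -c := by
    rw [← h2, nm8, h0, e1, e2, e3]; ring
  obtain ⟨s, hs⟩ := exists_shear (F := F) 0 (-y 6) (y 5)
  obtain ⟨l, hl⟩ := exists_lower (F := F) (y 6) (-y 5)
  refine ⟨l * s, ?_⟩
  rw [app_mul, hl, hs]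
  ext i
  fin_cases i <;> simp [rho, h0, e1, e2, e3, h4, h7] <;> ring_nf <;> simp

end CfsgLib.Cover5.GTwo
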