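import Cfsg.Agent.Cover5.GTwo

/-!
# `G₂(q)`, `q` even, is covered by two subgroups
-/

set_option autoImplicit false
set_option linter.unusedSectionVars false
set_option linter.unusedVariables false

namespace CfsgLib.Cover5.GTwo

open Cfsg.Lie

variable {F : Type*} [Field F] [Finite F] [CharP F 2]

theorem neg_vec (x : Fin 8 → F) : x + x = 0 := by
  funext i; exact CharTwo.add_self_eq_zero (x i)

theorem tr8_shift (x : Fin 8 → F) (s : F) : tr8 (x + s • one8) = tr8 x := by
  simp [tr8, one8]
  linear_combination s * (CharP.cast_eq_zero F 2)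

theorem nm8_shift (x : Fin 8 → F) (s : F) :
    nm8 (x + s • one8) = nm8 x + s * tr8 x + s ^ 2 := by
  simp [nm8, tr8, one8]
  ring

/-- Every element fixes a pair `{a, a + 1}` with `tr a = 1`. -/
theorem exists_pair (g : G2 F) :
    ∃ a : Fin 8 → F, tr8 a = 1 ∧ (app g a = a ∨ app g a = a + one8) := by
  classical
  let T : (Fin 8 → F) →ₗ[F] F :=
    { toFun := tr8
      map_add' := fun x y => by simp [tr8]; ring
      map_smul' := fun c x => by simp [tr8]; ring }
  by_cases h : ∃ v, app g v = v ∧ tr8 v ≠ 0
  · obtain ⟨v, hv, hv0⟩ := h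
    refine ⟨(tr8 v)⁻¹ • v, ?_, Or.inl (by rw [map_smul, hv])⟩
    show T ((tr8 v)⁻¹ • v) = 1
    rw [map_smul]
    exact inv_mul_cancel₀ hv0
  push Not at h
  have hT : T ∈ (LinearMap.ker (app g - LinearMap.id)).dualAnnihilator := by
    rw [Submodule.mem_dualAnnihilator]
    intro v hv
    exact h v (sub_eq_zero.mp hv)
  rw [← LinearMap.range_dualMap_eq_dualAnnihilator_ker] at hT
  obtain ⟨φ, hφ⟩ := hT
  let P : (Fin 8 → F) → (Fin 8 → F) → F := fun x y => nm8 (x + y) - nm8 x - nm8 y
  have hP : ∀ x y, P x y = x 0 * y 7 + x 7 * y 0 -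
      (x 1 * y 4 + x 4 * y 1 + x 2 * y 5 + x 5 * y 2 + x 3 * y 6 + x 6 * y 3) := fun x y => by
    simp [P, nm8]; ring
  -- `φ` is polar to some `z`
  set e : Fin 8 → F := fun i => φ (Pi.single i 1) with he
  set z : Fin 8 → F := ![e 7, -e 4, -e 5, -e 6, -e 1, -e 2, -e 3, e 0] with hz
  have hPz : ∀ y, φ y = P z y := fun y => by
    conv_lhs => rw [pi_eq_sum_univ' y]
    rw [hP]
    simp [map_sum, Fin.sum_univ_eight, hz, he]
    ring
  have hinvP : ∀ x y, P (app g x) (app g y) = P x y := fun x y => by
    simp only [P, ← map_add, (invariants g _).2]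
  set w := app g⁻¹ z with hw
  have hgw : app g w = z := app_inv g z
  have key : ∀ y, P (w - z) y = P one8 y := fun y => by
    have h1 : tr8 y = φ (app g y) - φ y := by
      have := LinearMap.congr_fun hφ y
      simpa [T] using this.symm
    have h2 : P z (app g y) = P w y := by rw [← hgw, hinvP]
    rw [hPz, hPz, h2] at h1
    rw [show P one8 y = tr8 y by rw [hP]; simp [one8, tr8]; ring, h1, hP, hP, hP]
    simp
    ring
  have hwz : w - z = one8 := by
    have hsep : ∀ x : Fin 8 → F, (∀ y, P x y = P one8 y) → x = one8 := by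
      intro x hx
      have k := fun i => hx (Pi.single i 1)
      simp only [hP] at k
      ext i
      fin_cases i
      · simpa [one8] using k 7
      · simpa [one8] using k 4
      · simpa [one8] using k 5
      · simpa [one8] using k 6
      · simpa [one8] using k 1
      · simpa [one8] using k 2
      · simpa [one8] using k 3
      · simpa [one8] using k 0
    exact hsep _ key
  have hgw1 : app g w = w + one8 := by
    rw [hgw, ← hwz, ← add_sub_assoc, neg_vec, zero_sub]
    rw [eq_neg_iff_add_eq_zero, neg_vec]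
  refine ⟨w, ?_, Or.inr hgw1⟩
  have h1 := (invariants g w).2
  rw [hgw1, show w + one8 = w + (1 : F) • one8 by rw [one_smul], nm8_shift] at h1
  linear_combination h1 - (CharP.cast_eq_zero F 2)

/-- The stabiliser of the pair `{ρ, ρ + 1}`. -/
noncomputable def pairStab (r : Fin 8 → F) : Subgroup (G2 F) where
  carrier := {g | app g r = r ∨ app g r = r + one8}
  one_mem' := Or.inl (app_one r)
  mul_mem' := by
    rintro a b (ha | ha) (hb | hb)
    · exact Or.inl (by rw [app_mul, hb, ha])
    · exact Or.inr (by rw [app_mul, hb, map_add, ha, app_one8])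
    · exact Or.inr (by rw [app_mul, hb, ha])
    · exact Or.inl (by rw [app_mul, hb, map_add, ha, app_one8, add_assoc, neg_vec, add_zero])
  inv_mem' := by
    rintro a (ha | ha)
    · exact Or.inl (by conv_lhs => rw [← ha]
                       exact inv_app a r)
    · refine Or.inr ?_
      have h := congrArg (app a⁻¹) ha
      rw [inv_app, map_add, app_one8] at h
      calc app a⁻¹ r = app a⁻¹ r + (one8 + one8) := by rw [neg_vec, add_zero]
        _ = r + one8 := by rw [← add_assoc, ← h]

theorem pairStab_ne_top (c : F) : pairStab (rho c) ≠ ⊤ := by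
  intro htop
  obtain ⟨l, hl⟩ := exists_lower (F := F) 1 0
  have hmem : l ∈ pairStab (rho c) := by rw [htop]; trivial
  rcases hmem with h | h <;>
  · have h2 := congrFun h 2
    rw [hl] at h2
    simp [rho, one8] at h2

/-- `G₂(q)`, `q` even, is covered by the conjugates of two proper subgroups. -/
theorem g2_even_cover : TwoCover (G2 F) := by
  classical
  obtain ⟨c₁, hc₁⟩ : ∃ c₁ : F, ∀ c : F, (∀ s, s ^ 2 + s ≠ c) → ∃ s, s ^ 2 + s = c - c₁ := by
    by_cases h : ∃ c₁ : F, ∀ s, s ^ 2 + s ≠ c₁
    · obtain ⟨c₁, h₁⟩ := h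
      refine ⟨c₁, fun c hc => ?_⟩
      let f : F →+ F :=
        { toFun := fun t => t ^ 2 + t
          map_zero' := by simp
          map_add' := fun a b => by
            linear_combination (a * b) * (CharP.cast_eq_zero F 2) }
      have hker : Nat.card f.ker = 2 := by
        rw [Nat.card_eq_two_iff]
        refine ⟨⟨0, f.map_zero⟩, ⟨1, show (1 : F) ^ 2 + 1 = 0 by
          linear_combination (CharP.cast_eq_zero F 2)⟩,
          fun h => zero_ne_one (congrArg Subtype.val h), ?_⟩
        refine Set.eq_univ_of_forall fun x => ?_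
        have hx : (x : F) * ((x : F) + 1) = 0 := by
          have h' : (x : F) ^ 2 + (x : F) = 0 := x.2
          linear_combination h'
        rcases mul_eq_zero.mp hx with h | h
        · exact Or.inl (Subtype.ext h)
        · exact Or.inr (Subtype.ext (by linear_combination h - (CharP.cast_eq_zero F 2)))
      have hidx : f.range.index = 2 := by
        have h1 := AddSubgroup.card_mul_index f.ker
        rw [hker, AddSubgroup.index_ker, Nat.mul_comm] at h1
        have h2 := AddSubgroup.card_mul_index f.range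
        have h3 : 0 < Nat.card f.range := Nat.card_pos
        have h4 : Nat.card f.range * f.range.index = Nat.card f.range * 2 := by rw [h2, h1]
        exact Nat.eq_of_mul_eq_mul_left h3 h4
      obtain ⟨s, hs⟩ : c - c₁ ∈ f.range := by
        rw [sub_eq_add_neg, AddSubgroup.add_mem_iff_of_index_two hidx, neg_mem_iff]
        exact iff_of_false (fun ⟨s, hs⟩ => hc s hs) (fun ⟨s, hs⟩ => h₁ s hs)
      exact ⟨s, hs⟩
    · push Not at h
      exact ⟨0, fun c hc => absurd (h c).choose_spec (hc _)⟩
  refine ⟨pairStab (rho 0), pairStab (rho c₁), pairStab_ne_top 0, pairStab_ne_top c₁, fun g => ?_⟩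
  obtain ⟨a, hta, hga⟩ := exists_pair g
  have hmove : ∀ s : F, ∀ cc : F, nm8 (a + s • one8) = cc →
      ∃ x : G2 F, x * g * x⁻¹ ∈ pairStab (rho cc) := by
    intro s cc hs
    obtain ⟨x, hx⟩ := exists_to_rho (a + s • one8) (by rw [tr8_shift, hta])
    rw [hs] at hx
    refine ⟨x, ?_⟩
    have hback : app x⁻¹ (rho cc) = a + s • one8 := by rw [← hx, inv_app]
    rcases hga with h | h
    · left
      rw [app_mul, app_mul, hback, map_add, map_smul, h, app_one8, hx]
    · right
      rw [app_mul, app_mul, hback, map_add, map_smul, h, app_one8,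
        show a + one8 + s • one8 = (a + s • one8) + one8 by abel, map_add, hx, app_one8]
  by_cases hs : ∃ s, s ^ 2 + s = nm8 a
  · obtain ⟨s, hs⟩ := hs
    obtain ⟨x, hx⟩ := hmove s 0 (by
      rw [nm8_shift, hta]
      linear_combination hs + (nm8 a) * (CharP.cast_eq_zero F 2))
    exact ⟨x, Or.inl hx⟩
  · push Not at hs
    obtain ⟨s, hs'⟩ := hc₁ _ hs
    obtain ⟨x, hx⟩ := hmove s c₁ (by
      rw [nm8_shift, hta]
      linear_combination hs' + (nm8 a - c₁) * (CharP.cast_eq_zero F 2))
    exact ⟨x, Or.inr hx⟩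

end CfsgLib.Cover5.GTwo
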