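import Cfsg.Agent.Cover5.Linear
import Cfsg.Agent.Unitary.Simple
import Cfsg.Agent.Unitary.Isotropic

/-!
# Invariant subspaces of a unitary isometry
-/

set_option autoImplicit false
set_option linter.unusedSectionVars false
set_option linter.unusedVariables false

namespace CfsgLib.Cover5

open Polynomial CfsgLib.Unitary CfsgLib.Forms

/-- An involution of a finite field inducing `x ↦ x^q` on the subfield with `q²` elements: the
degree is odd and the involution is `x ↦ x^(q^d)`. -/
theorem involution_field {F : Type*} [Field F] [Finite F] {q : ℕ} (hF : Nat.card F = q ^ 2)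
    {E : Type*} [Field E] [Algebra F E] [FiniteDimensional F E] (σ : E →+* E)
    (hσ : ∀ x, σ (σ x) = x) (hσF : ∀ a : F, σ (algebraMap F E a) = algebraMap F E (a ^ q)) :
    Odd (Module.finrank F E) ∧ ∀ x, σ x = x ^ q ^ Module.finrank F E := by
  classical
  set d := Module.finrank F E with hd
  have : Finite E := Module.finite_of_finite F
  have hinj := (algebraMap F E).injective
  obtain ⟨a₀, ha₀⟩ : ∃ a : F, a ^ q ≠ a := by
    by_contra h
    push Not at h
    exact frobQ_ne_id hF (RingHom.ext fun a => h a)
  set θ := algebraMap F E a₀ with hθ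
  have hθσ : σ θ ≠ θ := by rw [hθ, hσF]; exact fun e => ha₀ (hinj e)
  let E₀ : Subfield E := σ.eqLocusField (RingHom.id E)
  have hmem : ∀ x, x ∈ E₀ ↔ σ x = x := fun x => Iff.rfl
  -- `E = E₀ ⊕ E₀ θ`
  have hbij : Function.Bijective (fun z : E₀ × E₀ => (z.1 : E) + z.2 * θ) := by
    constructor
    · rintro ⟨a, b⟩ ⟨a', b'⟩ e
      simp only at e
      have e' := congrArg σ e
      simp only [map_add, map_mul, (hmem _).mp a.2, (hmem _).mp b.2, (hmem _).mp a'.2,
        (hmem _).mp b'.2] at e'
      have h1 : ((b : E) - b') * (σ θ - θ) = 0 := by linear_combination e' - e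
      have hb : (b : E) = b' := by
        rcases mul_eq_zero.mp h1 with h | h
        · exact sub_eq_zero.mp h
        · exact absurd (sub_eq_zero.mp h) hθσ
      have ha : (a : E) = a' := by rw [hb] at e; exact add_right_cancel e
      rw [Subtype.ext ha, Subtype.ext hb]
    · intro x
      have hne : σ θ - θ ≠ 0 := sub_ne_zero.mpr hθσ
      have hb : (σ x - x) / (σ θ - θ) ∈ E₀ := by
        rw [hmem, map_div₀, map_sub, map_sub, hσ, hσ, ← neg_sub (σ x) x, ← neg_sub (σ θ) θ,
          neg_div_neg_eq]
      have ha : x - (σ x - x) / (σ θ - θ) * θ ∈ E₀ := by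
        rw [hmem, map_sub, map_mul, (hmem _).mp hb]
        field_simp
        ring
      exact ⟨(⟨_, ha⟩, ⟨_, hb⟩), sub_add_cancel x _⟩
  have hcard : Nat.card E₀ = q ^ d := by
    have h1 := Nat.card_eq_of_bijective _ hbij
    rw [Nat.card_prod, Module.natCard_eq_pow_finrank (K := F) (V := E), hF, ← pow_mul, ← hd,
      show 2 * d = d + d by ring, pow_add] at h1
    exact Nat.mul_self_inj.mp h1
  have hpow : ∀ x ∈ E₀, x ^ q ^ d = x := by
    intro x hx
    haveI := Fintype.ofFinite E₀
    have h1 := FiniteField.pow_card (⟨x, hx⟩ : E₀)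
    rw [Fintype.card_eq_nat_card, hcard] at h1
    exact congrArg Subtype.val h1
  obtain ⟨p, hp⟩ := CharP.exists E
  have : Fact p.Prime := ⟨CharP.char_is_prime E p⟩
  have hqd : ∃ k, q ^ d = p ^ k := by
    have : CharP E₀ p := inferInstance
    haveI := Fintype.ofFinite E₀
    obtain ⟨k, -, hk⟩ := FiniteField.card E₀ p
    exact ⟨k, by rw [← hcard, Nat.card_eq_fintype_card, hk]⟩
  have hadd : ∀ x y : E, (x + y) ^ q ^ d = x ^ q ^ d + y ^ q ^ d := by
    obtain ⟨k, hk⟩ := hqd
    rw [hk]; exact fun x y => add_pow_char_pow x y p k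
  have hodd : Odd d := by
    rcases Nat.even_or_odd d with ⟨k, hk⟩ | h
    · exfalso
      -- then `θ` lies among the `q^d` roots of `X^(q^d) - X`, that is in `E₀`
      have hθd : θ ^ q ^ d = θ := by
        have h2 : ∀ (j : ℕ) (a : F), a ^ (q ^ 2) ^ j = a := by
          intro j
          induction j with
          | zero => simp
          | succ j ih =>
            intro a
            rw [pow_succ, pow_mul, ih a, ← hF]
            haveI := Fintype.ofFinite F
            rw [Nat.card_eq_fintype_card]; exact FiniteField.pow_card a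
        rw [hθ, ← map_pow, show q ^ d = (q ^ 2) ^ k by rw [hk, ← pow_mul]; ring_nf, h2]
      obtain ⟨⟨a, b⟩, hab⟩ := hbij.2 θ
      simp only at hab
      -- every element is fixed by the power map
      have hall : ∀ x : E, x ^ q ^ d = x := by
        intro x
        obtain ⟨⟨a, b⟩, rfl⟩ := hbij.2 x
        simp only [hadd, mul_pow, hpow _ a.2, hpow _ b.2, hθd]
      haveI := Fintype.ofFinite E
      have hle : Nat.card E ≤ q ^ d := by
        have h1 : 1 < q ^ d := by
          rw [← hcard]
          haveI : Nontrivial E₀ := inferInstance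
          exact Finite.one_lt_card
        rw [Nat.card_eq_fintype_card, ← Finset.card_univ]
        calc Finset.univ.card ≤ ((X ^ q ^ d - X : E[X]).roots.toFinset).card := by
              refine Finset.card_le_card fun x _ => ?_
              rw [Multiset.mem_toFinset, mem_roots (FiniteField.X_pow_card_sub_X_ne_zero E h1)]
              simp [IsRoot, hall x]
          _ ≤ Multiset.card (X ^ q ^ d - X : E[X]).roots := Multiset.toFinset_card_le _
          _ ≤ (X ^ q ^ d - X : E[X]).natDegree := card_roots' _
          _ = q ^ d := FiniteField.X_pow_card_sub_X_natDegree_eq E h1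
      rw [← Nat.card_eq_of_bijective _ hbij, Nat.card_prod, hcard] at hle
      have : 1 < q ^ d := by
        rw [← hcard]; exact Finite.one_lt_card
      nlinarith
    · exact h
  refine ⟨hodd, fun x => ?_⟩
  have hθd : θ ^ q ^ d = σ θ := by
    obtain ⟨k, hk⟩ := hodd
    have h2 : ∀ (j : ℕ) (a : F), a ^ (q ^ 2) ^ j = a := by
      intro j
      induction j with
      | zero => simp
      | succ j ih =>
        intro a
        rw [pow_succ, pow_mul, ih a, ← hF]
        haveI := Fintype.ofFinite F
        rw [Nat.card_eq_fintype_card]; exact FiniteField.pow_card a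
    rw [hθ, hσF, ← map_pow, hk, pow_succ, pow_mul, show q ^ (2 * k) = (q ^ 2) ^ k by rw [← pow_mul],
      h2]
  obtain ⟨⟨a, b⟩, rfl⟩ := hbij.2 x
  simp only [map_add, map_mul, (hmem _).mp a.2, (hmem _).mp b.2, hadd, mul_pow, hpow _ a.2,
    hpow _ b.2, hθd]

variable {F : Type*} [Field F] [Finite F] {q : ℕ} (hF : Nat.card F = q ^ 2) {n : ℕ}

local notation "Vn" => (Fin n → F)
local notation "hh" => Cfsg.hermForm n F q

/-- `g` preserves the standard Hermitian form. -/
def IsIso (q : ℕ) (g : Module.End F (Fin n → F)) : Prop :=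
  ∀ u v, Cfsg.hermForm n F q (g u) (g v) = Cfsg.hermForm n F q u v

variable {g : Module.End F (Fin n → F)}

include hF in
theorem IsIso.injective (hg : IsIso q g) : Function.Injective g := by
  rw [injective_iff_map_eq_zero]
  intro v hv
  apply uForm_nondeg hF n
  intro u
  rw [uForm_h, ← hg u v, hv]
  exact (uForm hF n).zero_right _

include hF in
theorem IsIso.aeval_adj (hg : IsIso q g) {N : ℕ} (s : F[X]) (hs : s.natDegree ≤ N) (u v : Vn) :
    hh (aeval g s u) ((g ^ N) v) = hh u (aeval g (reflect N (s.map (frobQ hF))) v) := by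
  have hk : ∀ (i : ℕ) (a b : Vn), hh ((g ^ i) a) ((g ^ i) b) = hh a b := by
    intro i
    induction i with
    | zero => simp
    | succ i ih =>
      intro a b
      rw [pow_succ, Module.End.mul_apply, Module.End.mul_apply, ih, hg]
  refine Polynomial.induction_with_natDegree_le (motive := fun s : F[X] =>
      hh (aeval g s u) ((g ^ N) v) = hh u (aeval g (reflect N (s.map (frobQ hF))) v))
    N ?_ ?_ ?_ s hs
  ·
    simp only [map_zero, Polynomial.map_zero, reflect_zero, LinearMap.zero_apply]
    exact ((uForm hF n).zero_left _).trans ((uForm hF n).zero_right _).symm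
  · intro i c hc hi
    rw [Polynomial.map_mul, Polynomial.map_C, Polynomial.map_pow, Polynomial.map_X,
      reflect_C_mul_X_pow, revAt_le hi]
    simp only [map_mul, aeval_C, map_pow, aeval_X, Module.End.mul_apply,
      Module.algebraMap_end_apply]
    rw [show N = i + (N - i) by omega, pow_add, Module.End.mul_apply,
      show i + (N - i) - i = N - i by omega, herm_smul_left, hk, herm_smul_right hF, frobQ_apply,
      pow_q_q hF]
  · intro f f' _ _ ih ih'
    simp only [Polynomial.map_add, reflect_add, map_add, LinearMap.add_apply]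
    rw [herm_add_left, herm_add_right hF, ih, ih']

/-- The kernel of `p(g)`. -/
noncomputable def kerPoly (g : Module.End F (Fin n → F)) (p : F[X]) : Submodule F (Fin n → F) :=
  LinearMap.ker (aeval g p)

theorem aeval_comm (g : Module.End F (Fin n → F)) (r : F[X]) (v : Fin n → F) :
    aeval g r (g v) = g (aeval g r v) := by
  have a1 := map_mul (aeval g) X r
  have a2 := map_mul (aeval g) r X
  rw [mul_comm r X, a1, aeval_X] at a2
  exact (LinearMap.congr_fun a2 v).symm

theorem kerPoly_invariant (g : Module.End F (Fin n → F)) (p : F[X]) {v : Fin n → F}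
    (hv : v ∈ kerPoly g p) : g v ∈ kerPoly g p := by
  rw [kerPoly, LinearMap.mem_ker] at hv ⊢
  rw [aeval_comm, hv, map_zero]

theorem kerPoly_ne_bot (g : Module.End F (Fin n → F)) {p : F[X]} (hp : Irreducible p)
    (hpd : p ∣ minpoly F g) : kerPoly g p ≠ ⊥ := by
  intro hb
  obtain ⟨r, hr⟩ := hpd
  have hint : IsIntegral F g := Algebra.IsIntegral.isIntegral g
  have h0 : minpoly F g ≠ 0 := minpoly.ne_zero hint
  have hinj : Function.Injective (aeval g p) := LinearMap.ker_eq_bot.mp hb
  have hr0 : aeval g r = 0 := by
    refine LinearMap.ext fun v => ?_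
    apply hinj
    rw [← Module.End.mul_apply, ← map_mul, ← hr, minpoly.aeval]; simp
  have hle := natDegree_le_of_dvd (minpoly.dvd F g hr0) (right_ne_zero_of_mul (hr ▸ h0))
  rw [hr, natDegree_mul hp.ne_zero (right_ne_zero_of_mul (hr ▸ h0))] at hle
  have := hp.natDegree_pos
  omega

include hF in
/-- For an irreducible factor `p` of the minimal polynomial: either the kernel of `p(g)` is totally
isotropic, or `p` is self-conjugate; then its degree is odd and `root ↦ root⁻¹` is the involution. -/
theorem IsIso.isotropic_or_selfconj (hg : IsIso q g) {p : F[X]} (hp : Irreducible p)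
    (hpd : p ∣ minpoly F g) :
    (∀ u ∈ kerPoly g p, ∀ v ∈ kerPoly g p, hh u v = 0) ∨
      (Odd p.natDegree ∧ ∀ (E : Type _) [Field E] [Algebra F E] [FiniteDimensional F E] (a : E),
        Module.finrank F E = p.natDegree → aeval a p = 0 → a⁻¹ = a ^ q ^ p.natDegree) := by
  classical
  set N := p.natDegree with hN
  set r := reflect N (p.map (frobQ hF)) with hr
  by_cases hpr : p ∣ r
  · right
    have hp0 : p.coeff 0 ≠ 0 := by
      intro h0
      obtain ⟨s, hs⟩ := X_dvd_iff.mpr h0
      rcases hp.isUnit_or_isUnit hs with h | h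
      · exact not_isUnit_X h
      · apply kerPoly_ne_bot g hp hpd
        rw [kerPoly, LinearMap.ker_eq_bot, hs, map_mul, aeval_X]
        have hu : IsUnit (aeval g s) := h.map _
        exact hg.injective hF |>.comp (Module.End.isUnit_iff _ |>.mp hu).1
    haveI := Fact.mk hp
    let pb := AdjoinRoot.powerBasis hp.ne_zero
    haveI : FiniteDimensional F (AdjoinRoot p) := pb.finite
    set α := AdjoinRoot.root p with hα
    have hα0 : α ≠ 0 := by
      intro h0
      apply hp0
      have := AdjoinRoot.eval₂_root p
      rw [← hα, h0, eval₂_at_zero] at this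
      exact (AdjoinRoot.of p).injective (by rw [this, map_zero])
    -- the involution
    have hroot : p.eval₂ ((algebraMap F (AdjoinRoot p)).comp (frobQ hF)) α⁻¹ = 0 := by
      letI := invertibleOfNonzero (inv_ne_zero hα0)
      have h1 : eval₂ (algebraMap F (AdjoinRoot p)) (⅟(α⁻¹)) r = 0 := by
        rw [invOf_eq_inv, inv_inv]
        obtain ⟨s, hs⟩ := hpr
        rw [hs, eval₂_mul, AdjoinRoot.algebraMap_eq, AdjoinRoot.eval₂_root, zero_mul]
      rw [hr, eval₂_reflect_eq_zero_iff _ _ _ _ (natDegree_map_le.trans le_rfl), eval₂_map] at h1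
      exact h1
    let σ : AdjoinRoot p →+* AdjoinRoot p :=
      AdjoinRoot.lift ((algebraMap F (AdjoinRoot p)).comp (frobQ hF)) α⁻¹ hroot
    have hσα : σ α = α⁻¹ := AdjoinRoot.lift_root hroot
    have hσF : ∀ a : F, σ (algebraMap F _ a) = algebraMap F _ (a ^ q) := fun a => by
      rw [AdjoinRoot.algebraMap_eq]
      exact AdjoinRoot.lift_of hroot
    have hσσ : ∀ x, σ (σ x) = x := by
      intro x
      obtain ⟨f, rfl⟩ := AdjoinRoot.mk_surjective x
      have : (σ.comp σ).comp (AdjoinRoot.mk p) = AdjoinRoot.mk p := by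
        refine Polynomial.ringHom_ext (fun a => ?_) ?_
        · show σ (σ (AdjoinRoot.mk p (C a))) = _
          rw [AdjoinRoot.mk_C, ← AdjoinRoot.algebraMap_eq, hσF, hσF, pow_q_q hF]
        · show σ (σ (AdjoinRoot.mk p X)) = _
          rw [AdjoinRoot.mk_X, ← hα, hσα, map_inv₀, hσα, inv_inv]
      exact RingHom.congr_fun this f
    obtain ⟨hodd, hpow⟩ := involution_field hF σ hσσ hσF
    have hd : Module.finrank F (AdjoinRoot p) = N := by
      rw [pb.finrank, AdjoinRoot.powerBasis_dim]
    rw [hd] at hodd hpow
    refine ⟨hodd, fun E _ _ _ a hE ha => ?_⟩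
    set L := AdjoinRoot.liftAlgHom p (Algebra.ofId F E) a ha with hL
    have hLα : L α = a := AdjoinRoot.lift_root ha
    have h1 := congrArg L (hσα.symm.trans (hpow α))
    rw [map_inv₀, map_pow, hLα] at h1
    exact h1
  · left
    intro u hu v hv
    rw [kerPoly, LinearMap.mem_ker] at hu hv
    obtain ⟨a, b, hab⟩ := (hp.coprime_iff_not_dvd.mpr hpr)
    have h1 : v = aeval g r (aeval g b v) := by
      have := congrArg (fun f => aeval g f v) hab
      simp only [map_add, map_mul, map_one, LinearMap.add_apply, Module.End.mul_apply,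
        Module.End.one_apply, hv, map_zero, zero_add] at this
      rw [← Module.End.mul_apply, ← map_mul, mul_comm, map_mul, Module.End.mul_apply]
      exact this.symm
    rw [h1, hr, ← hg.aeval_adj hF p le_rfl, hu]
    exact (uForm hF n).zero_left _

include hF in
/-- The totally isotropic subspaces have at most half the dimension. -/
theorem two_mul_finrank_le (W : Submodule F Vn) (hW : ∀ u ∈ W, ∀ v ∈ W, hh u v = 0) :
    2 * Module.finrank F W ≤ n := by
  classical
  let T : Vn →ₗ[F] (Fin (Module.finrank F W) → F) :=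
    { toFun := fun x i => hh x (Module.finBasis F W i : Vn)
      map_add' := fun x y => by ext i; simp [herm_add_left]
      map_smul' := fun c x => by ext i; simp [herm_smul_left] }
  have hker : W ≤ LinearMap.ker T := fun x hx => by
    rw [LinearMap.mem_ker]; ext i
    exact hW x hx _ (Module.finBasis F W i).2
  have hsurj : LinearMap.range T = ⊤ := by
    by_contra hne
    obtain ⟨f, hf0, hfle⟩ := Submodule.exists_le_ker_of_lt_top _ (lt_top_iff_ne_top.mpr hne)
    set c : Fin (Module.finrank F W) → F := fun i => f (Pi.single i 1) with hc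
    have hfsum : ∀ y, f y = ∑ i, y i * c i := fun y => by
      conv_lhs => rw [pi_eq_sum_univ' y]
      simp [map_sum, hc]
    have h2 : ∀ x, hh x (∑ i, (c i) ^ q • (Module.finBasis F W i : Vn)) = 0 := by
      intro x
      have h3 : f (T x) = 0 := hfle ⟨x, rfl⟩
      rw [hfsum] at h3
      rw [← uForm_h hF, RForm.sum_right]
      refine Eq.trans (Finset.sum_congr rfl fun i _ => ?_) h3
      rw [(uForm hF n).smul_right, uForm_σ, pow_q_q hF, mul_comm]; rfl
    have h4 : (∑ i, (c i) ^ q • Module.finBasis F W i : W) = 0 := by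
      refine Subtype.ext (uForm_nondeg hF n _ fun x => ?_)
      simpa [uForm_h] using h2 x
    have h5 := Fintype.linearIndependent_iff.mp (Module.finBasis F W).linearIndependent _ h4
    apply hf0
    ext i
    simp only [LinearMap.comp_apply, LinearMap.single_apply, LinearMap.zero_apply]
    exact eq_zero_of_pow_eq_zero (h5 i)
  have h1 := T.finrank_range_add_finrank_ker
  rw [hsurj, finrank_top, Module.finrank_fin_fun, Module.finrank_fin_fun] at h1
  have h2 := Submodule.finrank_mono hker
  omega

/-- Some line over the fixed vector is sent to itself modulo it, if all factors are linear. -/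
theorem exists_sub_mem (g : Module.End F (Fin n → F)) {v : Fin n → F}
    (hlin : ∀ p : F[X], Irreducible p → p ∣ minpoly F g → p.natDegree = 1)
    (P : Submodule F (Fin n → F)) (hP : ∀ x ∈ P, g x ∈ P) {y : Fin n → F} (hy : y ∈ P)
    (hyv : y ∉ Submodule.span F {v}) :
    ∃ w ∈ P, w ∉ Submodule.span F {v} ∧ ∃ μ c : F, g w = μ • w + c • v := by
  have hPa : ∀ (s : F[X]) (x : Fin n → F), x ∈ P → aeval g s x ∈ P := by
    intro s
    induction s using Polynomial.induction_on' with
    | add a b ha hb => intro x hx; rw [map_add, LinearMap.add_apply]; exact add_mem (ha x hx) (hb x hx)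
    | monomial i c =>
      intro x hx
      rw [aeval_monomial, Module.End.mul_apply, Module.algebraMap_end_apply]
      refine P.smul_mem _ ?_
      induction i with
      | zero => simpa using hx
      | succ i ih => rw [pow_succ', Module.End.mul_apply]; exact hP _ ih
  suffices h : ∀ (k : ℕ) (s : F[X]), s.natDegree = k → s ∣ minpoly F g → s ≠ 0 →
      aeval g s y ∈ Submodule.span F {v} → ∃ w ∈ P, w ∉ Submodule.span F {v} ∧
        ∃ μ c : F, g w = μ • w + c • v by
    exact h _ (minpoly F g) rfl dvd_rfl (minpoly.ne_zero (Algebra.IsIntegral.isIntegral g))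
      (by rw [minpoly.aeval]; exact Submodule.zero_mem _)
  intro k
  induction k using Nat.strong_induction_on with
  | _ k ih =>
    intro s hsk hsd hs0 hsy
    have hnu : ¬ IsUnit s := by
      intro hu
      obtain ⟨a, ha, rfl⟩ := Polynomial.isUnit_iff.mp hu
      rw [aeval_C, Module.algebraMap_end_apply] at hsy
      exact hyv (by simpa [smul_smul, inv_mul_cancel₀ ha.ne_zero] using
        (Submodule.span F {v}).smul_mem a⁻¹ hsy)
    obtain ⟨p, hp, hps⟩ := WfDvdMonoid.exists_irreducible_factor hnu hs0
    obtain ⟨t, rfl⟩ := hps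
    have hp1 := hlin p hp (dvd_trans (dvd_mul_right p t) hsd)
    obtain ⟨a, ha, b, rfl⟩ := Polynomial.natDegree_eq_one.mp hp1
    have ht0 : t ≠ 0 := right_ne_zero_of_mul hs0
    by_cases hty : aeval g t y ∈ Submodule.span F {v}
    · refine ih t.natDegree ?_ t rfl (dvd_trans (dvd_mul_left _ _) hsd) ht0 hty
      rw [← hsk, natDegree_mul hp.ne_zero ht0, hp1]; omega
    · refine ⟨aeval g t y, hPa t y hy, hty, ?_⟩
      rw [map_mul, Module.End.mul_apply] at hsy
      obtain ⟨e, he⟩ := Submodule.mem_span_singleton.mp hsy
      refine ⟨-(b / a), e / a, ?_⟩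
      simp only [map_add, map_mul, aeval_C, aeval_X, LinearMap.add_apply, Module.End.mul_apply,
        Module.algebraMap_end_apply] at he
      apply smul_right_injective _ ha
      simp only [smul_add, smul_smul]
      rw [mul_div_cancel₀ e ha, show a * -(b / a) = -b by field_simp, he, neg_smul]
      abel

end CfsgLib.Cover5
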