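import Cfsg.Agent.Cover5.Basic

/-!
# Two subgroups covering `PSL_n` for `n = 2, 3, 4`
-/

set_option autoImplicit false
set_option linter.unusedSectionVars false

namespace CfsgLib.Cover5

open Polynomial

variable {F : Type*} [Field F] [Finite F]
variable {V : Type*} [AddCommGroup V] [Module F V] [FiniteDimensional F V]

/-- If every irreducible factor of the minimal polynomial has degree divisible by `[E : F]`,
some copy of `E` commutes with the endomorphism, inside the algebra it generates. -/
theorem exists_algHom_adjoin (E : Type*) [Field E] [Algebra F E] [FiniteDimensional F E]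
    (g : Module.End F V)
    (h : ∀ p : F[X], Irreducible p → p.Monic → p ∣ minpoly F g →
      Module.finrank F E ∣ p.natDegree) :
    ∃ ψ : E →ₐ[F] Module.End F V, ∀ e, ∃ r : F[X], ψ e = aeval g r := by
  classical
  set m := minpoly F g with hm
  have hint : IsIntegral F g := Algebra.IsIntegral.isIntegral g
  have hmm : m.Monic := minpoly.monic hint
  have : FiniteDimensional F (AdjoinRoot m) := hmm.finite_adjoinRoot
  have hA : ∀ I : Ideal (AdjoinRoot m), I.IsMaximal →
      Module.finrank F E ∣ Module.finrank F (AdjoinRoot m ⧸ I) := by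
    intro I hI
    letI := Ideal.Quotient.field I
    let π := Ideal.Quotient.mkₐ F I
    set x := π (AdjoinRoot.root m) with hx
    have hxint : IsIntegral F x := Algebra.IsIntegral.isIntegral x
    have htop : Algebra.adjoin F ({x} : Set (AdjoinRoot m ⧸ I)) = ⊤ := by
      have := congrArg (Subalgebra.map π) (AdjoinRoot.adjoinRoot_eq_top (f := m))
      rw [AlgHom.map_adjoin, Set.image_singleton, Algebra.map_top] at this
      rw [hx, this, (AlgHom.range_eq_top π).mpr (Ideal.Quotient.mkₐ_surjective F I)]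
    have hfr : Module.finrank F (AdjoinRoot m ⧸ I) = (minpoly F x).natDegree := by
      have e := (Algebra.adjoin.powerBasis hxint).finrank
      rw [Algebra.adjoin.powerBasis_dim] at e
      rw [← e, htop]
      exact (Subalgebra.topEquiv (R := F) (A := AdjoinRoot m ⧸ I)).toLinearEquiv.finrank_eq.symm
    rw [hfr]
    refine h _ (minpoly.irreducible hxint) (minpoly.monic hxint) (minpoly.dvd F x ?_)
    rw [hx, aeval_algHom_apply, AdjoinRoot.aeval_eq, AdjoinRoot.mk_self, map_zero]
  obtain ⟨φ⟩ := exists_algHom E hA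
  have hz : aeval g m = 0 := minpoly.aeval F g
  let L : AdjoinRoot m →ₐ[F] Module.End F V :=
    Ideal.Quotient.liftₐ (Ideal.span {m}) (aeval g) (fun a ha => by
      obtain ⟨b, rfl⟩ := Ideal.mem_span_singleton.mp ha
      rw [map_mul, hz, zero_mul])
  have hL : ∀ r : F[X], L (AdjoinRoot.mk m r) = aeval g r := fun r => rfl
  refine ⟨L.comp φ, fun e => ?_⟩
  obtain ⟨r, hr⟩ := AdjoinRoot.mk_surjective (φ e)
  exact ⟨r, by rw [← hL, hr]; rfl⟩

variable {E : Type*} [Field E] [Algebra F E] [FiniteDimensional F E]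

/-- `V` with `E` acting through `φ`. -/
def Tw (_φ : E →ₐ[F] Module.End F V) : Type _ := V

noncomputable instance (φ : E →ₐ[F] Module.End F V) : AddCommGroup (Tw φ) :=
  inferInstanceAs (AddCommGroup V)

noncomputable instance instF (φ : E →ₐ[F] Module.End F V) : Module F (Tw φ) :=
  inferInstanceAs (Module F V)

noncomputable instance instE (φ : E →ₐ[F] Module.End F V) : Module E (Tw φ) :=
  Module.compHom V φ.toRingHom

instance (φ : E →ₐ[F] Module.End F V) : IsScalarTower F E (Tw φ) :=
  ⟨fun c e v => by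
    show φ (c • e) v = c • φ e v
    rw [map_smul]; rfl⟩

instance (φ : E →ₐ[F] Module.End F V) : FiniteDimensional F (Tw φ) :=
  inferInstanceAs (FiniteDimensional F V)

/-- Two copies of `E` in `End V` are conjugate. -/
theorem exists_intertwine (φ ψ : E →ₐ[F] Module.End F V) :
    ∃ x : V ≃ₗ[F] V, ∀ e v, x (ψ e v) = φ e (x v) := by
  have : Module.Finite E (Tw φ) := Module.Finite.of_restrictScalars_finite F E _
  have : Module.Finite E (Tw ψ) := Module.Finite.of_restrictScalars_finite F E _
  have hpos : Module.finrank F E ≠ 0 := (Module.finrank_pos).ne'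
  have hfr : Module.finrank E (Tw ψ) = Module.finrank E (Tw φ) := by
    apply mul_left_cancel₀ hpos
    rw [Module.finrank_mul_finrank, Module.finrank_mul_finrank]
    rfl
  obtain ⟨L⟩ := FiniteDimensional.nonempty_linearEquiv_of_finrank_eq hfr
  exact ⟨(L.restrictScalars F : Tw ψ ≃ₗ[F] Tw φ), fun e v => L.map_smul e v⟩

/-- The centraliser of a copy of `E` has every determinant. -/
theorem exists_det_commute [Nontrivial V] (φ : E →ₐ[F] Module.End F V) {c : F} (hc : c ≠ 0) :
    ∃ y : V ≃ₗ[F] V, LinearMap.det (y : V →ₗ[F] V) = c ∧ ∀ e v, y (φ e v) = φ e (y v) := by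
  classical
  have : Module.Finite E (Tw φ) := Module.Finite.of_restrictScalars_finite F E _
  have : Finite E := Module.finite_of_finite F
  have : Nontrivial (Tw φ) := inferInstanceAs (Nontrivial V)
  obtain ⟨u, hu⟩ := FiniteField.unitsMap_norm_surjective (K := F) (K' := E) (Units.mk0 c hc)
  let b := Module.finBasis E (Tw φ)
  let i : Fin (Module.finrank E (Tw φ)) := ⟨0, Module.finrank_pos⟩
  let M : Tw φ →ₗ[E] Tw φ := Matrix.toLin b b (Matrix.diagonal (Function.update 1 i (u : E)))
  have hdet : LinearMap.det M = (u : E) := by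
    rw [LinearMap.det_toLin, Matrix.det_diagonal,
      Finset.prod_update_of_mem (Finset.mem_univ i)]
    simp
  have hdF : LinearMap.det (M.restrictScalars F) = c := by
    rw [LinearMap.det_restrictScalars, hdet]
    exact congrArg Units.val hu
  have hunit : IsUnit (LinearMap.det (M.restrictScalars F)) := by
    rw [hdF]; exact isUnit_iff_ne_zero.mpr hc
  refine ⟨LinearMap.equivOfIsUnitDet (f := M.restrictScalars F) hunit, ?_, fun e v => ?_⟩
  · exact (congrArg LinearMap.det (LinearMap.coe_equivOfIsUnitDet hunit)).trans hdF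
  · refine (LinearMap.equivOfIsUnitDet_apply hunit _).trans ?_
    refine (M.map_smul e v).trans ?_
    exact congrArg (φ e) (LinearMap.equivOfIsUnitDet_apply hunit v).symm

/-- An endomorphism without an eigenvector: the factors of small degree. -/
theorem natDegree_factor {n : ℕ} (hV : Module.finrank F V = n) (g : Module.End F V)
    (hg : ∀ μ : F, ¬ g.HasEigenvalue μ) {p : F[X]} (hp : Irreducible p) (hpm : p.Monic)
    (hpd : p ∣ minpoly F g) : p.natDegree ≤ n ∧ p.natDegree ≠ 1 ∧ p.natDegree + 1 ≠ n := by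
  have hdc : p ∣ g.charpoly := hpd.trans (LinearMap.minpoly_dvd_charpoly g)
  obtain ⟨r, hr⟩ := hdc
  have hn : g.charpoly.natDegree = n := by rw [LinearMap.charpoly_natDegree, hV]
  have hr0 : r ≠ 0 := fun e => (LinearMap.charpoly_monic g).ne_zero (by rw [hr, e, mul_zero])
  have hdeg : p.natDegree + r.natDegree = n := by
    rw [← hn, hr, natDegree_mul hpm.ne_zero hr0]
  have hlin : ∀ s : F[X], s ∣ g.charpoly → s.degree = 1 → False := by
    intro s hs hs1
    obtain ⟨μ, hμ⟩ := exists_root_of_degree_eq_one hs1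
    exact hg μ ((Module.End.hasEigenvalue_iff_isRoot_charpoly g μ).mpr (hμ.dvd hs))
  refine ⟨by omega, fun h1 => hlin p ⟨r, hr⟩ ?_, fun h1 => hlin r ⟨p, by rw [hr, mul_comm]⟩ ?_⟩
  · rw [degree_eq_natDegree hpm.ne_zero, h1]; rfl
  · rw [degree_eq_natDegree hr0, show r.natDegree = 1 by omega]; rfl

section matrix

variable {n : ℕ}

/-- The matrix of an element of `SL_n` as an endomorphism. -/
noncomputable abbrev lin (g : Matrix.SpecialLinearGroup (Fin n) F) : Module.End F (Fin n → F) :=
  Matrix.toLin' (g : Matrix (Fin n) (Fin n) F)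

theorem lin_mul (g h : Matrix.SpecialLinearGroup (Fin n) F) (v : Fin n → F) :
    lin (g * h) v = lin g (lin h v) := by
  show Matrix.toLin' ((g : Matrix (Fin n) (Fin n) F) * (h : Matrix (Fin n) (Fin n) F)) v = _
  rw [Matrix.toLin'_mul]; rfl

theorem lin_one (v : Fin n → F) : lin (1 : Matrix.SpecialLinearGroup (Fin n) F) v = v := by
  simp [lin]

theorem lin_inv_apply (g : Matrix.SpecialLinearGroup (Fin n) F) (v : Fin n → F) :
    lin g⁻¹ (lin g v) = v := by rw [← lin_mul, inv_mul_cancel, lin_one]

theorem lin_apply_inv (g : Matrix.SpecialLinearGroup (Fin n) F) (v : Fin n → F) :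
    lin g (lin g⁻¹ v) = v := by rw [← lin_mul, mul_inv_cancel, lin_one]

/-- A linear automorphism of determinant one, as an element of `SL_n`. -/
theorem exists_sl (L : (Fin n → F) ≃ₗ[F] (Fin n → F))
    (hL : LinearMap.det (L : (Fin n → F) →ₗ[F] (Fin n → F)) = 1) :
    ∃ x : Matrix.SpecialLinearGroup (Fin n) F, ∀ v, lin x v = L v :=
  ⟨⟨LinearMap.toMatrix' (L : (Fin n → F) →ₗ[F] (Fin n → F)),
      by rw [LinearMap.det_toMatrix']; exact hL⟩, fun v => by
    show Matrix.toLin' (LinearMap.toMatrix' _) v = _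
    rw [Matrix.toLin'_toMatrix']; rfl⟩

variable (F n) in
/-- The stabiliser of a line. -/
noncomputable def lineStab (v : Fin n → F) : Subgroup (Matrix.SpecialLinearGroup (Fin n) F) where
  carrier := {g | ∃ c : F, c ≠ 0 ∧ lin g v = c • v}
  one_mem' := ⟨1, one_ne_zero, by rw [lin_one, one_smul]⟩
  mul_mem' := by
    rintro a b ⟨c, hc, hca⟩ ⟨d, hd, hdb⟩
    exact ⟨d * c, mul_ne_zero hd hc, by rw [lin_mul, hdb, map_smul, hca, smul_smul]⟩
  inv_mem' := by
    rintro a ⟨c, hc, hca⟩
    refine ⟨c⁻¹, inv_ne_zero hc, ?_⟩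
    rw [eq_inv_smul_iff₀ hc, ← map_smul, ← hca, lin_inv_apply]

/-- The elements commuting with a copy of `E`. -/
noncomputable def fieldCent (φ : E →ₐ[F] Module.End F (Fin n → F)) :
    Subgroup (Matrix.SpecialLinearGroup (Fin n) F) where
  carrier := {g | ∀ e v, lin g (φ e v) = φ e (lin g v)}
  one_mem' := fun e v => by simp [lin_one]
  mul_mem' := by
    intro a b ha hb e v
    rw [lin_mul, lin_mul, hb, ha]
  inv_mem' := by
    intro a ha e v
    conv_lhs => rw [show v = lin a (lin a⁻¹ v) from (lin_apply_inv a v).symm]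
    rw [← ha, lin_inv_apply]

open scoped Matrix in
theorem psl_two_cover (hn : 2 ≤ n) (d : ℕ) (hd : 2 ≤ d) (hdn : d ∣ n)
    (hdeg : ∀ k, k ≤ n → k ≠ 0 → k ≠ 1 → k + 1 ≠ n → d ∣ k) :
    TwoCover (Matrix.ProjectiveSpecialLinearGroup (Fin n) F) := by
  classical
  obtain ⟨p, hp⟩ := CharP.exists F
  have : Fact p.Prime := ⟨CharP.char_is_prime F p⟩
  have : NeZero d := ⟨by omega⟩
  let E := FiniteField.Extension F p d
  have hE : Module.finrank F E = d := FiniteField.finrank_extension F p d
  have : Nontrivial (Fin n → F) :=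
    Module.nontrivial_of_finrank_pos (R := F) (by rw [Module.finrank_fin_fun]; omega)
  -- a copy of `E` in `End(F^n)`
  obtain ⟨φ⟩ : Nonempty (E →ₐ[F] Module.End F (Fin n → F)) := by
    obtain ⟨k, hk⟩ := hdn
    have hf : Module.finrank F (Fin k → E) = Module.finrank F (Fin n → F) := by
      rw [Module.finrank_pi_fintype]; simp [hE, hk, mul_comm]
    obtain ⟨L⟩ := FiniteDimensional.nonempty_linearEquiv_of_finrank_eq hf
    exact ⟨(L.conjAlgEquiv F).toAlgHom.comp (Algebra.lsmul F F (Fin k → E))⟩
  let e₀ : Fin n → F := Pi.single ⟨0, by omega⟩ 1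
  have he₀ : e₀ ≠ 0 := by simp [e₀]
  refine twoCover_quotient _ (H := lineStab F n e₀) (K := fieldCent φ) ?_ ?_ ?_ ?_ ?_
  · -- the line stabiliser is proper
    intro htop
    have hij : (⟨1, by omega⟩ : Fin n) ≠ ⟨0, by omega⟩ := by simp
    let t : Matrix.SpecialLinearGroup (Fin n) F :=
      ⟨Matrix.transvection ⟨1, by omega⟩ ⟨0, by omega⟩ (1 : F),
        Matrix.det_transvection_of_ne _ _ hij 1⟩
    have ht : t ∈ lineStab F n e₀ := by rw [htop]; trivial
    obtain ⟨c, -, hc⟩ := ht
    have := congrFun hc ⟨1, by omega⟩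
    simp [lin, t, e₀, Matrix.transvection, Matrix.add_mulVec, Matrix.toLin'_apply] at this
  · -- the centraliser of `E` is proper
    intro htop
    obtain ⟨a, ha⟩ : ∃ a : E, a ∉ Set.range (algebraMap F E) := by
      by_contra hall
      push_neg at hall
      have hle : Module.finrank F E ≤ Module.finrank F F :=
        LinearMap.finrank_le_finrank_of_surjective (f := Algebra.linearMap F E) hall
      rw [hE, Module.finrank_self] at hle; omega
    set A := LinearMap.toMatrix' (φ a) with hA
    have hcomm : ∀ t : Matrix.TransvectionStruct (Fin n) F, Commute t.toMatrix A := by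
      intro t
      let g : Matrix.SpecialLinearGroup (Fin n) F := ⟨t.toMatrix, t.det⟩
      have hg : g ∈ fieldCent φ := by rw [htop]; trivial
      show _ * _ = _ * _
      apply Matrix.toLin'.injective
      rw [Matrix.toLin'_mul, Matrix.toLin'_mul, hA, Matrix.toLin'_toMatrix']
      exact LinearMap.ext (hg a)
    obtain ⟨c, hc⟩ := Matrix.mem_range_scalar_of_commute_transvectionStruct hcomm
    apply ha
    refine ⟨c, φ.toRingHom.injective ?_⟩
    show φ (algebraMap F E c) = φ a
    rw [φ.commutes, ← Matrix.toLin'_toMatrix' (φ a), ← hA, ← hc]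
    ext v i
    simp [Module.algebraMap_end_apply, Matrix.toLin'_apply, Matrix.scalar_apply,
      Matrix.mulVec_diagonal]
  · intro z hz
    obtain ⟨r, hr, hzr⟩ := Matrix.SpecialLinearGroup.mem_center_iff.mp hz
    have hr0 : r ≠ 0 := fun e => by
      subst e
      rw [zero_pow (by simp; omega)] at hr
      exact zero_ne_one hr
    refine ⟨r, hr0, ?_⟩
    simp [lin, ← hzr, Matrix.toLin'_apply, Matrix.scalar_apply]
  · intro z hz
    obtain ⟨r, -, hzr⟩ := Matrix.SpecialLinearGroup.mem_center_iff.mp hz
    have hzv : ∀ v, lin z v = r • v := fun v => by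
      ext i; simp [lin, ← hzr, Matrix.toLin'_apply, Matrix.scalar_apply, Matrix.mulVec_diagonal]
    intro e v
    rw [hzv, hzv, map_smul]
  · intro g
    by_cases hg : ∃ μ, (lin g).HasEigenvalue μ
    · obtain ⟨μ, hμ⟩ := hg
      obtain ⟨w, hw, hw0⟩ := hμ.exists_hasEigenvector
      rw [Module.End.mem_eigenspace_iff] at hw
      -- move `w` to a multiple of `e₀`
      obtain ⟨L, hL⟩ : ∃ L : (Fin n → F) ≃ₗ[F] (Fin n → F), L w = e₀ := by
        obtain ⟨L, hL⟩ := Submodule.exists_linearEquiv_restrict_eq
          ((LinearEquiv.toSpanNonzeroSingleton F _ w hw0).symm ≪≫ₗ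
            LinearEquiv.toSpanNonzeroSingleton F _ e₀ he₀)
        refine ⟨L, ?_⟩
        have h1 := hL (LinearEquiv.toSpanNonzeroSingleton F _ w hw0 1)
        rw [LinearEquiv.trans_apply, LinearEquiv.symm_apply_apply] at h1
        simpa using h1.symm
      set c := LinearMap.det (L : (Fin n → F) →ₗ[F] (Fin n → F)) with hc
      have hc0 : c ≠ 0 := (LinearEquiv.isUnit_det' L).ne_zero
      let D : Fin n → Fˣ := Function.update 1 ⟨0, by omega⟩ (Units.mk0 c⁻¹ (inv_ne_zero hc0))
      let M : (Fin n → F) ≃ₗ[F] (Fin n → F) :=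
        LinearEquiv.piCongrRight fun i => LinearEquiv.smulOfUnit (D i)
      have hMdet : LinearMap.det (M : (Fin n → F) →ₗ[F] (Fin n → F)) = c⁻¹ := by
        rw [← LinearMap.det_toMatrix']
        have : LinearMap.toMatrix' (M : (Fin n → F) →ₗ[F] (Fin n → F)) =
            Matrix.diagonal fun i => (D i : F) := by
          ext i j
          rw [LinearMap.toMatrix'_apply, Matrix.diagonal_apply]
          by_cases h : i = j
          · subst h; simp [M, LinearEquiv.smulOfUnit, Units.smul_def]
          · simp [M, LinearEquiv.smulOfUnit, Units.smul_def, h, Pi.single_eq_of_ne h]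
        rw [this, Matrix.det_diagonal]
        rw [show (fun i => (D i : F)) = Function.update (1 : Fin n → F) ⟨0, by omega⟩ c⁻¹ from by
          ext i; by_cases h : i = ⟨0, by omega⟩ <;> simp [D, Function.update, h]]
        rw [Finset.prod_update_of_mem (Finset.mem_univ _)]
        simp
      obtain ⟨x, hx⟩ := exists_sl (L.trans M) (by
        rw [show ((L.trans M : (Fin n → F) ≃ₗ[F] (Fin n → F)) : (Fin n → F) →ₗ[F] (Fin n → F)) =
          (M : (Fin n → F) →ₗ[F] (Fin n → F)).comp (L : (Fin n → F) →ₗ[F] (Fin n → F)) from rfl,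
          LinearMap.det_comp, hMdet, ← hc, inv_mul_cancel₀ hc0])
      have hxw : lin x w = c⁻¹ • e₀ := by
        rw [hx, LinearEquiv.trans_apply, hL]
        ext i
        by_cases h : i = ⟨0, by omega⟩
        · subst h; simp [M, D, e₀, LinearEquiv.smulOfUnit, Units.smul_def]
        · simp [M, e₀, LinearEquiv.smulOfUnit, Units.smul_def, Pi.single_eq_of_ne h]
      have hμ0 : μ ≠ 0 := by
        intro e
        apply hw0
        rw [← lin_inv_apply g w, hw, e, zero_smul, map_zero]
      refine ⟨x, Or.inl ⟨μ, hμ0, ?_⟩⟩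
      have he : e₀ = c • lin x w := by rw [hxw, smul_smul, mul_inv_cancel₀ hc0, one_smul]
      rw [he, map_smul, lin_mul, lin_mul, lin_inv_apply, hw, map_smul, smul_comm]
    · push_neg at hg
      obtain ⟨ψ, hψ⟩ := exists_algHom_adjoin (E := E) (lin g) (fun p hp hpm hpd => by
        have := natDegree_factor (Module.finrank_fin_fun F) (lin g) hg hp hpm hpd
        rw [hE]
        exact hdeg _ this.1 hp.natDegree_pos.ne' this.2.1 this.2.2)
      obtain ⟨L, hL⟩ := exists_intertwine φ ψ
      set c := LinearMap.det (L : (Fin n → F) →ₗ[F] (Fin n → F)) with hc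
      have hc0 : c ≠ 0 := (LinearEquiv.isUnit_det' L).ne_zero
      obtain ⟨y, hy, hyφ⟩ := exists_det_commute φ (inv_ne_zero hc0)
      obtain ⟨x, hx⟩ := exists_sl (L.trans y) (by
        rw [show ((L.trans y : (Fin n → F) ≃ₗ[F] (Fin n → F)) : (Fin n → F) →ₗ[F] (Fin n → F)) =
          (y : (Fin n → F) →ₗ[F] (Fin n → F)).comp (L : (Fin n → F) →ₗ[F] (Fin n → F)) from rfl,
          LinearMap.det_comp, hy, ← hc, inv_mul_cancel₀ hc0])
      have hxc : ∀ e v, lin x (ψ e v) = φ e (lin x v) := fun e v => by
        rw [hx, hx, LinearEquiv.trans_apply, LinearEquiv.trans_apply, hL, hyφ]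
      have hgψ : ∀ e v, lin g (ψ e v) = ψ e (lin g v) := fun e v => by
        obtain ⟨r, hr⟩ := hψ e
        rw [hr]
        have h1 : lin g * aeval (lin g) r = aeval (lin g) r * lin g := by
          have a1 := map_mul (aeval (lin g)) X r
          have a2 := map_mul (aeval (lin g)) r X
          rw [mul_comm r X, a1, aeval_X] at a2
          exact a2
        exact LinearMap.congr_fun h1 v
      refine ⟨x, Or.inr fun e v => ?_⟩
      have h1 : lin x⁻¹ (φ e v) = ψ e (lin x⁻¹ v) := by
        conv_lhs => rw [show v = lin x (lin x⁻¹ v) from (lin_apply_inv x v).symm]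
        rw [← hxc, lin_inv_apply]
      rw [lin_mul, lin_mul, h1, hgψ, hxc, ← lin_mul x g, ← lin_mul]

end matrix

end CfsgLib.Cover5
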