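import Cfsg.Agent.Cover5.SympSixModels
import Cfsg.Prelude.Def_Classical
import Mathlib.FieldTheory.Finite.Extension

/-!
# `PSp_6(3^a)` is covered by a plane stabiliser and an extension-field subgroup
-/

set_option autoImplicit false
set_option linter.unusedSectionVars false
set_option linter.unusedVariables false
set_option maxHeartbeats 1000000

namespace CfsgLib.Cover5.SympSix

open Polynomial CfsgLib.Symp

variable {F : Type*} [Field F] [Finite F] [CharP F 3]
variable {E : Type*} [Field E] [Algebra F E] [FiniteDimensional F E]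

/-- An isometry whose `f + f⁻¹` has an irreducible cubic is linear over the extension. -/
theorem str_cubic (hE : Module.finrank F E = 3) {f : V6 F ≃ₗ[F] V6 F} (hf : Isom f) {p : F[X]}
    (hp : Irreducible p) (hp3 : p.natDegree = 3) (hpa : aeval (aOf f) p = 0) : Str E f := by
  have : Finite E := Module.finite_of_finite F
  haveI := Fact.mk hp
  let pb := AdjoinRoot.powerBasis hp.ne_zero
  haveI : FiniteDimensional F (AdjoinRoot p) := pb.finite
  have hdim : Module.finrank F (AdjoinRoot p) = 3 := by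
    rw [pb.finrank, AdjoinRoot.powerBasis_dim, hp3]
  haveI : Finite (AdjoinRoot p) := Module.finite_of_finite F
  obtain ⟨e⟩ : Nonempty (AdjoinRoot p →ₐ[F] E) :=
    FiniteField.nonempty_algHom_of_finrank_dvd (by rw [hdim, hE])
  have hebij : Function.Bijective e :=
    ⟨RingHom.injective e.toRingHom, (LinearMap.injective_iff_surjective_of_finrank_eq_finrank
      (f := e.toLinearMap) (by rw [hdim, hE])).mp (RingHom.injective e.toRingHom)⟩
  let ee := AlgEquiv.ofBijective e hebij
  let T₀ : AdjoinRoot p →ₐ[F] Module.End F (V6 F) :=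
    Ideal.Quotient.liftₐ (Ideal.span {p}) (aeval (aOf f)) (fun s hs => by
      obtain ⟨b, rfl⟩ := Ideal.mem_span_singleton.mp hs
      rw [map_mul, hpa, zero_mul])
  have hT : ∀ z : E, ∃ s : F[X], T₀ (ee.symm z) = aeval (aOf f) s := fun z => by
    obtain ⟨s, hs⟩ := AdjoinRoot.mk_surjective (ee.symm z)
    exact ⟨s, by rw [← hs]; rfl⟩
  refine ⟨T₀.comp ee.symm.toAlgHom, RingEquiv.refl E, fun z u v => ?_, fun z x => ?_⟩
  · obtain ⟨s, hs⟩ := hT z
    show form (T₀ (ee.symm z) u) v = form u (T₀ (ee.symm z) v)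
    rw [hs, aeval_adj hf]
  · obtain ⟨s, hs⟩ := hT z
    show f (T₀ (ee.symm z) x) = T₀ (ee.symm z) (f x)
    rw [hs, f_aeval]

/-- Every isometry has a plane or a structure of line pair over the cubic extension. -/
theorem plane_or_str (hE : Module.finrank F E = 3) {f : V6 F ≃ₗ[F] V6 F} (hf : Isom f) :
    Plane f ∨ Str E f := by
  have three : (3 : F) = 0 := CharP.cast_eq_zero F 3
  have h2 : (2 : F) ≠ 0 := fun h => one_ne_zero (show (1 : F) = 0 by linear_combination three - h)
  rcases primary_or_plane hf h2 with h | ⟨p, hp, hpm, k, hk⟩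
  · exact Or.inl h
  rcases primary_cases hf h2 hp hpm hk with ⟨hp3, hpa⟩ | ⟨r, hN⟩
  · exact Or.inr (str_cubic hE hf hp hp3 hpa)
  obtain ⟨ψ, hψ⟩ := exists_psi (F := F) (E := E) hE
  obtain ⟨φ, h3, hS, e, he⟩ := exists_frob (F := F) (E := E) hE
  rcases linear_cases hf h2 hN with h | hreg | ⟨s, hs, hg3, hne, hfs⟩
  · exact Or.inl h
  · right
    rcases ne_or_eq (r * r - 1) 0 with hr | hr
    · obtain ⟨hi, hN', hreg', hstr⟩ := modA_spec ψ hψ φ h3 hS hr he
      obtain ⟨T, lam, hT, hTf⟩ := regular_conj hi h2 hf hN' hreg' hN hreg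
      exact hstr.transport T lam hT hTf
    · have hs : -r * -r = 1 := by linear_combination hr
      obtain ⟨hi, hN', hreg', hstr⟩ := modB_spec ψ hψ φ h3 hS hs he
      rw [show 2 * -r = r by linear_combination (-r) * three] at hN' hreg'
      obtain ⟨T, lam, hT, hTf⟩ := regular_conj hi h2 hf hN' hreg' hN hreg
      exact hstr.transport T lam hT hTf
  · right
    obtain ⟨hi, hg', hne', hfs', hstr⟩ := modC_spec ψ hψ φ h3 hS hs he
    obtain ⟨T, lam, hT, hTf⟩ := block_conj hi h2 hf hg' hne' hfs' hg3 hne hfs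
    exact hstr.transport T lam hT hTf

/-- The semilinear subgroup. -/
noncomputable def semiLin (ψ : (E × E) ≃ₗ[F] V6 F) : Subgroup (Matrix.symplecticGroup (Fin 3) F) where
  carrier := {g | ∃ σ : E ≃+* E, ∀ e (x : V6 F), g • iota0 ψ e x = iota0 ψ (σ e) (g • x)}
  one_mem' := ⟨RingEquiv.refl E, fun e x => by simp⟩
  mul_mem' := by
    rintro a b ⟨σ, hσ⟩ ⟨τ, hτ⟩
    exact ⟨τ.trans σ, fun e x => by rw [mul_smul, mul_smul, hτ, hσ]; rfl⟩
  inv_mem' := by
    rintro a ⟨σ, hσ⟩
    refine ⟨σ.symm, fun e x => ?_⟩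
    rw [inv_smul_eq_iff, hσ, RingEquiv.apply_symm_apply, smul_inv_smul]

theorem semiLin_ne_top (hE : Module.finrank F E = 3) (ψ : (E × E) ≃ₗ[F] V6 F)
    (hψ : ∀ a b, form (ψ a) (ψ b) = tform a b) : semiLin ψ ≠ ⊤ := by
  intro htop
  have hmem : tv (ψ (0, 1)) (1 : F) ∈ semiLin ψ := by rw [htop]; trivial
  obtain ⟨σ, hσ⟩ := hmem
  have hact : ∀ x y : E, tv (ψ (0, 1)) (1 : F) • ψ (x, y) =
      ψ (x, y + algebraMap F E (Algebra.trace F E x)) := fun x y => by
    rw [tv_smul, hψ, tform, ← map_smul, ← map_add]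
    simp [Algebra.algebraMap_eq_smul_one]
  have hσid : ∀ e, σ e = e := fun e => by
    have h := hσ e (ψ (0, 1))
    rw [iota0_apply, Prod.smul_mk, hact, hact, iota0_apply, Prod.smul_mk] at h
    have h1 := congrArg Prod.snd (ψ.injective h)
    simpa using h1.symm
  obtain ⟨e, he⟩ : ∃ e : E, Algebra.trace F E e ≠ 0 := by
    obtain ⟨φ, -, -, h⟩ := exists_frob (F := F) (E := E) hE
    exact h
  have h := hσ e (ψ (1, 0))
  rw [iota0_apply, Prod.smul_mk, hact, hact, iota0_apply, Prod.smul_mk, hσid,
    ← map_one (algebraMap F E), Algebra.trace_algebraMap, hE, map_one] at h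
  have h1 := congrArg Prod.snd (ψ.injective h)
  simp [CharP.cast_eq_zero F 3, show (3 : F) = 0 from CharP.cast_eq_zero F 3] at h1
  exact he h1

/-- A structure for an isometry moves it into the semilinear subgroup. -/
theorem conj_semiLin (hE : Module.finrank F E = 3) (ψ : (E × E) ≃ₗ[F] V6 F)
    (hψ : ∀ a b, form (ψ a) (ψ b) = tform a b) (g : Matrix.symplecticGroup (Fin 3) F)
    {f : V6 F ≃ₗ[F] V6 F} (hfg : ∀ v, f v = g • v) (h : Str E f) :
    ∃ x : Matrix.symplecticGroup (Fin 3) F, x * g * x⁻¹ ∈ semiLin ψ := by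
  obtain ⟨ι, σ, hadj, hsl⟩ := h
  have three : (3 : F) = 0 := CharP.cast_eq_zero F 3
  have h2 : (2 : F) ≠ 0 := fun h => one_ne_zero (show (1 : F) = 0 by linear_combination three - h)
  have hii : ∀ e w, form (ι e w) w = 0 := fun e w => by
    have h := (hadj e w w).trans (form_swap _ _)
    exact (mul_eq_zero.mp (show 2 * form (ι e w) w = 0 by linear_combination h)).resolve_left h2
  obtain ⟨u, hu⟩ := exists_ne (0 : V6 F)
  let M : E →ₗ[F] V6 F := (LinearMap.applyₗ u).comp ι.toLinearMap
  have hMinj : Function.Injective M := by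
    rw [injective_iff_map_eq_zero]
    intro z hz
    by_contra hz0
    apply hu
    calc u = ι (z⁻¹ * z) u := by rw [inv_mul_cancel₀ hz0, map_one]; rfl
      _ = 0 := by rw [map_mul, Module.End.mul_apply, show ι z u = 0 from hz, map_zero]
  obtain ⟨L, hL⟩ := LinearMap.exists_leftInverse_of_injective M (LinearMap.ker_eq_bot.mpr hMinj)
  obtain ⟨v, hv⟩ : ∃ v, ∀ w, form w v = Algebra.trace F E (L w) := by
    refine ⟨-((Geometry.formB (Fin 3) F).toDual Geometry.formB_nondeg).symm
      ((Algebra.trace F E).comp L), fun w => ?_⟩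
    rw [form_swap, ← Geometry.formB_apply, map_neg, LinearMap.neg_apply, neg_neg]
    exact LinearMap.BilinForm.apply_toDual_symm_apply (B := Geometry.formB (Fin 3) F)
      (hB := Geometry.formB_nondeg) _ w
  have huv : ∀ e, form (ι e u) v = Algebra.trace F E e := fun e => by
    rw [hv, show L (ι e u) = e from LinearMap.congr_fun hL e]
  let Φ : (E × E) →ₗ[F] V6 F := ((LinearMap.applyₗ u).comp ι.toLinearMap).coprod
    ((LinearMap.applyₗ v).comp ι.toLinearMap)
  have hΦ : ∀ z, Φ z = ι z.1 u + ι z.2 v := fun z => rfl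
  have hprod : ∀ a b p q, form (ι a p) (ι b q) = form (ι (b * a) p) q := fun a b p q => by
    rw [map_mul, Module.End.mul_apply, hadj b]
  have hΦform : ∀ a b, form (Φ a) (Φ b) = tform a b := fun a b => by
    rw [hΦ, hΦ, form_add_left, form_add_right, form_add_right, hprod, hprod, hprod, hprod,
      hii, hii, huv, hadj _ v u, form_swap v, huv, tform]
    rw [mul_comm b.2 a.1, mul_comm b.1 a.2]; ring
  have hΦinj : Function.Injective Φ := by
    rw [injective_iff_map_eq_zero]
    intro a ha
    apply ψ.injective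
    rw [map_zero]
    refine eq_zero_of_form_eq_zero fun w => ?_
    obtain ⟨b, rfl⟩ := ψ.surjective w
    rw [hψ, ← hΦform, ha, form_zero_right]
  let Φe := Φ.linearEquivOfInjective hΦinj (by simp [Module.finrank_prod, hE])
  obtain ⟨x, hx⟩ := Geometry.exists_of_linearEquiv (Φe.symm.trans ψ) fun p q => by
    obtain ⟨a, rfl⟩ := Φe.surjective p
    obtain ⟨b, rfl⟩ := Φe.surjective q
    simp only [LinearEquiv.trans_apply, LinearEquiv.symm_apply_apply]
    rw [hψ, ← hΦform]
    rfl
  have hxι : ∀ e w, x • ι e w = iota0 ψ e (x • w) := by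
    intro e w
    obtain ⟨a, rfl⟩ := Φe.surjective w
    have he : ι e (Φe a) = Φe (e • a) := by
      show ι e (Φ a) = Φ (e • a)
      rw [hΦ, hΦ, map_add, Prod.smul_fst, Prod.smul_snd, smul_eq_mul, smul_eq_mul, map_mul, map_mul]
      rfl
    rw [he, hx, hx]
    simp only [LinearEquiv.trans_apply, LinearEquiv.symm_apply_apply, iota0_apply]
  refine ⟨x, σ, fun e z => ?_⟩
  obtain ⟨w, rfl⟩ := MulAction.surjective x z
  simp only [mul_smul, inv_smul_smul]
  rw [← hxι, inv_smul_smul, ← hfg, hsl, hfg, hxι]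

/-- `PSp_6(q)`, `q` a power of three, is covered by the conjugates of two proper subgroups. -/
theorem psp_six_cover : TwoCover (Cfsg.PSp 3 F) := by
  classical
  haveI : Fact (Nat.Prime 3) := ⟨Nat.prime_three⟩
  let E := FiniteField.Extension F 3 3
  have hE : Module.finrank F E = 3 := FiniteField.finrank_extension F 3 3
  obtain ⟨ψ, hψ⟩ := exists_psi (F := F) (E := E) hE
  let a : V6 F := Pi.single (Sum.inr 0) 1
  let b : V6 F := Pi.single (Sum.inl 0) 1
  let c : V6 F := Pi.single (Sum.inl 1) 1
  have hab : form a b = 1 := by simp [a, b, form_single_inr]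
  refine twoCover_quotient _ (H := Geometry.stabSub (Submodule.span F {a, b})) (K := semiLin ψ)
    ?_ (semiLin_ne_top hE ψ hψ) ?_ ?_ ?_
  · intro htop
    obtain ⟨g, hg⟩ := exists_smul_eq_of_ne_zero (u := a) (v := c) (by simp [a]) (by simp [c])
    have hmem : g ∈ Geometry.stabSub (Submodule.span F {a, b}) := by rw [htop]; trivial
    have h := (hmem a).1 (Submodule.subset_span (Set.mem_insert _ _))
    rw [hg] at h
    obtain ⟨s, t, hst⟩ := Submodule.mem_span_pair.mp h
    have := congrFun hst (Sum.inl 1)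
    simp [a, b, c] at this
  · intro z hz
    rcases mem_center_iff.mp hz with h | h
    · rw [show z = 1 from Subtype.ext h]; exact one_mem _
    · intro v
      have : z • v = -v := by
        show (z : Matrix (Fin 3 ⊕ Fin 3) (Fin 3 ⊕ Fin 3) F).mulVec v = -v
        rw [h, Matrix.neg_mulVec, Matrix.one_mulVec]
      rw [this, neg_mem_iff]
  · intro z hz
    rcases mem_center_iff.mp hz with h | h
    · rw [show z = 1 from Subtype.ext h]; exact one_mem _
    · have : ∀ v : V6 F, z • v = -v := fun v => by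
        show (z : Matrix (Fin 3 ⊕ Fin 3) (Fin 3 ⊕ Fin 3) F).mulVec v = -v
        rw [h, Matrix.neg_mulVec, Matrix.one_mulVec]
      exact ⟨RingEquiv.refl E, fun e x => by rw [this, this, map_neg]; rfl⟩
  · intro g
    let f : V6 F ≃ₗ[F] V6 F :=
      { toFun := fun v => g • v
        map_add' := fun u v => smul_add g u v
        map_smul' := fun s v => by rw [RingHom.id_apply, smul_comm]
        invFun := fun v => g⁻¹ • v
        left_inv := fun v => inv_smul_smul g v
        right_inv := fun v => smul_inv_smul g v }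
    have hf : Isom f := fun u v => form_smul_smul g u v
    rcases plane_or_str hE hf with ⟨u, v, huv, hu, hv⟩ | h
    · have hli : ∀ p q : V6 F, form p q ≠ 0 → LinearIndependent F ![p, q] := fun p q h => by
        rw [LinearIndependent.pair_iff' fun e => h (by rw [e, form_zero_left])]
        intro s hs
        apply h
        rw [← hs, form_smul_right, form_self, mul_zero]
      have hv1 : form u ((form u v)⁻¹ • v) = 1 := by rw [form_smul_right, inv_mul_cancel₀ huv]
      obtain ⟨x, hx⟩ := Geometry.exists_sp_family ![u, (form u v)⁻¹ • v] ![a, b]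
        (hli _ _ (by rw [hv1]; exact one_ne_zero)) (hli _ _ (by rw [hab]; exact one_ne_zero))
        fun i j => by
          fin_cases i <;> fin_cases j <;>
            simp [form_self, hv1, hab, form_swap ((form u v)⁻¹ • v) u, form_swap b a]
      have hx0 : x • u = a := hx 0
      have hx1 : x • v = form u v • b := by
        rw [← show x • ((form u v)⁻¹ • v) = b from hx 1, smul_comm x, smul_smul, mul_inv_cancel₀ huv,
          one_smul]
      have hmap : ∀ w ∈ Submodule.span F {u, v}, x • w ∈ Submodule.span F {a, b} := fun w hw => by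
        obtain ⟨s, t, rfl⟩ := Submodule.mem_span_pair.mp hw
        rw [smul_add, smul_comm x, smul_comm x t, hx0, hx1]
        exact add_mem (Submodule.smul_mem _ _ (Submodule.subset_span (Set.mem_insert _ _)))
          (Submodule.smul_mem _ _ (Submodule.smul_mem _ _
            (Submodule.subset_span (Set.mem_insert_of_mem _ rfl))))
      refine ⟨x, Or.inl (Geometry.mem_stabSub_iff_le.2 fun z hz => ?_)⟩
      obtain ⟨s, t, rfl⟩ := Submodule.mem_span_pair.mp hz
      have hb' : b = x • ((form u v)⁻¹ • v) := (hx 1).symm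
      rw [← hx0, hb', mul_smul, mul_smul, smul_comm s x, smul_comm t x, ← smul_add, inv_smul_smul, hx0, ← hb']
      refine hmap _ ?_
      rw [smul_add, smul_comm g, smul_comm g t, smul_comm g (form u v)⁻¹]
      exact add_mem (Submodule.smul_mem _ _ hu) (Submodule.smul_mem _ _ (Submodule.smul_mem _ _ hv))
    · obtain ⟨x, hx⟩ := conj_semiLin hE ψ hψ g (fun v => rfl) h
      exact ⟨x, Or.inr hx⟩

end CfsgLib.Cover5.SympSix
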