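import Cfsg.Agent.Cover5.Basic
import Cfsg.Agent.Classical.SympGeometry
import Mathlib.RingTheory.UniqueFactorizationDomain.Multiplicity

/-!
# Isometries of a six-dimensional symplectic space in characteristic three without an invariant
non-degenerate plane
-/

set_option autoImplicit false
set_option linter.unusedSectionVars false
set_option linter.unusedVariables false
set_option maxHeartbeats 1000000

namespace CfsgLib.Cover5.SympSix

open Polynomial CfsgLib.Symp

variable {F : Type*} [Field F] [Finite F]

/-- The symplectic space. -/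
abbrev V6 (F : Type*) := Fin 3 ⊕ Fin 3 → F

/-- An isometry. -/
def Isom (f : V6 F ≃ₗ[F] V6 F) : Prop := ∀ u v, form (f u) (f v) = form u v

/-- An invariant non-degenerate plane. -/
def Plane (f : V6 F ≃ₗ[F] V6 F) : Prop :=
  ∃ u v : V6 F, form u v ≠ 0 ∧ f u ∈ Submodule.span F {u, v} ∧ f v ∈ Submodule.span F {u, v}

/-- `f + f⁻¹`. -/
noncomputable def aOf (f : V6 F ≃ₗ[F] V6 F) : Module.End F (V6 F) :=
  f.toLinearMap + f.symm.toLinearMap

/-- `f - f⁻¹`. -/
noncomputable def gOf (f : V6 F ≃ₗ[F] V6 F) : Module.End F (V6 F) :=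
  f.toLinearMap - f.symm.toLinearMap

/-- `f + f⁻¹ - r`. -/
noncomputable def nOf (f : V6 F ≃ₗ[F] V6 F) (r : F) : Module.End F (V6 F) := aOf f - r • 1

theorem aOf_apply (f : V6 F ≃ₗ[F] V6 F) (x : V6 F) : aOf f x = f x + f.symm x := rfl
theorem gOf_apply (f : V6 F ≃ₗ[F] V6 F) (x : V6 F) : gOf f x = f x - f.symm x := rfl
theorem nOf_apply (f : V6 F ≃ₗ[F] V6 F) (r : F) (x : V6 F) : nOf f r x = f x + f.symm x - r • x :=
  rfl

theorem six (F : Type*) [Field F] : Module.finrank F (V6 F) = 6 := by simp

/-- No three vectors carry a non-degenerate alternating form: some combination is in the radical. -/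
theorem radical_three [CharP F 3] (b : Fin 3 → Fin 3 → F) (hb : ∀ i, b i i = 0)
    (hs : ∀ i j, b j i = -b i j) : ∃ c : Fin 3 → F, c ≠ 0 ∧ ∀ j, ∑ i, c i * b i j = 0 := by
  by_cases h : b 1 2 = 0 ∧ b 2 0 = 0 ∧ b 0 1 = 0
  · obtain ⟨h1, h2, h3⟩ := h
    refine ⟨Pi.single 0 1, by simp, fun j => ?_⟩
    simp only [Fin.sum_univ_three, Pi.single_apply]
    fin_cases j <;> simp [hb, h3, hs 2 0, h2]
  · refine ⟨![b 1 2, b 2 0, b 0 1], fun e => h ⟨congrFun e 0, congrFun e 1, congrFun e 2⟩, fun j => ?_⟩
    simp only [Fin.sum_univ_three]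
    fin_cases j
    · simp [hb, hs 0 1]; ring
    · simp [hb, hs 1 2]; ring
    · simp [hb, hs 2 0]; ring

variable {f : V6 F ≃ₗ[F] V6 F} (hf : Isom f)

include hf in
theorem a_adj (x y : V6 F) : form (aOf f x) y = form x (aOf f y) := by
  rw [aOf_apply, aOf_apply, form_add_left, form_add_right]
  have h1 : form (f x) y = form x (f.symm y) := by
    conv_lhs => rw [← f.apply_symm_apply y]
    rw [hf]
  have h2 : form (f.symm x) y = form x (f y) := by
    conv_rhs => rw [← f.apply_symm_apply x]
    rw [hf]
  rw [h1, h2, add_comm]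

include hf in
theorem g_skew (x y : V6 F) : form (gOf f x) y = -form x (gOf f y) := by
  rw [gOf_apply, gOf_apply, form_sub_left, form_sub_right]
  have h1 : form (f x) y = form x (f.symm y) := by
    conv_lhs => rw [← f.apply_symm_apply y]
    rw [hf]
  have h2 : form (f.symm x) y = form x (f y) := by
    conv_rhs => rw [← f.apply_symm_apply x]
    rw [hf]
  rw [h1, h2]; ring

include hf in
theorem aeval_adj (s : F[X]) (x y : V6 F) :
    form (aeval (aOf f) s x) y = form x (aeval (aOf f) s y) := by
  induction s using Polynomial.induction_on generalizing x y with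
  | C c => simp [Module.algebraMap_end_apply, form_smul_left, form_smul_right]
  | add p q hp hq =>
    rw [map_add, LinearMap.add_apply, LinearMap.add_apply, form_add_left, form_add_right, hp, hq]
  | monomial i c ih =>
    have e : ∀ z, aeval (aOf f) (C c * X ^ (i + 1)) z = aeval (aOf f) (C c * X ^ i) (aOf f z) :=
      fun z => by rw [pow_succ, ← mul_assoc, map_mul, aeval_X]; rfl
    have e' : ∀ z, aeval (aOf f) (C c * X ^ (i + 1)) z = aOf f (aeval (aOf f) (C c * X ^ i) z) :=
      fun z => by rw [pow_succ', mul_left_comm, map_mul, aeval_X]; rfl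
    rw [e, e', ih, a_adj hf]

include hf in
/-- A self-adjoint operator of the algebra is alternating. -/
theorem aeval_self (h2 : (2 : F) ≠ 0) (s : F[X]) (x : V6 F) : form x (aeval (aOf f) s x) = 0 := by
  have h := (aeval_adj hf s x x).symm.trans (form_swap _ _)
  have h' : 2 * form x (aeval (aOf f) s x) = 0 := by linear_combination h
  exact (mul_eq_zero.mp h').resolve_left h2

theorem f_aeval (s : F[X]) (x : V6 F) : f (aeval (aOf f) s x) = aeval (aOf f) s (f x) := by
  induction s using Polynomial.induction_on generalizing x with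
  | C c => simp [Module.algebraMap_end_apply]
  | add p q hp hq => rw [map_add, LinearMap.add_apply, LinearMap.add_apply, map_add, hp, hq]
  | monomial i c ih =>
    have e : ∀ z, aeval (aOf f) (C c * X ^ (i + 1)) z = aeval (aOf f) (C c * X ^ i) (aOf f z) :=
      fun z => by rw [pow_succ, ← mul_assoc, map_mul, aeval_X]; rfl
    rw [e, e, ih]
    congr 1
    simp [aOf_apply]

/-- A subspace with totally isotropic span has dimension at most three. -/
theorem finrank_ti {W : Submodule F (V6 F)} (hW : ∀ u ∈ W, ∀ v ∈ W, form u v = 0) :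
    Module.finrank F W ≤ 3 := by
  have hle : W ≤ (Geometry.formB (Fin 3) F).orthogonal W := fun v hv u hu => hW u hu v hv
  have h1 := Submodule.finrank_mono hle
  rw [LinearMap.BilinForm.finrank_orthogonal Geometry.formB_nondeg, six] at h1
  omega

include hf in
/-- Every vector is killed by a non-zero polynomial of degree at most three in `f + f⁻¹`. -/
theorem exists_killer (h2 : (2 : F) ≠ 0) (y : V6 F) :
    ∃ s : F[X], s ≠ 0 ∧ s.natDegree ≤ 3 ∧ aeval (aOf f) s y = 0 := by
  classical
  let L : (Fin 4 → F) →ₗ[F] V6 F :=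
    { toFun := fun c => aeval (aOf f) (∑ i, C (c i) * X ^ (i : ℕ)) y
      map_add' := fun c d => by
        simp only [Pi.add_apply, C_add, add_mul, Finset.sum_add_distrib, map_add, LinearMap.add_apply]
      map_smul' := fun k c => by
        simp only [Pi.smul_apply, smul_eq_mul, C_mul, mul_assoc, ← Finset.mul_sum, map_mul, aeval_C,
          Module.End.mul_apply, Module.algebraMap_end_apply, RingHom.id_apply] }
  have hTI : ∀ u ∈ LinearMap.range L, ∀ v ∈ LinearMap.range L, form u v = 0 := by
    rintro _ ⟨c, rfl⟩ _ ⟨d, rfl⟩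
    show form (aeval (aOf f) _ y) (aeval (aOf f) _ y) = 0
    rw [aeval_adj hf, ← Module.End.mul_apply, ← map_mul]
    exact aeval_self hf h2 _ y
  have hni : ¬ Function.Injective L := fun hinj => by
    have h1 := finrank_ti hTI
    rw [LinearMap.finrank_range_of_inj hinj, Module.finrank_fin_fun] at h1
    omega
  rw [injective_iff_map_eq_zero] at hni
  push Not at hni
  obtain ⟨c, hc, hc0⟩ := hni
  refine ⟨∑ i, C (c i) * X ^ (i : ℕ), fun h => hc0 ?_, ?_, hc⟩
  · funext i
    have h1 := congrArg (fun r => r.coeff (i : ℕ)) h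
    simpa [finsetSum_coeff, coeff_C_mul, coeff_X_pow, Fin.val_inj] using h1
  · exact natDegree_sum_le_of_forall_le _ _ fun i _ =>
      (natDegree_C_mul_X_pow_le _ _).trans (Nat.lt_succ_iff.mp i.2)

/-- A non-degenerate invariant two-dimensional subspace is a plane. -/
theorem plane_of_subspace {W : Submodule F (V6 F)} (hW : Module.finrank F W = 2)
    (hinv : ∀ x ∈ W, f x ∈ W) (hnd : ∀ x ∈ W, (∀ y ∈ W, form x y = 0) → x = 0) : Plane f := by
  obtain ⟨u, hu, hu0⟩ : ∃ u ∈ W, u ≠ 0 := Submodule.exists_mem_ne_zero_of_ne_bot (fun h => by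
    rw [h, finrank_bot] at hW; omega)
  obtain ⟨v, hv, huv⟩ : ∃ v ∈ W, form u v ≠ 0 := by
    by_contra h
    push Not at h
    exact hu0 (hnd u hu h)
  have hli : LinearIndependent F ![u, v] := by
    rw [LinearIndependent.pair_iff' hu0]
    intro a ha
    apply huv
    rw [← ha, form_smul_right, form_self, mul_zero]
  have hspan : Submodule.span F {u, v} = W := by
    refine Submodule.eq_of_le_of_finrank_eq ?_ ?_
    · rw [Submodule.span_le]
      rintro x (rfl | rfl)
      · exact hu
      · exact hv
    · have := finrank_span_eq_card hli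
      rw [Matrix.range_cons, Matrix.range_cons, Matrix.range_empty, Set.union_empty,
        Set.singleton_union, Fintype.card_fin] at this
      rw [this, hW]
  exact ⟨u, v, huv, hspan ▸ hinv u hu, hspan ▸ hinv v hv⟩

/-- A non-degenerate subspace has dimension neither one nor three. -/
theorem finrank_nondeg [CharP F 3] {W : Submodule F (V6 F)}
    (hnd : ∀ x ∈ W, (∀ y ∈ W, form x y = 0) → x = 0) :
    Module.finrank F W ≠ 1 ∧ Module.finrank F W ≠ 3 := by
  constructor
  · intro h
    obtain ⟨⟨u, hu⟩, hu0, hall⟩ := finrank_eq_one_iff'.mp h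
    apply hu0
    refine Subtype.ext (hnd u hu fun y hy => ?_)
    obtain ⟨c, hc⟩ := hall ⟨y, hy⟩
    have hc' : c • u = y := congrArg Subtype.val hc
    rw [← hc', form_smul_right, form_self, mul_zero]
  · intro h
    let b := Module.finBasisOfFinrankEq F W h
    obtain ⟨c, hc0, hc⟩ := radical_three (fun i j => form (b i : V6 F) (b j : V6 F))
      (fun i => form_self _) (fun i j => form_swap _ _)
    have hz : (∑ i, c i • b i : W) = 0 := by
      refine Subtype.ext (hnd _ (∑ i, c i • b i : W).2 fun y hy => ?_)
      have hy' : y = ((∑ j, b.repr ⟨y, hy⟩ j • b j : W) : V6 F) := by rw [b.sum_repr]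
      rw [hy', Submodule.coe_sum, Submodule.coe_sum, ← Geometry.formB_apply]
      simp only [map_sum, LinearMap.sum_apply, Submodule.coe_smul, map_smul, LinearMap.smul_apply,
        Geometry.formB_apply, smul_eq_mul]
      refine Finset.sum_eq_zero fun j _ => ?_
      rw [hc j, mul_zero]
    apply hc0
    funext i
    exact Fintype.linearIndependent_iff.mp b.linearIndependent c hz i

include hf in
/-- The minimal polynomial of `f + f⁻¹` is a power of an irreducible, or there is a plane. -/
theorem primary_or_plane [CharP F 3] (h2 : (2 : F) ≠ 0) :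
    Plane f ∨ ∃ p : F[X], Irreducible p ∧ p.Monic ∧ ∃ k : ℕ, aeval (aOf f) (p ^ k) = 0 := by
  classical
  set m := minpoly F (aOf f) with hm
  have hm0 : m ≠ 0 := minpoly.ne_zero (Algebra.IsIntegral.isIntegral _)
  obtain ⟨p₀, hp₀, hpd₀⟩ :=
    WfDvdMonoid.exists_irreducible_factor (minpoly.not_isUnit F (aOf f)) hm0
  set p := p₀ * C p₀.leadingCoeff⁻¹ with hp
  have hl : IsUnit (C p₀.leadingCoeff⁻¹) :=
    isUnit_C.mpr (inv_ne_zero (leadingCoeff_ne_zero.mpr hp₀.ne_zero)).isUnit
  have hassoc : Associated p p₀ := associated_mul_unit_left p₀ _ hl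
  have hpi : Irreducible p := hassoc.irreducible_iff.mpr hp₀
  have hpm : p.Monic := monic_mul_leadingCoeff_inv hp₀.ne_zero
  have hpd : p ∣ m := hassoc.dvd_iff_dvd_left.mpr hpd₀
  obtain ⟨k, t, hpt, hmk⟩ := WfDvdMonoid.max_power_factor hm0 hpi
  by_cases htu : IsUnit t
  · refine Or.inr ⟨p, hpi, hpm, k, ?_⟩
    obtain ⟨c, hc, rfl⟩ := Polynomial.isUnit_iff.mp htu
    have h := minpoly.aeval F (aOf f)
    rw [← hm, hmk, map_mul, aeval_C] at h
    calc aeval (aOf f) (p ^ k) = (aeval (aOf f) (p ^ k) * algebraMap F _ c) * algebraMap F _ c⁻¹ := by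
          rw [mul_assoc, ← map_mul, mul_inv_cancel₀ hc.ne_zero, map_one, mul_one]
      _ = 0 := by rw [h, zero_mul]
  left
  obtain ⟨u, v, huv⟩ : IsCoprime (p ^ k) t := (hpi.coprime_iff_not_dvd.mpr hpt).pow_left
  set W := LinearMap.ker (aeval (aOf f) (p ^ k)) with hW
  set W' := LinearMap.ker (aeval (aOf f) t) with hW'
  have hmul : ∀ (s : F[X]) x, aeval (aOf f) (s * (p ^ k * t)) x = 0 := fun s x => by
    rw [map_mul, ← hmk, hm, minpoly.aeval, mul_zero, LinearMap.zero_apply]
  have hsum : ∀ x, aeval (aOf f) (u * p ^ k) x + aeval (aOf f) (v * t) x = x := fun x => by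
    rw [← LinearMap.add_apply, ← map_add, huv, map_one]; rfl
  have hin : ∀ x, aeval (aOf f) (v * t) x ∈ W ∧ aeval (aOf f) (u * p ^ k) x ∈ W' := fun x => by
    constructor
    · rw [hW, LinearMap.mem_ker, ← Module.End.mul_apply, ← map_mul,
        show p ^ k * (v * t) = v * (p ^ k * t) by ring, hmul]
    · rw [hW', LinearMap.mem_ker, ← Module.End.mul_apply, ← map_mul,
        show t * (u * p ^ k) = u * (p ^ k * t) by ring, hmul]
  have hperp : ∀ x ∈ W, ∀ y ∈ W', form x y = 0 := by
    intro x hx y hy
    rw [hW, LinearMap.mem_ker] at hx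
    rw [hW', LinearMap.mem_ker] at hy
    rw [← hsum x, form_add_left, aeval_adj hf (v * t), map_mul, map_mul, Module.End.mul_apply,
      Module.End.mul_apply, hx, hy, map_zero, map_zero, form_zero_left, form_zero_right, add_zero]
  have hnd : ∀ x ∈ W, (∀ y ∈ W, form x y = 0) → x = 0 := by
    intro x hx h
    refine eq_zero_of_form_eq_zero fun z => ?_
    rw [form_swap, ← hsum z, form_add_right, h _ (hin z).1, hperp x hx _ (hin z).2, add_zero, neg_zero]
  have hnd' : ∀ x ∈ W', (∀ y ∈ W', form x y = 0) → x = 0 := by
    intro x hx h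
    refine eq_zero_of_form_eq_zero fun z => ?_
    rw [← hsum z, form_add_left, hperp _ (hin z).1 x hx, form_swap, h _ (hin z).2, neg_zero, add_zero]
  have hinv : ∀ s : F[X], ∀ x ∈ LinearMap.ker (aeval (aOf f) s), f x ∈ LinearMap.ker (aeval (aOf f) s) := by
    intro s x hx
    rw [LinearMap.mem_ker] at hx ⊢
    rw [← f_aeval, hx, map_zero]
  have htop : W ⊔ W' = ⊤ := eq_top_iff.mpr fun x _ => by
    rw [← hsum x]
    exact add_mem (Submodule.mem_sup_right (hin x).2) (Submodule.mem_sup_left (hin x).1)
  have hbot : W ⊓ W' = ⊥ := (Submodule.eq_bot_iff _).mpr fun x hx =>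
    hnd x hx.1 fun y hy => by rw [form_swap, hperp y hy x hx.2, neg_zero]
  have hdim := Submodule.finrank_sup_add_finrank_inf_eq W W'
  rw [htop, hbot, finrank_top, finrank_bot, six, add_zero] at hdim
  have hne : W ≠ ⊥ := by
    intro h
    have ht0 : aeval (aOf f) t = 0 := LinearMap.ext fun x => by
      have : aeval (aOf f) (p ^ k) (aeval (aOf f) t x) = 0 := by
        rw [← Module.End.mul_apply, ← map_mul, ← one_mul (p ^ k * t), hmul]
      have hm' : aeval (aOf f) t x ∈ W := this
      rw [h, Submodule.mem_bot] at hm'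
      exact hm'
    obtain ⟨w, hw⟩ := minpoly.dvd F (aOf f) ht0
    exact hpt ((hpd.trans ⟨w, hw⟩ : p ∣ t))
  have hne' : W' ≠ ⊥ := by
    intro h
    have ht0 : aeval (aOf f) (p ^ k) = 0 := LinearMap.ext fun x => by
      have : aeval (aOf f) t (aeval (aOf f) (p ^ k) x) = 0 := by
        rw [← Module.End.mul_apply, ← map_mul, mul_comm t, ← one_mul (p ^ k * t), hmul]
      have hm' : aeval (aOf f) (p ^ k) x ∈ W' := this
      rw [h, Submodule.mem_bot] at hm'
      exact hm'
    have h1 := natDegree_le_of_dvd (minpoly.dvd F (aOf f) ht0) (pow_ne_zero _ hpi.ne_zero)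
    have ht : 0 < t.natDegree :=
      natDegree_pos_iff_degree_pos.mpr (degree_pos_of_ne_zero_of_nonunit
        (right_ne_zero_of_mul (hmk ▸ hm0)) htu)
    rw [← hm, hmk, natDegree_mul (pow_ne_zero _ hpi.ne_zero) (right_ne_zero_of_mul (hmk ▸ hm0))] at h1
    omega
  have p1 := Submodule.one_le_finrank_iff.mpr hne
  have p2 := Submodule.one_le_finrank_iff.mpr hne'
  obtain ⟨a1, a3⟩ := finrank_nondeg hnd
  obtain ⟨b1, b3⟩ := finrank_nondeg hnd'
  rcases (by omega : Module.finrank F W = 2 ∨ Module.finrank F W' = 2) with h | h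
  · exact plane_of_subspace h (hinv _) hnd
  · exact plane_of_subspace h (hinv _) hnd'

include hf in
/-- The irreducible has degree one or three, and in the cubic case it kills `f + f⁻¹`. -/
theorem primary_cases (h2 : (2 : F) ≠ 0) {p : F[X]} (hp : Irreducible p) (hpm : p.Monic) {k : ℕ}
    (hk : aeval (aOf f) (p ^ k) = 0) :
    (p.natDegree = 3 ∧ aeval (aOf f) p = 0) ∨
      (∃ r : F, nOf f r ^ 3 = 0) := by
  classical
  have hdvd : ∀ y : V6 F, y ≠ 0 → ∀ s : F[X], aeval (aOf f) s y = 0 → p ∣ s := by
    intro y hy s hs
    by_contra h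
    obtain ⟨u, v, huv⟩ : IsCoprime (p ^ k) s := (hp.coprime_iff_not_dvd.mpr h).pow_left
    apply hy
    have := congrArg (fun w => aeval (aOf f) w y) huv
    simpa [map_add, map_mul, hk, hs] using this.symm
  have hpos := hp.natDegree_pos
  obtain ⟨y₀, hy₀⟩ := exists_ne (0 : V6 F)
  obtain ⟨s₀, hs₀, hd₀, he₀⟩ := exists_killer hf h2 y₀
  have hle : p.natDegree ≤ 3 := (natDegree_le_of_dvd (hdvd y₀ hy₀ s₀ he₀) hs₀).trans hd₀
  rcases (by omega : p.natDegree = 1 ∨ p.natDegree = 2 ∨ p.natDegree = 3) with h | h | h
  · right
    obtain ⟨a, ha, b, hab⟩ := Polynomial.natDegree_eq_one.mp h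
    have ha1 : a = 1 := by
      have := hpm.coeff_natDegree
      rw [h, ← hab] at this
      simpa using this
    subst ha1
    refine ⟨-b, ?_⟩
    have hN : aeval (aOf f) p = nOf f (-b) := by
      rw [← hab, nOf]
      refine LinearMap.ext fun x => ?_
      simp [Module.algebraMap_end_apply, aOf]
    refine LinearMap.ext fun y => ?_
    obtain ⟨s, hs0, hs3, hsy⟩ := exists_killer hf h2 y
    obtain ⟨j, s', hs', rfl⟩ := WfDvdMonoid.max_power_factor hs0 hp
    have hj : j ≤ 3 := by
      rw [natDegree_mul (pow_ne_zero _ hp.ne_zero) (right_ne_zero_of_mul hs0), natDegree_pow, h] at hs3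
      omega
    rw [mul_comm, map_mul, Module.End.mul_apply] at hsy
    have hz : aeval (aOf f) (p ^ j) y = 0 := by
      by_contra hne
      exact hs' (hdvd _ hne s' hsy)
    rw [map_pow, hN] at hz
    rw [LinearMap.zero_apply, ← pow_sub_mul_pow (nOf f (-b)) hj, Module.End.mul_apply, hz,
      map_zero]
  · -- no quadratic
    exfalso
    obtain ⟨x, hx, hx0⟩ : ∃ x, aeval (aOf f) p x = 0 ∧ x ≠ 0 := by
      by_contra hh
      push Not at hh
      have hinj : Function.Injective (aeval (aOf f) p) := by
        rw [injective_iff_map_eq_zero]; exact hh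
      obtain ⟨y, hy⟩ := exists_ne (0 : V6 F)
      have : ∀ j, Function.Injective (aeval (aOf f) (p ^ j)) := by
        intro j
        induction j with
        | zero => rw [pow_zero, map_one]; exact fun a b e => e
        | succ j ih => rw [pow_succ, map_mul]; exact ih.comp hinj
      exact hy (this k (by rw [hk]; rfl))
    set U := Submodule.span F {x, aOf f x} with hU
    have hax : ∀ c : F, aOf f x ≠ c • x := by
      intro c hc
      have hev : (aOf f).HasEigenvector c x := ⟨Module.End.mem_eigenspace_iff.mpr hc, hx0⟩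
      rw [Module.End.aeval_apply_of_hasEigenvector hev] at hx
      have := degree_eq_one_of_irreducible_of_root hp ((smul_eq_zero.mp hx).resolve_right hx0)
      rw [degree_eq_natDegree hp.ne_zero, h] at this
      exact absurd this (by decide)
    have hU2 : Module.finrank F U = 2 := by
      have hli : LinearIndependent F ![x, aOf f x] := by
        rw [LinearIndependent.pair_iff' hx0]; exact fun c hc => hax c hc.symm
      have := finrank_span_eq_card hli
      rwa [Matrix.range_cons, Matrix.range_cons, Matrix.range_empty, Set.union_empty,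
        Set.singleton_union, Fintype.card_fin] at this
    have hUinv : ∀ u ∈ U, aOf f u ∈ U := by
      intro u hu
      obtain ⟨c, d, rfl⟩ := Submodule.mem_span_pair.mp hu
      have he : p = C (p.coeff 0) + C (p.coeff 1) * X + X ^ 2 := by
        conv_lhs => rw [hpm.as_sum, h]
        simp [Finset.sum_range_succ]; ring
      rw [he] at hx
      simp only [map_add, map_mul, aeval_C, aeval_X, map_pow, LinearMap.add_apply,
        Module.End.mul_apply, Module.algebraMap_end_apply, pow_two] at hx
      rw [hU, Submodule.mem_span_pair]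
      refine ⟨-(d * p.coeff 0), c - d * p.coeff 1, ?_⟩
      rw [map_add, map_smul, map_smul]
      linear_combination (norm := module) (-d) • hx
    set B := Geometry.formB (Fin 3) F with hB
    set P := B.orthogonal U with hP
    have hUTI : ∀ u ∈ U, ∀ v ∈ U, form u v = 0 := by
      intro u hu v hv
      obtain ⟨c, d, rfl⟩ := Submodule.mem_span_pair.mp hu
      obtain ⟨c', d', rfl⟩ := Submodule.mem_span_pair.mp hv
      have hxx := aeval_self hf h2 X x
      rw [aeval_X] at hxx
      simp only [form_add_left, form_add_right, form_smul_left, form_smul_right, form_self, hxx,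
        form_swap (aOf f x) x, neg_zero, mul_zero, add_zero]
    have hP4 : Module.finrank F P = 4 := by
      rw [hP, LinearMap.BilinForm.finrank_orthogonal Geometry.formB_nondeg, six, hU2]
    have hUP : U ≤ P := fun v hv u hu => hUTI u hu v hv
    obtain ⟨z, hzP, hzU⟩ : ∃ z ∈ P, z ∉ U := by
      by_contra hh
      push Not at hh
      exact absurd (hP4.symm.le.trans ((Submodule.finrank_mono (show P ≤ U from hh)).trans hU2.le))
        (by decide)
    have hPinv : aOf f z ∈ P := fun u hu => by
      show form u (aOf f z) = 0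
      rw [← a_adj hf]; exact hzP _ (hUinv u hu)
    -- the hyperplane of `P` orthogonal to `z`
    set H := P ⊓ LinearMap.ker (B z) with hH
    obtain ⟨q, hqP, hq⟩ : ∃ q ∈ P, form z q ≠ 0 := by
      by_contra hh
      push Not at hh
      apply hzU
      have : z ∈ B.orthogonal P := fun q hq => by
        show form q z = 0
        rw [form_swap, hh q hq, neg_zero]
      rwa [hP, LinearMap.BilinForm.orthogonal_orthogonal Geometry.formB_nondeg
        Geometry.formB_alt.isRefl] at this
    have hH3 : Module.finrank F H ≤ 3 := by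
      have : H < P := by
        refine lt_of_le_of_ne inf_le_left fun e => hq ?_
        have : q ∈ H := by rw [e]; exact hqP
        exact this.2
      have := Submodule.finrank_lt_finrank_of_lt this
      omega
    have hle : U ⊔ Submodule.span F {z} ≤ H := by
      refine sup_le (le_inf hUP fun u hu => ?_) ?_
      · show form z u = 0
        rw [form_swap, show form u z = 0 from hzP u hu, neg_zero]
      · rw [Submodule.span_singleton_le_iff_mem]
        exact ⟨hzP, form_self z⟩
    have heq : U ⊔ Submodule.span F {z} = H := by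
      refine Submodule.eq_of_le_of_finrank_le hle ?_
      have h1 : U < U ⊔ Submodule.span F {z} :=
        lt_of_le_of_ne le_sup_left fun e => hzU (e ▸ Submodule.mem_sup_right
          (Submodule.mem_span_singleton_self z))
      exact hH3.trans (Nat.succ_le_of_lt (hU2.symm.trans_lt (Submodule.finrank_lt_finrank_of_lt h1)))
    have hzz : aOf f z ∈ H := ⟨hPinv, by
      have := aeval_self hf h2 X z
      rw [aeval_X] at this
      exact this⟩
    rw [← heq, Submodule.mem_sup] at hzz
    obtain ⟨u, hu, w, hw, huw⟩ := hzz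
    obtain ⟨lam, rfl⟩ := Submodule.mem_span_singleton.mp hw
    have hev : ∀ s : F[X], aeval (aOf f) s z - s.eval lam • z ∈ U := by
      intro s
      induction s using Polynomial.induction_on' with
      | add p q hp hq =>
        rw [map_add, LinearMap.add_apply, eval_add, add_smul, add_sub_add_comm]
        exact add_mem hp hq
      | monomial i c =>
        rw [aeval_monomial, eval_monomial, Module.End.mul_apply, Module.algebraMap_end_apply,
          mul_smul, ← smul_sub]
        refine U.smul_mem c ?_
        induction i with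
        | zero => simp
        | succ i ih =>
          have e : (aOf f ^ (i + 1)) z - lam ^ (i + 1) • z =
              aOf f ((aOf f ^ i) z - lam ^ i • z) + lam ^ i • u := by
            rw [pow_succ', Module.End.mul_apply, map_sub, map_smul, ← huw, pow_succ]
            module
          rw [e]
          exact add_mem (hUinv _ ih) (U.smul_mem _ hu)
    have h0 := hev (p ^ k)
    rw [hk, LinearMap.zero_apply, zero_sub, neg_mem_iff] at h0
    by_cases hroot : (p ^ k).eval lam = 0
    · rw [eval_pow] at hroot
      have := degree_eq_one_of_irreducible_of_root hp (pow_eq_zero_iff'.mp hroot).1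
      rw [degree_eq_natDegree hp.ne_zero, h] at this
      exact absurd this (by decide)
    · exact hzU ((U.smul_mem_iff hroot).mp h0)
  · left
    refine ⟨h, LinearMap.ext fun y => ?_⟩
    obtain ⟨s, hs0, hs3, hsy⟩ := exists_killer hf h2 y
    rcases eq_or_ne y 0 with rfl | hy
    · simp
    obtain ⟨t, rfl⟩ := hdvd y hy s hsy
    have ht : t.natDegree = 0 := by
      rw [natDegree_mul hp.ne_zero (right_ne_zero_of_mul hs0), h] at hs3; omega
    obtain ⟨c, hc⟩ := natDegree_eq_zero.mp ht
    rw [← hc, mul_comm, map_mul, Module.End.mul_apply, aeval_C, Module.algebraMap_end_apply] at hsy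
    exact (smul_eq_zero.mp hsy).resolve_left fun e => by
      rw [← hc, e, map_zero, mul_zero] at hs0; exact hs0 rfl

theorem g_sq (x : V6 F) (r : F) :
    gOf f (gOf f x) = nOf f r (nOf f r x) + (2 * r) • nOf f r x + (r * r - 4) • x := by
  simp only [gOf_apply, nOf_apply, map_sub, map_add, map_smul, LinearEquiv.symm_apply_apply,
    LinearEquiv.apply_symm_apply]
  module

theorem f_n (r : F) (x : V6 F) : f (nOf f r x) = nOf f r (f x) := by simp [nOf_apply]

include hf in
theorem n_adj (r : F) (x y : V6 F) : form (nOf f r x) y = form x (nOf f r y) := by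
  rw [nOf, LinearMap.sub_apply, LinearMap.sub_apply, LinearMap.smul_apply, LinearMap.smul_apply,
    Module.End.one_apply, Module.End.one_apply, form_sub_left, form_sub_right, a_adj hf,
    form_smul_left, form_smul_right]

/-- A self-adjoint alternating operator does not have rank one or three. -/
theorem rank_ne [CharP F 3] (M : Module.End F (V6 F)) (hM : ∀ x y, form (M x) y = form x (M y))
    (hA : ∀ x, form x (M x) = 0) :
    Module.finrank F (LinearMap.range M) ≠ 1 ∧ Module.finrank F (LinearMap.range M) ≠ 3 := by
  have hsk : ∀ x y, form (M y) x = -form (M x) y := fun x y => by rw [hM, form_swap]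
  have hA' : ∀ x, form (M x) x = 0 := fun x => by rw [hM, hA]
  constructor
  · intro h
    obtain ⟨⟨v, hv⟩, hv0, hall⟩ := finrank_eq_one_iff'.mp h
    obtain ⟨w, hw⟩ := hv
    have hv0' : v ≠ 0 := fun e => hv0 (Subtype.ext e)
    apply hv0'
    refine eq_zero_of_form_eq_zero fun z => ?_
    obtain ⟨c, hc⟩ := hall ⟨M z, z, rfl⟩
    have hc' : c • v = M z := congrArg Subtype.val hc
    have h1 := hA' w
    rw [hw] at h1
    have h2 : form v z = -(c * form v w) := by
      have h3 := hsk z w
      rw [hw, ← hc', form_smul_left] at h3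
      exact h3
    rw [form_swap, h2, h1, mul_zero, neg_zero, neg_zero]
  · intro h
    let b := Module.finBasisOfFinrankEq F (LinearMap.range M) h
    choose c hc using fun i => (b i).2
    obtain ⟨k, hk0, hk⟩ := radical_three (fun i j => form (M (c i)) (c j))
      (fun i => hA' _) (fun i j => hsk _ _)
    have hMz : M (∑ i, k i • c i) = 0 := by
      refine eq_zero_of_form_eq_zero fun y => ?_
      have hy : M y = ∑ j, b.repr ⟨M y, y, rfl⟩ j • M (c j) := by
        conv_lhs => rw [show M y = ((⟨M y, y, rfl⟩ : LinearMap.range M) : V6 F) from rfl,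
          ← b.sum_repr ⟨M y, y, rfl⟩]
        rw [Submodule.coe_sum]
        exact Finset.sum_congr rfl fun j _ => by rw [Submodule.coe_smul, hc]
      rw [← hM, hy, ← Geometry.formB_apply]
      simp only [map_sum, LinearMap.sum_apply, map_smul, LinearMap.smul_apply,
        Geometry.formB_apply, smul_eq_mul]
      simp only [Finset.mul_sum]
      rw [Finset.sum_comm]
      refine Finset.sum_eq_zero fun d _ => ?_
      rw [← mul_zero (-(b.repr ⟨M y, y, rfl⟩ d)), ← hk d, Finset.mul_sum]
      refine Finset.sum_congr rfl fun i _ => ?_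
      rw [hsk (c i) (c d)]
      ring
    apply hk0
    funext i
    refine Fintype.linearIndependent_iff.mp b.linearIndependent k (Subtype.ext ?_) i
    rw [Submodule.coe_sum, Submodule.coe_zero, ← hMz, map_sum]
    exact Finset.sum_congr rfl fun i _ => by rw [Submodule.coe_smul, map_smul, hc]

include hf in
/-- The linear case: a plane, a regular element, or a double cubic block. -/
theorem linear_cases [CharP F 3] (h2 : (2 : F) ≠ 0) {r : F} (hN : nOf f r ^ 3 = 0) :
    Plane f ∨ (∃ x, form x (nOf f r (nOf f r (f x))) ≠ 0) ∨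
      (∃ s : F, s * s = 1 ∧ (∀ x, gOf f (gOf f (gOf f x)) = 0) ∧ (∃ x, gOf f (gOf f x) ≠ 0) ∧
        ∀ x, f x = s • x - gOf f x - s • gOf f (gOf f x)) := by
  classical
  set N := nOf f r with hNdef
  set g := gOf f with hg
  have hN3 : ∀ x, N (N (N x)) = 0 := fun x => by
    have := LinearMap.congr_fun hN x
    simpa [pow_succ, Module.End.mul_apply] using this
  have hgN : ∀ x, g (N x) = N (g x) := fun x => by
    simp only [hg, hNdef, gOf_apply, nOf_apply, map_sub, map_add, map_smul,
      LinearEquiv.symm_apply_apply, LinearEquiv.apply_symm_apply]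
    module
  have hNA : ∀ x, form x (N x) = 0 := fun x => by
    have := aeval_self hf h2 (X - C r) x
    simpa [hNdef, nOf, Module.algebraMap_end_apply] using this
  have hN2A : ∀ x, form x (N (N x)) = 0 := fun x => by rw [← n_adj hf, form_self]
  have hNNadj : ∀ x y, form (N (N x)) y = form x (N (N y)) := fun x y => by
    rw [n_adj hf, n_adj hf]
  by_cases hreg : ∃ x, form x (N (N (f x))) ≠ 0
  · exact Or.inr (Or.inl hreg)
  push Not at hreg
  have hNNg : ∀ x, N (N (g x)) = 0 := by
    intro x
    refine eq_zero_of_form_eq_zero fun y => ?_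
    have h := hreg (y + x)
    simp only [map_add, form_add_left, form_add_right, hreg, zero_add, add_zero] at h
    have e1 : form x (N (N (f y))) = -form y (N (N (f.symm x))) := by
      rw [← hNNadj, form_swap]
      congr 1
      conv_lhs => rw [← f.apply_symm_apply (N (N x)), hf]
      congr 1
      apply f.injective
      rw [f.apply_symm_apply, f_n, f_n, f.apply_symm_apply]
    rw [e1] at h
    rw [hg, gOf_apply, map_sub, map_sub, form_sub_right]
    linear_combination h
  -- a vector of the kernel of `N` not orthogonal to its image spans a plane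
  by_cases hK : ∃ x, N x = 0 ∧ form x (f x) ≠ 0
  · obtain ⟨x, hx, hxf⟩ := hK
    left
    refine ⟨x, f x, hxf, Submodule.subset_span (Set.mem_insert_of_mem _ rfl), ?_⟩
    rw [Submodule.mem_span_pair]
    refine ⟨-1, r, ?_⟩
    have := congrArg f hx
    rw [hNdef, nOf_apply, map_sub, map_add, map_smul, f.apply_symm_apply, map_zero] at this
    linear_combination (norm := module) -this
  push Not at hK
  rcases eq_or_ne (r * r - 4) 0 with h4 | h4
  swap
  · -- `g` is invertible
    exfalso
    have hginj : Function.Injective g := by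
      rw [injective_iff_map_eq_zero]
      intro x hx
      have hkey : ∀ y, g y = 0 → (r * r - 4) • y = -(N (N y) + (2 * r) • N y) := fun y hy => by
        have := g_sq (f := f) y r
        rw [← hg, hy, map_zero] at this
        exact eq_neg_of_add_eq_zero_right this.symm
      have h1 : N (N x) = 0 := by
        have := hkey (N (N x)) (by rw [hgN, hgN, hx, map_zero, map_zero])
        simp only [hN3, map_zero, smul_zero, add_zero, neg_zero] at this
        exact (smul_eq_zero.mp this).resolve_left h4
      have h2' : N x = 0 := by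
        have := hkey (N x) (by rw [hgN, hx, map_zero])
        simp only [hN3, h1, map_zero, smul_zero, add_zero, neg_zero] at this
        exact (smul_eq_zero.mp this).resolve_left h4
      have := hkey x hx
      rw [h1, h2', smul_zero, add_zero, neg_zero] at this
      exact (smul_eq_zero.mp this).resolve_left h4
    have hgsurj : Function.Surjective g := LinearMap.injective_iff_surjective.mp hginj
    have hNN : ∀ x, N (N x) = 0 := fun x => by
      obtain ⟨y, rfl⟩ := hgsurj x
      exact hNNg y
    have hKTI : ∀ u ∈ LinearMap.ker N, ∀ v ∈ LinearMap.ker N, form u v = 0 := by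
      intro u hu v hv
      have hu' : N u = 0 := hu
      have hv' : N v = 0 := hv
      have hgv : ∀ w, N w = 0 → ∀ z, N z = 0 → form z (g w) = 0 := by
        intro w hw z hz
        have h := hK (z + w) (by rw [map_add, hz, hw, add_zero])
        simp only [map_add, form_add_left, form_add_right, hK z hz, hK w hw, zero_add,
          add_zero] at h
        have e1 : form w (f z) = -form z (f.symm w) := by
          conv_lhs => rw [← f.apply_symm_apply w, hf, form_swap]
        rw [e1] at h
        rw [hg, gOf_apply, form_sub_right]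
        linear_combination h
      -- `g` is onto on the kernel
      have hmaps : ∀ w ∈ LinearMap.ker N, g w ∈ LinearMap.ker N := fun w hw => by
        rw [LinearMap.mem_ker] at hw ⊢
        rw [← hgN, hw, map_zero]
      obtain ⟨w, hw⟩ := (LinearMap.injective_iff_surjective (f := g.restrict hmaps)).mp (fun a b e => Subtype.ext (hginj (congrArg Subtype.val e))) ⟨v, hv⟩
      have hw' : g w.1 = v := congrArg Subtype.val hw
      rw [← hw']
      exact hgv w.1 w.2 u hu'
    have h1 := finrank_ti hKTI
    have h2' := N.finrank_range_add_finrank_ker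
    have hrk : LinearMap.range N ≤ LinearMap.ker N := by
      rintro _ ⟨x, rfl⟩; exact hNN x
    have h3 := Submodule.finrank_mono hrk
    rw [six] at h2'
    exact (rank_ne N (n_adj hf r) hNA).2 (by omega)
  -- `r = ±2`
  have h3 : (3 : F) = 0 := CharP.cast_eq_zero F 3
  have hr : r * r = 1 := by linear_combination h4 + h3
  have hr0 : r ≠ 0 := fun e => by rw [e, zero_mul] at hr; exact zero_ne_one hr
  have hgg : ∀ x, g (g x) = N (N x) + (2 * r) • N x := fun x => by
    have := g_sq (f := f) x r
    rwa [← hg, h4, zero_smul, add_zero] at this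
  by_cases hNN : ∀ x, N (N x) = 0
  swap
  · -- ranks would add up to more than six
    exfalso
    push Not at hNN
    have hg4 : ∀ x, g (g (g (g x))) = (2 * r * (2 * r)) • N (N x) := fun x => by
      rw [hgg, hgg]
      simp only [map_add, map_smul, hN3, map_zero, smul_smul, smul_zero, zero_add, add_zero]
    have hg5 : ∀ x, g (g (g (g (g x)))) = 0 := fun x => by
      rw [hg4, hNNg, smul_zero]
    have h2r : 2 * r * (2 * r) ≠ 0 := mul_ne_zero (mul_ne_zero h2 hr0) (mul_ne_zero h2 hr0)
    have hle : ∀ i : ℕ, i < 5 →
        Module.finrank F (LinearMap.range (g ^ 4)) + Module.finrank F (LinearMap.range (g ^ (i + 1))) ≤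
          Module.finrank F (LinearMap.range (g ^ i)) := by
      intro i hi
      have h1 := (g.domRestrict (LinearMap.range (g ^ i))).finrank_range_add_finrank_ker
      rw [LinearMap.range_domRestrict, ← LinearMap.range_comp, ← Module.End.mul_eq_comp, ← pow_succ'] at h1
      have hsub : LinearMap.range (g ^ 4) ≤ LinearMap.range (g ^ i) := by
        rintro _ ⟨y, rfl⟩
        refine ⟨(g ^ (4 - i)) y, ?_⟩
        rw [← Module.End.mul_apply, ← pow_add, show i + (4 - i) = 4 by omega]
      let ι : LinearMap.range (g ^ 4) →ₗ[F] LinearMap.ker (g.domRestrict (LinearMap.range (g ^ i))) :=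
        (Submodule.inclusion hsub).codRestrict _ fun z => by
          obtain ⟨z, y, rfl⟩ := z
          rw [LinearMap.mem_ker]
          show g ((g ^ 4) y) = 0
          simpa [pow_succ, Module.End.mul_apply] using hg5 y
      have h2' := LinearMap.finrank_le_finrank_of_injective (f := ι) fun a b e =>
        Submodule.inclusion_injective hsub (congrArg Subtype.val e)
      omega
    obtain ⟨x, hx⟩ := hNN
    have hrange : LinearMap.range (g ^ 4) = LinearMap.range (N * N) := by
      apply le_antisymm
      · rintro _ ⟨y, rfl⟩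
        refine ⟨(2 * r * (2 * r)) • y, ?_⟩
        simp [pow_succ, Module.End.mul_apply, hg4, map_smul]
      · rintro _ ⟨y, rfl⟩
        refine ⟨(2 * r * (2 * r))⁻¹ • y, ?_⟩
        simp only [pow_succ, pow_zero, one_mul, Module.End.mul_apply, hg4, map_smul, smul_smul, inv_mul_cancel₀ h2r, one_smul]
    have hne : LinearMap.range (g ^ 4) ≠ ⊥ := by
      rw [hrange]
      intro e
      have hmem : N (N x) ∈ LinearMap.range (N * N) := ⟨x, rfl⟩
      rw [e, Submodule.mem_bot] at hmem
      exact hx hmem
    have p1 := Submodule.one_le_finrank_iff.mpr hne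
    have p2 : Module.finrank F (LinearMap.range (g ^ 4)) ≠ 1 := by
      rw [hrange]
      exact (rank_ne (N * N) hNNadj hN2A).1
    have h0 : Module.finrank F (LinearMap.range (g ^ 0)) ≤ 6 :=
      (Submodule.finrank_le _).trans_eq (six F)
    have a0 := hle 0 (by omega)
    have a1 := hle 1 (by omega)
    have a2 := hle 2 (by omega)
    have a3 := hle 3 (by omega)
    have a4 := hle 4 (by omega)
    simp only [zero_add, Nat.reduceAdd] at a0 a1 a2 a3 a4
    omega
  have hgg' : ∀ x, g (g x) = (2 * r) • N x := fun x => by rw [hgg, hNN, zero_add]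
  have h2r : 2 * r ≠ 0 := mul_ne_zero h2 hr0
  -- the criterion on the kernel of `N`
  have hgK : ∀ y, N y = 0 → ∀ z, N z = 0 → form z (g y) = 0 := by
    intro y hy z hz
    have h := hK (z + y) (by rw [map_add, hz, hy, add_zero])
    simp only [map_add, form_add_left, form_add_right, hK z hz, hK y hy, zero_add, add_zero] at h
    have e1 : form y (f z) = -form z (f.symm y) := by
      conv_lhs => rw [← f.apply_symm_apply y, hf, form_swap]
    rw [e1] at h
    rw [hg, gOf_apply, form_sub_right]
    linear_combination h
  have hfN : ∀ x, (2 : F) • f x = r • x + N x + g x := fun x => by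
    rw [hg, gOf_apply, hNdef, nOf_apply]
    module
  -- two fixed vectors pairing non-trivially span a plane
  by_cases hkg : ∃ z w, g z = 0 ∧ g w = 0 ∧ form z w ≠ 0
  · obtain ⟨z, w, hz, hw, hzw⟩ := hkg
    left
    have hfix : ∀ y, g y = 0 → f y = (r / 2) • y := fun y hy => by
      have hNy : N y = 0 := by
        have := hgg' y
        rw [hy, map_zero] at this
        exact (smul_eq_zero.mp this.symm).resolve_left h2r
      have := hfN y
      rw [hNy, hy, add_zero, add_zero] at this
      rw [div_eq_inv_mul, ← smul_smul, ← this, smul_smul, inv_mul_cancel₀ h2, one_smul]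
    exact ⟨z, w, hzw, Submodule.mem_span_pair.mpr ⟨r / 2, 0, by rw [hfix z hz]; simp⟩,
      Submodule.mem_span_pair.mpr ⟨0, r / 2, by rw [hfix w hw]; simp⟩⟩
  push Not at hkg
  set B := Geometry.formB (Fin 3) F with hB
  have hrangeN : ∀ y, N y = 0 → g y ∈ LinearMap.range N := by
    intro y hy
    have h1 : g y ∈ B.orthogonal (LinearMap.ker N) := fun z hz => hgK y hy z hz
    have h2' : LinearMap.ker N = B.orthogonal (LinearMap.range N) := by
      ext z
      constructor
      · intro hz
        rintro _ ⟨w, rfl⟩
        show form (N w) z = 0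
        rw [n_adj hf, show N z = 0 from hz, form_zero_right]
      · intro hz
        refine eq_zero_of_form_eq_zero fun w => ?_
        rw [← n_adj hf]
        exact hz (N w) ⟨w, rfl⟩
    rwa [h2', LinearMap.BilinForm.orthogonal_orthogonal Geometry.formB_nondeg
      Geometry.formB_alt.isRefl] at h1
  have hkerg : LinearMap.ker g ≤ LinearMap.range g := by
    intro z hz
    have h1 : z ∈ B.orthogonal (LinearMap.ker g) := fun w hw => hkg w z hw hz
    have h2' : LinearMap.ker g = B.orthogonal (LinearMap.range g) := by
      ext y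
      constructor
      · intro hy
        rintro _ ⟨w, rfl⟩
        show form (g w) y = 0
        rw [g_skew hf, show g y = 0 from hy, form_zero_right, neg_zero]
      · intro hy
        refine eq_zero_of_form_eq_zero fun w => ?_
        have := hy (g w) ⟨w, rfl⟩
        rw [← neg_eq_zero, ← g_skew hf]
        exact this
    rwa [h2', LinearMap.BilinForm.orthogonal_orthogonal Geometry.formB_nondeg
      Geometry.formB_alt.isRefl] at h1
  have hrg : LinearMap.range N = LinearMap.range (g * g) := by
    apply le_antisymm
    · rintro _ ⟨y, rfl⟩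
      refine ⟨(2 * r)⁻¹ • y, ?_⟩
      simp only [Module.End.mul_apply, hgg', map_smul, smul_smul, inv_mul_cancel₀ h2r, one_smul]
    · rintro _ ⟨y, rfl⟩
      exact ⟨(2 * r) • y, by rw [map_smul, Module.End.mul_apply, hgg']⟩
  have hkg2 : LinearMap.ker g ≤ LinearMap.range N := by
    intro z hz
    obtain ⟨y, rfl⟩ := hkerg hz
    refine hrangeN y ?_
    have := hgg' y
    rw [show g (g y) = 0 from hz] at this
    exact (smul_eq_zero.mp this.symm).resolve_left h2r
  by_cases hN0 : ∀ x, N x = 0
  · exfalso
    have hb : LinearMap.ker g = ⊥ := by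
      rw [eq_bot_iff]
      refine hkg2.trans ?_
      rintro _ ⟨x, rfl⟩
      exact hN0 x
    obtain ⟨y, hy⟩ := exists_ne (0 : V6 F)
    have hinj : Function.Injective g := LinearMap.ker_eq_bot.mp hb
    apply hy
    apply hinj; apply hinj
    rw [map_zero, map_zero, hgg', hN0, smul_zero]
  push Not at hN0
  -- `ker g = range N`
  have hN2 : Module.finrank F (LinearMap.range N) ≤ 3 := by
    have h1 := N.finrank_range_add_finrank_ker
    have h3' := Submodule.finrank_mono (show LinearMap.range N ≤ LinearMap.ker N by
      rintro _ ⟨x, rfl⟩; exact hNN x)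
    rw [six] at h1
    omega
  obtain ⟨n1, n3⟩ := rank_ne N (n_adj hf r) hNA
  have hne : LinearMap.range N ≠ ⊥ := by
    intro e
    obtain ⟨x, hx⟩ := hN0
    have hmem : N x ∈ LinearMap.range N := ⟨x, rfl⟩
    rw [e, Submodule.mem_bot] at hmem
    exact hx hmem
  have p1 := Submodule.one_le_finrank_iff.mpr hne
  have hdim : LinearMap.ker g = LinearMap.range N := by
    refine Submodule.eq_of_le_of_finrank_le hkg2 ?_
    have h1 := g.finrank_range_add_finrank_ker
    have hle := Submodule.finrank_mono hkg2
    have h4' := (g.domRestrict (LinearMap.range g)).finrank_range_add_finrank_ker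
    rw [LinearMap.range_domRestrict, ← LinearMap.range_comp, ← Module.End.mul_eq_comp, ← hrg] at h4'
    let ι : LinearMap.ker (g.domRestrict (LinearMap.range g)) →ₗ[F] LinearMap.ker g :=
      ((LinearMap.range g).subtype.comp (LinearMap.ker (g.domRestrict (LinearMap.range g))).subtype).codRestrict
        _ fun z => z.2
    have h5 := LinearMap.finrank_le_finrank_of_injective (f := ι) fun a b e =>
      Subtype.ext (Subtype.ext (congrArg Subtype.val e :))
    rw [six] at h1
    omega
  have hg3 : ∀ x, g (g (g x)) = 0 := fun x => by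
    have hmem : g (g x) ∈ LinearMap.range N := hrg ▸ ⟨x, rfl⟩
    rw [← hdim] at hmem
    exact hmem
  right; right
  refine ⟨r / 2, ?_, hg3, ?_, fun x => ?_⟩
  · rw [div_mul_div_comm, hr, div_eq_one_iff_eq (mul_ne_zero h2 h2)]
    linear_combination -h3
  · obtain ⟨x, hx⟩ := hN0
    exact ⟨x, by rw [hgg']; exact smul_ne_zero h2r hx⟩
  · have h := hfN x
    rw [hgg', smul_smul]
    have e2 : (2 : F)⁻¹ = -1 := inv_eq_of_mul_eq_one_right (by linear_combination -h3)
    have hfx : f x = (2 : F)⁻¹ • (r • x + N x + g x) := by
      rw [← h, smul_smul, inv_mul_cancel₀ h2, one_smul]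
    rw [hfx, div_eq_mul_inv, e2, show r * -1 * (2 * r) = (1 : F) by linear_combination (-2) * hr - h3]
    module

end CfsgLib.Cover5.SympSix
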