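import Cfsg.Agent.Cover5.SympSixNormal
import Mathlib.FieldTheory.Finite.GaloisField
import Mathlib.RingTheory.Trace.Basic

/-!
# Models of semilinear isometries of a line pair over the cubic extension
-/

set_option autoImplicit false
set_option linter.unusedSectionVars false
set_option linter.unusedVariables false
set_option maxHeartbeats 1000000

namespace CfsgLib.Cover5.SympSix

open Polynomial CfsgLib.Symp

variable {F : Type*} [Field F] [Finite F] [CharP F 3]
variable {E : Type*} [Field E] [Algebra F E] [FiniteDimensional F E]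

/-- The form of the model. -/
noncomputable def tform (a b : E × E) : F :=
  Algebra.trace F E (a.1 * b.2) - Algebra.trace F E (a.2 * b.1)

theorem exists_psi (hE : Module.finrank F E = 3) :
    ∃ ψ : (E × E) ≃ₗ[F] V6 F, ∀ a b, form (ψ a) (ψ b) = tform a b := by
  classical
  let b := Module.finBasisOfFinrankEq F E hE
  have hnd := traceForm_nondegenerate F E
  let d := (Algebra.traceForm F E).dualBasis hnd b
  have key : ∀ x y : E, ∑ i, b.repr x i * d.repr y i = Algebra.trace F E (x * y) := fun x y => by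
    have hd : ∀ i, d.repr y i = Algebra.trace F E (y * b i) := fun i =>
      LinearMap.BilinForm.dualBasis_repr_apply hnd b y i
    calc ∑ i, b.repr x i * d.repr y i
        = Algebra.trace F E (y * ∑ i, b.repr x i • b i) := by
          rw [Finset.mul_sum, map_sum]
          exact Finset.sum_congr rfl fun i _ => by rw [hd, mul_smul_comm, map_smul, smul_eq_mul]
      _ = Algebra.trace F E (x * y) := by rw [b.sum_repr, mul_comm]
  let ψ : (E × E) ≃ₗ[F] V6 F := ((LinearEquiv.prodComm F E E).trans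
    (d.equivFun.prodCongr b.equivFun)).trans (LinearEquiv.sumArrowLequivProdArrow _ _ F F).symm
  have hl : ∀ z i, ψ z (Sum.inl i) = d.repr z.2 i := fun z i => rfl
  have hr : ∀ z i, ψ z (Sum.inr i) = b.repr z.1 i := fun z i => rfl
  refine ⟨ψ, fun u v => ?_⟩
  simp only [form_apply, hl, hr, Finset.sum_sub_distrib, tform, key]
  rw [mul_comm u.2 v.1, ← key v.1 u.2]
  congr 1
  exact Finset.sum_congr rfl fun i _ => mul_comm _ _

/-- An endomorphism of the model, moved to the symplectic space. -/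
noncomputable def conjM (ψ : (E × E) ≃ₗ[F] V6 F) (f₀ : (E × E) ≃ₗ[F] (E × E)) : V6 F ≃ₗ[F] V6 F :=
  ψ.symm.trans (f₀.trans ψ)

/-- The coordinatewise structure. -/
noncomputable def iota0 (ψ : (E × E) ≃ₗ[F] V6 F) : E →ₐ[F] Module.End F (V6 F) :=
  (ψ.conjAlgEquiv F).toAlgHom.comp (Algebra.lsmul F F (E × E))

variable (ψ : (E × E) ≃ₗ[F] V6 F) (hψ : ∀ a b, form (ψ a) (ψ b) = tform a b)

theorem iota0_apply (e : E) (z : E × E) : iota0 ψ e (ψ z) = ψ (e • z) := by
  show ψ (Algebra.lsmul F F (E × E) e (ψ.symm (ψ z))) = _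
  rw [ψ.symm_apply_apply]; rfl

theorem conjM_apply (f₀ : (E × E) ≃ₗ[F] (E × E)) (z : E × E) : conjM ψ f₀ (ψ z) = ψ (f₀ z) := by
  simp [conjM]

theorem conjM_symm_apply (f₀ : (E × E) ≃ₗ[F] (E × E)) (z : E × E) :
    (conjM ψ f₀).symm (ψ z) = ψ (f₀.symm z) := by
  simp [conjM]

include hψ in
theorem iota0_adj (e : E) (u v : V6 F) : form (iota0 ψ e u) v = form u (iota0 ψ e v) := by
  obtain ⟨a, rfl⟩ := ψ.surjective u
  obtain ⟨b, rfl⟩ := ψ.surjective v
  rw [iota0_apply, iota0_apply, hψ, hψ, tform, tform]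
  simp only [Prod.smul_fst, Prod.smul_snd, smul_eq_mul]
  congr 2 <;> ring

/-- A model that is semilinear over `φ`. -/
theorem conjM_str (hψ : ∀ a b, form (ψ a) (ψ b) = tform a b) (f₀ : (E × E) ≃ₗ[F] (E × E))
    (φ : E ≃+* E) (h : ∀ (e : E) z, f₀ (e • z) = φ e • f₀ z) : Str E (conjM ψ f₀) := by
  refine ⟨iota0 ψ, φ, iota0_adj ψ hψ, fun e x => ?_⟩
  obtain ⟨z, rfl⟩ := ψ.surjective x
  rw [iota0_apply, conjM_apply, conjM_apply, iota0_apply, h]

include hψ in
theorem conjM_isom (f₀ : (E × E) ≃ₗ[F] (E × E)) (h : ∀ a b, tform (f₀ a) (f₀ b) = tform (F := F) a b) :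
    Isom (conjM ψ f₀) := by
  intro u v
  obtain ⟨a, rfl⟩ := ψ.surjective u
  obtain ⟨b, rfl⟩ := ψ.surjective v
  rw [conjM_apply, conjM_apply, hψ, hψ, h]

theorem conjM_nOf (f₀ : (E × E) ≃ₗ[F] (E × E)) (r : F) (z : E × E) :
    nOf (conjM ψ f₀) r (ψ z) = ψ (f₀ z + f₀.symm z - r • z) := by
  rw [nOf_apply, conjM_apply, conjM_symm_apply, map_sub, map_add, map_smul]

theorem conjM_gOf (f₀ : (E × E) ≃ₗ[F] (E × E)) (z : E × E) :
    gOf (conjM ψ f₀) (ψ z) = ψ (f₀ z - f₀.symm z) := by
  rw [gOf_apply, conjM_apply, conjM_symm_apply, map_sub]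

/-- In characteristic three, `(f + f⁻¹ - r)^3 = f^3 + f^(-3) - r^3`. -/
theorem n_cube (f : V6 F ≃ₗ[F] V6 F) (r : F) (x : V6 F) :
    (nOf f r ^ 3) x = f (f (f x)) + f.symm (f.symm (f.symm x)) - r ^ 3 • x := by
  haveI : Fact (Nat.Prime 3) := ⟨Nat.prime_three⟩
  haveI : CharP (Module.End F (V6 F)) 3 :=
    charP_of_injective_algebraMap (algebraMap F _).injective 3
  have hc : Commute f.toLinearMap f.symm.toLinearMap := LinearMap.ext fun y => by simp
  rw [nOf, aOf, sub_pow_char_of_commute (p := 3) ((Commute.one_right _).smul_right r),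
    add_pow_char_of_commute (p := 3) hc, _root_.smul_pow, one_pow]
  simp [pow_succ, Module.End.mul_apply]

theorem exists_frob (hE : Module.finrank F E = 3) :
    ∃ φ : E ≃ₐ[F] E, (∀ x, φ (φ (φ x)) = x) ∧
      (∀ x, x + φ x + φ (φ x) = algebraMap F E (Algebra.trace F E x)) ∧
      ∃ e, Algebra.trace F E e ≠ 0 := by
  haveI := Fintype.ofFinite F
  have : Finite E := Module.finite_of_finite F
  haveI := Fintype.ofFinite E
  refine ⟨FiniteField.frobeniusAlgEquivOfAlgebraic F E, fun x => ?_, fun x => ?_, ?_⟩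
  · simp only [FiniteField.coe_frobeniusAlgEquivOfAlgebraic, ← pow_mul]
    have h := FiniteField.pow_card x
    rw [Module.card_eq_pow_finrank (K := F) (V := E), hE] at h
    calc x ^ (Fintype.card F * Fintype.card F * Fintype.card F) = x ^ Fintype.card F ^ 3 := by ring_nf
      _ = x := h
  · rw [FiniteField.algebraMap_trace_eq_sum_pow, hE]
    simp only [FiniteField.coe_frobeniusAlgEquivOfAlgebraic, Finset.sum_range_succ,
      Finset.sum_range_zero, zero_add, pow_zero, pow_one, ← pow_mul, Nat.card_eq_fintype_card]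
    ring
  · by_contra h
    push Not at h
    exact one_ne_zero ((traceForm_nondegenerate F E).1 (1 : E) fun y => by
      rw [Algebra.traceForm_apply]; exact h _)

variable (φ : E ≃ₐ[F] E) (h3 : ∀ x, φ (φ (φ x)) = x)
  (hS : ∀ x, x + φ x + φ (φ x) = algebraMap F E (Algebra.trace F E x))

include h3 hS in
theorem trace_frob (x : E) : Algebra.trace F E (φ x) = Algebra.trace F E x := by
  apply (algebraMap F E).injective
  rw [← hS, ← hS, h3]; ring

/-- The model with `r² ≠ 1`. -/
noncomputable def modA (r : F) : (E × E) ≃ₗ[F] (E × E) where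
  toFun z := (-φ z.2, φ z.1 + r • φ z.2)
  invFun z := (φ (φ (z.2 + r • z.1)), -φ (φ z.1))
  map_add' a b := by ext <;> simp [smul_add] <;> ring
  map_smul' c a := by ext <;> simp [smul_comm c r]
  left_inv z := by ext <;> simp [h3]
  right_inv z := by ext <;> simp [h3]

/-- The model with `s² = 1`. -/
noncomputable def modB (s : F) (hs : s * s = 1) (u : E) : (E × E) ≃ₗ[F] (E × E) where
  toFun z := (s • (φ z.1 + u * φ z.2), s • φ z.2)
  invFun z := (s • φ (φ (z.1 - u * z.2)), s • φ (φ z.2))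
  map_add' a b := by ext <;> simp [mul_add, smul_add] <;> abel
  map_smul' c a := by ext <;> simp [smul_comm c s]
  left_inv z := by ext <;> simp [h3, smul_smul, hs]
  right_inv z := by
    ext
    · simp only [map_sub, map_mul, map_smul, h3, smul_smul, hs, one_smul]
      rw [Algebra.mul_smul_comm, ← smul_add, smul_smul, hs, one_smul]; ring
    · simp [h3, smul_smul, hs]

include hψ h3 hS in
theorem modA_spec {r : F} (hr : r * r - 1 ≠ 0) {e : E} (he : Algebra.trace F E e ≠ 0) :
    Isom (conjM ψ (modA φ h3 r)) ∧ nOf (conjM ψ (modA φ h3 r)) r ^ 3 = 0 ∧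
      (∃ x, form x (nOf (conjM ψ (modA φ h3 r)) r (nOf (conjM ψ (modA φ h3 r)) r
        (conjM ψ (modA φ h3 r) x))) ≠ 0) ∧ Str E (conjM ψ (modA φ h3 r)) := by
  have three : (3 : E) = 0 := by
    rw [← map_ofNat (algebraMap F E) 3, show (3 : F) = 0 from CharP.cast_eq_zero F 3, map_zero]
  have hap : ∀ z, modA φ h3 r z = (-φ z.2, φ z.1 + r • φ z.2) := fun z => rfl
  have hsy : ∀ z, (modA φ h3 r).symm z = (φ (φ (z.2 + r • z.1)), -φ (φ z.1)) := fun z => rfl
  refine ⟨conjM_isom ψ hψ _ fun a b => ?_, LinearMap.ext fun x => ?_, ?_,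
    conjM_str ψ hψ _ φ.toRingEquiv fun c z => ?_⟩
  · simp only [hap, tform]
    rw [← map_sub, ← map_sub, ← trace_frob φ h3 hS (a.1 * b.2 - a.2 * b.1)]
    congr 1
    simp only [map_sub, map_mul, mul_add, add_mul, Algebra.mul_smul_comm, Algebra.smul_mul_assoc,
      Algebra.smul_def]
    ring
  · obtain ⟨z, rfl⟩ := ψ.surjective x
    rw [n_cube, conjM_apply, conjM_apply, conjM_apply, conjM_symm_apply, conjM_symm_apply,
      conjM_symm_apply, ← map_add, ← map_smul, ← map_sub, LinearMap.zero_apply,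
      map_eq_zero_iff _ ψ.injective]
    ext <;> simp only [hap, hsy, Prod.fst_sub, Prod.snd_sub, Prod.fst_add, Prod.snd_add,
      Prod.smul_fst, Prod.smul_snd, Prod.fst_zero, Prod.snd_zero] <;> simp only [ map_add, map_neg, map_mul, h3,
      Algebra.smul_def, AlgEquiv.commutes, map_pow]
    · linear_combination (-algebraMap F E r * z.1) * three
    · linear_combination (-algebraMap F E r * z.2) * three
  · refine ⟨ψ (e, 0), ?_⟩
    have hN2 : nOf (conjM ψ (modA φ h3 r)) r (nOf (conjM ψ (modA φ h3 r)) r (ψ (e, 0))) =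
        ψ ((r * r - 1) • algebraMap F E (Algebra.trace F E e), 0) := by
      rw [conjM_nOf, conjM_nOf]
      congr 1
      ext <;> simp only [hap, hsy, Prod.fst_sub, Prod.snd_sub, Prod.fst_add, Prod.snd_add,
        Prod.smul_fst, Prod.smul_snd] <;> simp only [ map_add, map_neg, map_mul, map_sub, map_zero, h3,
        Algebra.smul_def, AlgEquiv.commutes, ← hS, map_one]
      · linear_combination (e - algebraMap F E r * algebraMap F E r * φ (φ e)) * three
      · linear_combination (algebraMap F E r * (φ (φ e) - φ e)) * three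
    rw [← f_n, ← f_n, hN2, conjM_apply, hψ, tform, hap]
    simp only [map_zero, smul_zero, add_zero, zero_mul, map_smul, AlgEquiv.commutes, sub_zero]
    rw [Algebra.mul_smul_comm, map_smul, mul_comm e, ← Algebra.smul_def, map_smul, smul_eq_mul,
      smul_eq_mul]
    exact mul_ne_zero hr (mul_ne_zero he he)
  · ext <;> simp only [hap, Prod.smul_fst, Prod.smul_snd, smul_eq_mul, map_mul, AlgEquiv.coe_ringEquiv']
    · ring
    · rw [mul_add, Algebra.mul_smul_comm]

include hψ h3 hS in
theorem modB_spec {s : F} (hs : s * s = 1) {e : E} (he : Algebra.trace F E e ≠ 0) :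
    Isom (conjM ψ (modB φ h3 s hs e)) ∧ nOf (conjM ψ (modB φ h3 s hs e)) (2 * s) ^ 3 = 0 ∧
      (∃ x, form x (nOf (conjM ψ (modB φ h3 s hs e)) (2 * s) (nOf (conjM ψ (modB φ h3 s hs e)) (2 * s)
        (conjM ψ (modB φ h3 s hs e) x))) ≠ 0) ∧ Str E (conjM ψ (modB φ h3 s hs e)) := by
  have three : (3 : E) = 0 := by
    rw [← map_ofNat (algebraMap F E) 3, show (3 : F) = 0 from CharP.cast_eq_zero F 3, map_zero]
  have hS2 : algebraMap F E s * algebraMap F E s = 1 := by rw [← map_mul, hs, map_one]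
  have hap : ∀ z, modB φ h3 s hs e z = (s • (φ z.1 + e * φ z.2), s • φ z.2) := fun z => rfl
  have hsy : ∀ z, (modB φ h3 s hs e).symm z = (s • φ (φ (z.1 - e * z.2)), s • φ (φ z.2)) :=
    fun z => rfl
  refine ⟨conjM_isom ψ hψ _ fun a b => ?_, LinearMap.ext fun x => ?_, ?_,
    conjM_str ψ hψ _ φ.toRingEquiv fun c z => ?_⟩
  · simp only [hap, tform]
    rw [← map_sub, ← map_sub, ← trace_frob φ h3 hS (a.1 * b.2 - a.2 * b.1)]
    congr 1
    simp only [map_sub, map_mul, Algebra.smul_def]
    linear_combination (φ a.1 * φ b.2 - φ a.2 * φ b.1) * hS2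
  · obtain ⟨z, rfl⟩ := ψ.surjective x
    rw [n_cube, conjM_apply, conjM_apply, conjM_apply, conjM_symm_apply, conjM_symm_apply,
      conjM_symm_apply, ← map_add, ← map_smul, ← map_sub, LinearMap.zero_apply,
      map_eq_zero_iff _ ψ.injective]
    ext <;> simp only [hap, hsy, Prod.fst_sub, Prod.snd_sub, Prod.fst_add, Prod.snd_add,
      Prod.smul_fst, Prod.smul_snd, Prod.fst_zero, Prod.snd_zero] <;> simp only [ map_add, map_sub, map_mul, h3,
      Algebra.smul_def, AlgEquiv.commutes, map_pow, map_ofNat]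
    · linear_combination (-2 * algebraMap F E s ^ 3 * z.1) * three
    · linear_combination (-2 * algebraMap F E s ^ 3 * z.2) * three
  · refine ⟨ψ (0, e), ?_⟩
    have hN : ∀ X Y : E, nOf (conjM ψ (modB φ h3 s hs e)) (2 * s) (ψ (X, Y)) =
        ψ (s • (X + φ X + φ (φ X) + e * φ Y - φ (φ e) * φ (φ Y)), s • (Y + φ Y + φ (φ Y))) := by
      intro X Y
      rw [conjM_nOf]
      congr 1
      ext <;> simp only [hap, hsy, Prod.fst_sub, Prod.snd_sub, Prod.fst_add, Prod.snd_add,
        Prod.smul_fst, Prod.smul_snd] <;> simp only [ map_sub, map_mul, Algebra.smul_def, map_ofNat]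
      · linear_combination (-algebraMap F E s * X) * three
      · linear_combination (-algebraMap F E s * Y) * three
    have hA : nOf (conjM ψ (modB φ h3 s hs e)) (2 * s) (nOf (conjM ψ (modB φ h3 s hs e)) (2 * s)
        (conjM ψ (modB φ h3 s hs e) (ψ (0, e)))) =
        ψ (s • ((e - φ (φ e)) * (e + φ e + φ (φ e))), 0) := by
      rw [conjM_apply, hap, hN, hN]
      congr 1
      ext <;> simp only [map_add, map_sub, map_mul, map_zero, h3, Algebra.smul_def, AlgEquiv.commutes]
      · linear_combination (algebraMap F E s * (4 * e * φ e + 2 * φ e * φ (φ e) + 3 * φ (φ e) * e +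
            e * e - φ (φ e) * φ (φ e))) * hS2
          + (algebraMap F E s * (e * φ e + φ e * φ (φ e) + φ (φ e) * e)) * three
      · linear_combination (algebraMap F E s ^ 3 * (e + φ e + φ (φ e))) * three
    rw [hA, hψ, tform]
    simp only [zero_mul, map_zero, zero_sub, neg_ne_zero]
    have hval : algebraMap F E (Algebra.trace F E (e * (s • ((e - φ (φ e)) * (e + φ e + φ (φ e)))))) =
        algebraMap F E (s * Algebra.trace F E e * Algebra.trace F E e * Algebra.trace F E e) := by
      simp only [map_mul, ← hS]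
      simp only [Algebra.smul_def, map_mul, map_add, map_sub, AlgEquiv.commutes, h3]
      linear_combination (-algebraMap F E s * (e + φ e + φ (φ e)) *
        (e * φ e + φ e * φ (φ e) + φ (φ e) * e)) * three
    rw [(algebraMap F E).injective hval]
    have hs0 : s ≠ 0 := fun h => by rw [h, zero_mul] at hs; exact zero_ne_one hs
    exact mul_ne_zero (mul_ne_zero (mul_ne_zero hs0 he) he) he
  · ext <;> simp only [hap, Prod.smul_fst, Prod.smul_snd] <;>
      simp only [smul_eq_mul, map_mul, AlgEquiv.coe_ringEquiv', Algebra.smul_def]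
    · ring
    · ring

/-- The coordinatewise model of a double block. -/
noncomputable def modC (s : F) (hs : s * s = 1) : (E × E) ≃ₗ[F] (E × E) where
  toFun z := (s • φ z.1, s • φ z.2)
  invFun z := (s • φ (φ z.1), s • φ (φ z.2))
  map_add' a b := by ext <;> simp [smul_add]
  map_smul' c a := by ext <;> simp [smul_comm c s]
  left_inv z := by ext <;> simp [h3, smul_smul, hs]
  right_inv z := by ext <;> simp [h3, smul_smul, hs]

include hψ h3 hS in
theorem modC_spec {s : F} (hs : s * s = 1) {e : E} (he : Algebra.trace F E e ≠ 0) :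
    Isom (conjM ψ (modC φ h3 s hs)) ∧
      (∀ x, gOf (conjM ψ (modC φ h3 s hs)) (gOf (conjM ψ (modC φ h3 s hs))
        (gOf (conjM ψ (modC φ h3 s hs)) x)) = 0) ∧
      (∃ x, gOf (conjM ψ (modC φ h3 s hs)) (gOf (conjM ψ (modC φ h3 s hs)) x) ≠ 0) ∧
      (∀ x, conjM ψ (modC φ h3 s hs) x = s • x - gOf (conjM ψ (modC φ h3 s hs)) x -
        s • gOf (conjM ψ (modC φ h3 s hs)) (gOf (conjM ψ (modC φ h3 s hs)) x)) ∧
      Str E (conjM ψ (modC φ h3 s hs)) := by
  have three : (3 : E) = 0 := by
    rw [← map_ofNat (algebraMap F E) 3, show (3 : F) = 0 from CharP.cast_eq_zero F 3, map_zero]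
  have hS2 : algebraMap F E s * algebraMap F E s = 1 := by rw [← map_mul, hs, map_one]
  have hg : ∀ X Y : E, gOf (conjM ψ (modC φ h3 s hs)) (ψ (X, Y)) =
      ψ (s • (φ X - φ (φ X)), s • (φ Y - φ (φ Y))) := fun X Y => by
    rw [conjM_gOf]
    congr 1
    ext <;> simp [modC, smul_sub]
  have hgg : ∀ X Y : E, gOf (conjM ψ (modC φ h3 s hs)) (gOf (conjM ψ (modC φ h3 s hs)) (ψ (X, Y))) =
      ψ (algebraMap F E (Algebra.trace F E X), algebraMap F E (Algebra.trace F E Y)) := fun X Y => by
    rw [hg, hg]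
    congr 1
    ext <;> simp only [map_sub, map_mul, h3, Algebra.smul_def, AlgEquiv.commutes, ← hS]
    · linear_combination (φ (φ X) + φ X - 2 * X) * hS2 - X * three
    · linear_combination (φ (φ Y) + φ Y - 2 * Y) * hS2 - Y * three
  refine ⟨conjM_isom ψ hψ _ fun a b => ?_, fun x => ?_, ⟨ψ (e, 0), ?_⟩, fun x => ?_,
    conjM_str ψ hψ _ φ.toRingEquiv fun c z => ?_⟩
  · show tform (F := F) (s • φ a.1, s • φ a.2) (s • φ b.1, s • φ b.2) = _
    simp only [tform]
    rw [← map_sub, ← map_sub, ← trace_frob φ h3 hS (a.1 * b.2 - a.2 * b.1)]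
    congr 1
    simp only [map_sub, map_mul, Algebra.smul_def]
    linear_combination (φ a.1 * φ b.2 - φ a.2 * φ b.1) * hS2
  · obtain ⟨⟨X, Y⟩, rfl⟩ := ψ.surjective x
    rw [hgg, hg]
    simp
  · rw [hgg, ne_eq, map_eq_zero_iff _ ψ.injective]
    intro h
    exact he ((map_eq_zero_iff _ (algebraMap F E).injective).mp (congrArg Prod.fst h))
  · obtain ⟨⟨X, Y⟩, rfl⟩ := ψ.surjective x
    rw [conjM_apply, hgg, hg, ← map_smul, ← map_smul, ← map_sub, ← map_sub]
    congr 1
    ext <;> simp only [Prod.fst_sub, Prod.snd_sub, Prod.smul_fst, Prod.smul_snd, ← hS]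
    · show s • φ X = _
      simp only [Algebra.smul_def]
      linear_combination (algebraMap F E s * φ X) * three
    · show s • φ Y = _
      simp only [Algebra.smul_def]
      linear_combination (algebraMap F E s * φ Y) * three
  · show ((s • φ (c * z.1) : E), (s • φ (c * z.2) : E)) = φ c • (s • φ z.1, s • φ z.2)
    ext <;> simp [Algebra.smul_def] <;> ring

end CfsgLib.Cover5.SympSix
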