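import Cfsg.Agent.Cover5.SympSixCases

/-!
# Normal forms of regular and double-block isometries, up to similitude
-/

set_option autoImplicit false
set_option linter.unusedSectionVars false
set_option linter.unusedVariables false
set_option maxHeartbeats 1000000

namespace CfsgLib.Cover5.SympSix

open Polynomial CfsgLib.Symp

variable {F : Type*} [Field F] [Finite F]

/-- A structure of a line pair over an extension, for which `f` is semilinear. -/
def Str (E : Type*) [Field E] [Algebra F E] (f : V6 F ≃ₗ[F] V6 F) : Prop :=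
  ∃ (ι : E →ₐ[F] Module.End F (V6 F)) (σ : E ≃+* E),
    (∀ e u v, form (ι e u) v = form u (ι e v)) ∧ ∀ e x, f (ι e x) = ι (σ e) (f x)

/-- Structures are transported by similitudes. -/
theorem Str.transport {E : Type*} [Field E] [Algebra F E] {f f' : V6 F ≃ₗ[F] V6 F}
    (T : V6 F ≃ₗ[F] V6 F) (lam : F) (hT : ∀ u v, form (T u) (T v) = lam * form u v)
    (hTf : ∀ x, T (f x) = f' (T x)) (h : Str E f) : Str E f' := by
  obtain ⟨ι, σ, hadj, hsl⟩ := h
  let ι' : E →ₐ[F] Module.End F (V6 F) := (T.conjAlgEquiv F).toAlgHom.comp ι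
  have hι' : ∀ e x, ι' e (T x) = T (ι e x) := fun e x => by
    show T (ι e (T.symm (T x))) = _
    rw [T.symm_apply_apply]
  refine ⟨ι', σ, fun e u v => ?_, fun e x => ?_⟩
  · obtain ⟨u, rfl⟩ := T.surjective u
    obtain ⟨v, rfl⟩ := T.surjective v
    rw [hι', hι', hT, hT, hadj]
  · obtain ⟨x, rfl⟩ := T.surjective x
    rw [hι', ← hTf, ← hTf, hsl, hι']

/-- The Gram matrix of the normal forms. -/
structure Gram (v : Fin 3 ⊕ Fin 3 → V6 F) (c : F) (ε : Fin 3 → F) : Prop where
  ll : ∀ i j, form (v (Sum.inl i)) (v (Sum.inl j)) = 0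
  rr : ∀ i j, form (v (Sum.inr i)) (v (Sum.inr j)) = 0
  lr : ∀ i j : Fin 3, form (v (Sum.inl i)) (v (Sum.inr j)) = if (i : ℕ) + j = 2 then c * ε i else 0

theorem Gram.rl {v : Fin 3 ⊕ Fin 3 → V6 F} {c : F} {ε : Fin 3 → F} (h : Gram v c ε) (i j : Fin 3) :
    form (v (Sum.inr j)) (v (Sum.inl i)) = -(if (i : ℕ) + j = 2 then c * ε i else 0) := by
  rw [form_swap, h.lr]

theorem Gram.indep {v : Fin 3 ⊕ Fin 3 → V6 F} {c : F} {ε : Fin 3 → F} (h : Gram v c ε) (hc : c ≠ 0)
    (hε : ∀ i, ε i ≠ 0) : LinearIndependent F v := by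
  rw [Fintype.linearIndependent_iff]
  intro a ha
  have hpair : ∀ u, form (∑ k, a k • v k) u = ∑ k, a k * form (v k) u := fun u => by
    rw [← Geometry.formB_apply]
    simp only [map_sum, LinearMap.sum_apply, map_smul, LinearMap.smul_apply, Geometry.formB_apply,
      smul_eq_mul]
  intro k
  rcases k with i | i
  · have h1 := hpair (v (Sum.inr i.rev))
    rw [ha, form_zero_left, Fintype.sum_sum_type, Fin.sum_univ_three, Fin.sum_univ_three] at h1
    simp only [h.lr, h.rr, mul_zero, add_zero] at h1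
    fin_cases i <;> simpa [hc, hε] using h1.symm
  · have h1 := hpair (v (Sum.inl i.rev))
    rw [ha, form_zero_left, Fintype.sum_sum_type, Fin.sum_univ_three, Fin.sum_univ_three] at h1
    simp only [h.ll, h.rl, mul_zero, add_zero, zero_add] at h1
    fin_cases i <;> simpa [hc, hε] using h1.symm

/-- Two bases in normal form differ by a similitude. -/
theorem transfer {v w : Fin 3 ⊕ Fin 3 → V6 F} {c c' : F} {ε : Fin 3 → F} (hv : Gram v c ε)
    (hw : Gram w c' ε) (hc : c ≠ 0) (hc' : c' ≠ 0) (hε : ∀ i, ε i ≠ 0) :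
    ∃ (T : V6 F ≃ₗ[F] V6 F) (lam : F) (b : Module.Basis (Fin 3 ⊕ Fin 3) F (V6 F)),
      (∀ u x, form (T u) (T x) = lam * form u x) ∧ (∀ k, b k = v k) ∧ ∀ k, T (v k) = w k := by
  classical
  let b := basisOfLinearIndependentOfCardEqFinrank (hv.indep hc hε) (by simp)
  let b' := basisOfLinearIndependentOfCardEqFinrank (hw.indep hc' hε) (by simp)
  have hb : ∀ k, b k = v k := fun k => by simp [b]
  have hb' : ∀ k, b' k = w k := fun k => by simp [b']
  let T := b.equiv b' (Equiv.refl _)
  have hT : ∀ k, T (v k) = w k := fun k => by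
    rw [← hb, Module.Basis.equiv_apply, hb', Equiv.refl_apply]
  refine ⟨T, c' / c, b, ?_, hb, hT⟩
  have key : (Geometry.formB (Fin 3) F).compl₁₂ T.toLinearMap T.toLinearMap =
      (c' / c) • Geometry.formB (Fin 3) F := by
    refine LinearMap.BilinForm.ext_basis b fun k k' => ?_
    simp only [LinearMap.compl₁₂_apply, LinearMap.smul_apply, LinearEquiv.coe_coe,
      Geometry.formB_apply, smul_eq_mul, hb, hT]
    rcases k with i | i <;> rcases k' with j | j
    · rw [hv.ll, hw.ll, mul_zero]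
    · rw [hv.lr, hw.lr]
      split_ifs
      · field_simp
      · rw [mul_zero]
    · rw [hv.rl, hw.rl]
      split_ifs
      · field_simp
      · rw [neg_zero, mul_zero]
    · rw [hv.rr, hw.rr, mul_zero]
  intro u x
  have := LinearMap.congr_fun₂ key u x
  simpa [Geometry.formB_apply] using this

variable {f : V6 F ≃ₗ[F] V6 F} (hf : Isom f)

include hf in
theorem n_pow_adj (r : F) (i : ℕ) (x y : V6 F) :
    form ((nOf f r ^ i) x) y = form x ((nOf f r ^ i) y) := by
  induction i generalizing x y with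
  | zero => rfl
  | succ i ih =>
    rw [pow_succ', Module.End.mul_apply, n_adj hf, ih, ← Module.End.mul_apply,
      (Commute.pow_self (nOf f r) i).eq]

include hf in
theorem n_pow_self (h2 : (2 : F) ≠ 0) (r : F) (i : ℕ) (x : V6 F) :
    form x ((nOf f r ^ i) x) = 0 := by
  have h := aeval_self hf h2 ((X - C r) ^ i) x
  rwa [map_pow, map_sub, aeval_X, aeval_C, Algebra.algebraMap_eq_smul_one] at h

theorem f_n_pow (r : F) (i : ℕ) (x : V6 F) : f ((nOf f r ^ i) x) = (nOf f r ^ i) (f x) := by
  induction i generalizing x with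
  | zero => rfl
  | succ i ih => rw [pow_succ, Module.End.mul_apply, Module.End.mul_apply, ih, f_n]

include hf in
/-- A regular element has a basis in normal form. -/
theorem regular_normal (h2 : (2 : F) ≠ 0) {r : F} (hN : nOf f r ^ 3 = 0)
    (hreg : ∃ x, form x (nOf f r (nOf f r (f x))) ≠ 0) :
    ∃ (x : V6 F) (c : F), c ≠ 0 ∧ Gram (Sum.elim (fun i : Fin 3 => (nOf f r ^ (i : ℕ)) x)
      (fun i : Fin 3 => (nOf f r ^ (i : ℕ)) (f x))) c (fun _ => 1) := by
  obtain ⟨x, hx⟩ := hreg
  set N := nOf f r with hNdef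
  have hN3 : ∀ z, N (N (N z)) = 0 := fun z => by
    have := LinearMap.congr_fun hN z
    simpa [pow_succ, Module.End.mul_apply] using this
  have hadj : ∀ a b, form (N a) b = form a (N b) := n_adj hf r
  obtain ⟨c1, hc1⟩ : ∃ c1, c1 = -form x (N (f x)) / (2 * form x (N (N (f x)))) := ⟨_, rfl⟩
  obtain ⟨c2, hc2⟩ : ∃ c2, c2 = -(form x (f x) + 2 * c1 * form x (N (f x)) +
      c1 * c1 * form x (N (N (f x)))) / (2 * form x (N (N (f x)))) := ⟨_, rfl⟩
  have hne : (2 * form x (N (N (f x)))) ≠ 0 := mul_ne_zero h2 hx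
  rw [eq_div_iff hne] at hc1 hc2
  obtain ⟨z, hz⟩ : ∃ z, z = x + c1 • N x + c2 • N (N x) := ⟨_, rfl⟩
  have hfz : f z = f x + c1 • N (f x) + c2 • N (N (f x)) := by
    rw [hz, map_add, map_add, map_smul, map_smul, hNdef, f_n, f_n, f_n]
  have b2 : form z (N (N (f z))) = form x (N (N (f x))) := by
    rw [hfz, hz]
    simp only [map_add, map_smul, hN3, map_zero, smul_zero, add_zero, form_add_left,
      form_smul_left, hadj, form_zero_right, mul_zero]
  have b1 : form z (N (f z)) = 0 := by
    rw [hfz, hz]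
    simp only [map_add, map_smul, hN3, map_zero, smul_zero, add_zero, form_add_left, form_add_right,
      form_smul_left, form_smul_right, hadj, form_zero_right, mul_zero]
    linear_combination hc1
  have b0 : form z (f z) = 0 := by
    rw [hfz, hz]
    simp only [map_add, map_smul, hN3, map_zero, smul_zero, add_zero, form_add_left, form_add_right,
      form_smul_left, form_smul_right, hadj, form_zero_right, mul_zero]
    linear_combination hc2
  have hk : ∀ k, form z ((N ^ k) (f z)) = if k = 2 then form x (N (N (f x))) else 0 := by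
    intro k
    rcases k with _ | _ | _ | k
    · simpa using b0
    · simpa using b1
    · simpa [pow_two, Module.End.mul_apply] using b2
    · rw [pow_eq_zero_of_le (show 3 ≤ k + 3 by omega) hN, LinearMap.zero_apply, form_zero_right,
        if_neg (by omega)]
  refine ⟨z, form x (N (N (f x))), hx, ⟨fun i j => ?_, fun i j => ?_, fun i j => ?_⟩⟩
  · simp only [Sum.elim_inl]
    rw [n_pow_adj hf, ← Module.End.mul_apply, ← pow_add, n_pow_self hf h2]
  · simp only [Sum.elim_inr]
    rw [n_pow_adj hf, ← Module.End.mul_apply, ← pow_add, n_pow_self hf h2]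
  · simp only [Sum.elim_inl, Sum.elim_inr]
    rw [n_pow_adj hf, ← Module.End.mul_apply, ← pow_add, hk, mul_one]

include hf in
/-- Regular elements of equal parameter are conjugate by a similitude. -/
theorem regular_conj (h2 : (2 : F) ≠ 0) {f' : V6 F ≃ₗ[F] V6 F} (hf' : Isom f') {r : F}
    (hN : nOf f r ^ 3 = 0) (hreg : ∃ x, form x (nOf f r (nOf f r (f x))) ≠ 0)
    (hN' : nOf f' r ^ 3 = 0) (hreg' : ∃ x, form x (nOf f' r (nOf f' r (f' x))) ≠ 0) :
    ∃ (T : V6 F ≃ₗ[F] V6 F) (lam : F),
      (∀ u x, form (T u) (T x) = lam * form u x) ∧ ∀ x, T (f x) = f' (T x) := by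
  obtain ⟨x, c, hc, hG⟩ := regular_normal hf h2 hN hreg
  obtain ⟨x', c', hc', hG'⟩ := regular_normal hf' h2 hN' hreg'
  obtain ⟨T, lam, b, hT, hb, hTv⟩ := transfer hG hG' hc hc' fun _ => one_ne_zero
  have hl : ∀ i : ℕ, T ((nOf f r ^ i) x) = (nOf f' r ^ i) x' := fun i => by
    rcases lt_or_ge i 3 with hi | hi
    · exact hTv (Sum.inl ⟨i, hi⟩)
    · rw [pow_eq_zero_of_le hi hN, pow_eq_zero_of_le hi hN', LinearMap.zero_apply,
        LinearMap.zero_apply, map_zero]
  have hr : ∀ i : ℕ, T ((nOf f r ^ i) (f x)) = (nOf f' r ^ i) (f' x') := fun i => by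
    rcases lt_or_ge i 3 with hi | hi
    · exact hTv (Sum.inr ⟨i, hi⟩)
    · rw [pow_eq_zero_of_le hi hN, pow_eq_zero_of_le hi hN', LinearMap.zero_apply,
        LinearMap.zero_apply, map_zero]
  have hff : ∀ (h : V6 F ≃ₗ[F] V6 F) (y : V6 F), h (h y) = r • h y + nOf h r (h y) - y :=
    fun h y => by rw [nOf_apply, h.symm_apply_apply]; abel
  refine ⟨T, lam, hT, fun z => ?_⟩
  have key : T.toLinearMap ∘ₗ f.toLinearMap = f'.toLinearMap ∘ₗ T.toLinearMap := by
    refine b.ext fun k => ?_
    simp only [LinearMap.comp_apply, LinearEquiv.coe_coe, hb]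
    rcases k with i | i <;> simp only [Sum.elim_inl, Sum.elim_inr]
    · rw [f_n_pow, hr, hl, f_n_pow]
    · rw [f_n_pow, hr, f_n_pow, hff, hff]
      simp only [map_sub, map_add, map_smul, ← Module.End.mul_apply, ← pow_succ, hr, hl]
  exact LinearMap.congr_fun key z

include hf in
theorem g_pow_adj (i : ℕ) (x y : V6 F) :
    form ((gOf f ^ i) x) y = (-1) ^ i * form x ((gOf f ^ i) y) := by
  induction i generalizing x y with
  | zero => simp
  | succ i ih =>
    rw [pow_succ', Module.End.mul_apply, g_skew hf, ih, ← Module.End.mul_apply,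
      (Commute.pow_self (gOf f) i).eq]
    ring

include hf in
/-- A double block has a basis in normal form. -/
theorem block_normal (h2 : (2 : F) ≠ 0) (h3 : ∀ x, gOf f (gOf f (gOf f x)) = 0)
    (hne : ∃ x, gOf f (gOf f x) ≠ 0) :
    ∃ x y : V6 F, Gram (Sum.elim (fun i : Fin 3 => (gOf f ^ (i : ℕ)) x)
      (fun i : Fin 3 => (gOf f ^ (i : ℕ)) y)) 1 (fun i => (-1) ^ (i : ℕ)) := by
  set g := gOf f with hg
  have hskew : ∀ a b, form (g a) b = -form a (g b) := g_skew hf
  have hA : ∀ a, form a (g (g a)) = 0 := fun a => by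
    have h : form a (g (g a)) = -form a (g (g a)) := by
      conv_lhs => rw [form_swap, hskew, hskew, neg_neg]
    exact (mul_eq_zero.mp (show 2 * form a (g (g a)) = 0 by linear_combination h)).resolve_left h2
  have hgg : ∀ a b, form b (g (g a)) = -form a (g (g b)) := fun a b => by
    rw [form_swap, hskew, hskew, neg_neg]
  have hg1 : ∀ a b, form b (g a) = form a (g b) := fun a b => by
    rw [form_swap, hskew, neg_neg]
  obtain ⟨x0, hx0⟩ := hne
  obtain ⟨y0, hy0⟩ := exists_form_eq_one hx0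
  rw [hskew, hskew, neg_neg] at hy0
  -- kill `form x (g x)`
  obtain ⟨a, ha⟩ : ∃ a, a = -form x0 (g x0) / 2 := ⟨_, rfl⟩
  rw [eq_div_iff h2] at ha
  obtain ⟨x1, hx1⟩ : ∃ x1, x1 = x0 + a • g y0 := ⟨_, rfl⟩
  have p1 : form x1 (g x1) = 0 := by
    rw [hx1]
    simp only [map_add, map_smul, form_add_left, form_add_right, form_smul_left, form_smul_right,
      hskew, h3, map_zero, form_zero_right, hgg x0 y0, hy0, neg_zero, mul_zero]
    linear_combination ha
  have q1 : form x1 (g (g y0)) = 1 := by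
    rw [hx1]
    simp only [form_add_left, form_smul_left, hskew, h3, form_zero_right, neg_zero, mul_zero,
      add_zero, hy0]
  -- kill `form y (g y)`
  obtain ⟨a', ha'⟩ : ∃ a', a' = form y0 (g y0) / 2 := ⟨_, rfl⟩
  rw [eq_div_iff h2] at ha'
  obtain ⟨y1, hy1⟩ : ∃ y1, y1 = y0 + a' • g x1 := ⟨_, rfl⟩
  have p2 : form y1 (g y1) = 0 := by
    rw [hy1]
    simp only [map_add, map_smul, form_add_left, form_add_right, form_smul_left, form_smul_right,
      hskew, h3, map_zero, form_zero_right, hgg x1 y0, q1, neg_zero, mul_zero]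
    linear_combination -ha'
  have q2 : form x1 (g (g y1)) = 1 := by
    rw [hy1]
    simp only [map_add, map_smul, h3, smul_zero, add_zero, q1]
  -- kill `form x (g y)`
  obtain ⟨x, hx⟩ : ∃ x, x = x1 + form x1 (g y1) • g x1 := ⟨_, rfl⟩
  have q3 : form x (g (g y1)) = 1 := by
    rw [hx]
    simp only [form_add_left, form_smul_left, hskew, h3, form_zero_right, neg_zero, mul_zero,
      add_zero, q2]
  have p3 : form x (g y1) = 0 := by
    rw [hx]
    simp only [form_add_left, form_smul_left, hskew, q2]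
    ring
  have p1' : form x (g x) = 0 := by
    rw [hx]
    simp only [map_add, map_smul, form_add_left, form_add_right, form_smul_left, form_smul_right,
      hskew, h3, hA, map_zero, form_zero_right, p1, neg_zero, mul_zero, add_zero]
  -- kill `form x y`
  obtain ⟨y, hy⟩ : ∃ y, y = y1 + (-form x y1) • g (g y1) := ⟨_, rfl⟩
  have q4 : form x (g (g y)) = 1 := by
    rw [hy]
    simp only [map_add, map_smul, h3, map_zero, smul_zero, add_zero, q3]
  have p4 : form x (g y) = 0 := by
    rw [hy]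
    simp only [map_add, map_smul, h3, smul_zero, add_zero, p3]
  have p2' : form y (g y) = 0 := by
    rw [hy]
    simp only [map_add, map_smul, form_add_left, form_add_right, form_smul_left, form_smul_right,
      hskew, h3, map_zero, form_zero_right, p2, neg_zero, mul_zero, add_zero]
  have p0 : form x y = 0 := by
    rw [hy]
    simp only [form_add_right, form_smul_right, q3]
    ring
  have g3 : g ^ 3 = 0 := LinearMap.ext fun z => by simpa [pow_succ, Module.End.mul_apply] using h3 z
  have hvan : ∀ a : V6 F, form a (g a) = 0 → ∀ k, form a ((g ^ k) a) = 0 := by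
    intro a ha k
    rcases k with _ | _ | _ | k
    · simpa using form_self a
    · simpa using ha
    · simpa [pow_two, Module.End.mul_apply] using hA a
    · rw [pow_eq_zero_of_le (show 3 ≤ k + 3 by omega) g3, LinearMap.zero_apply, form_zero_right]
  have hk : ∀ k, form x ((g ^ k) y) = if k = 2 then 1 else 0 := by
    intro k
    rcases k with _ | _ | _ | k
    · simpa using p0
    · simpa using p4
    · simpa [pow_two, Module.End.mul_apply] using q4
    · rw [pow_eq_zero_of_le (show 3 ≤ k + 3 by omega) g3, LinearMap.zero_apply, form_zero_right,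
        if_neg (by omega)]
  refine ⟨x, y, ⟨fun i j => ?_, fun i j => ?_, fun i j => ?_⟩⟩
  · simp only [Sum.elim_inl]
    rw [hg, g_pow_adj hf, ← Module.End.mul_apply, ← pow_add, hvan x p1', mul_zero]
  · simp only [Sum.elim_inr]
    rw [hg, g_pow_adj hf, ← Module.End.mul_apply, ← pow_add, hvan y p2', mul_zero]
  · simp only [Sum.elim_inl, Sum.elim_inr]
    rw [hg, g_pow_adj hf, ← Module.End.mul_apply, ← pow_add, hk]
    split_ifs <;> ring

include hf in
/-- Double blocks of equal sign are conjugate by a similitude. -/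
theorem block_conj (h2 : (2 : F) ≠ 0) {f' : V6 F ≃ₗ[F] V6 F} (hf' : Isom f') {s : F}
    (h3 : ∀ x, gOf f (gOf f (gOf f x)) = 0) (hne : ∃ x, gOf f (gOf f x) ≠ 0)
    (hfs : ∀ x, f x = s • x - gOf f x - s • gOf f (gOf f x))
    (h3' : ∀ x, gOf f' (gOf f' (gOf f' x)) = 0) (hne' : ∃ x, gOf f' (gOf f' x) ≠ 0)
    (hfs' : ∀ x, f' x = s • x - gOf f' x - s • gOf f' (gOf f' x)) :
    ∃ (T : V6 F ≃ₗ[F] V6 F) (lam : F),
      (∀ u x, form (T u) (T x) = lam * form u x) ∧ ∀ x, T (f x) = f' (T x) := by
  obtain ⟨x, y, hG⟩ := block_normal hf h2 h3 hne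
  obtain ⟨x', y', hG'⟩ := block_normal hf' h2 h3' hne'
  obtain ⟨T, lam, b, hT, hb, hTv⟩ := transfer hG hG' one_ne_zero one_ne_zero
    fun i => pow_ne_zero _ (neg_ne_zero.mpr one_ne_zero)
  have g3 : gOf f ^ 3 = 0 :=
    LinearMap.ext fun z => by simpa [pow_succ, Module.End.mul_apply] using h3 z
  have g3' : gOf f' ^ 3 = 0 :=
    LinearMap.ext fun z => by simpa [pow_succ, Module.End.mul_apply] using h3' z
  have hl : ∀ i : ℕ, T ((gOf f ^ i) x) = (gOf f' ^ i) x' := fun i => by
    rcases lt_or_ge i 3 with hi | hi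
    · exact hTv (Sum.inl ⟨i, hi⟩)
    · rw [pow_eq_zero_of_le hi g3, pow_eq_zero_of_le hi g3', LinearMap.zero_apply,
        LinearMap.zero_apply, map_zero]
  have hr : ∀ i : ℕ, T ((gOf f ^ i) y) = (gOf f' ^ i) y' := fun i => by
    rcases lt_or_ge i 3 with hi | hi
    · exact hTv (Sum.inr ⟨i, hi⟩)
    · rw [pow_eq_zero_of_le hi g3, pow_eq_zero_of_le hi g3', LinearMap.zero_apply,
        LinearMap.zero_apply, map_zero]
  have key : T.toLinearMap ∘ₗ gOf f = gOf f' ∘ₗ T.toLinearMap := by
    refine b.ext fun k => ?_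
    simp only [LinearMap.comp_apply, LinearEquiv.coe_coe, hb]
    rcases k with i | i <;> simp only [Sum.elim_inl, Sum.elim_inr]
    · rw [← Module.End.mul_apply, ← pow_succ', hl, hl, ← Module.End.mul_apply, ← pow_succ']
    · rw [← Module.End.mul_apply, ← pow_succ', hr, hr, ← Module.End.mul_apply, ← pow_succ']
  have hTg : ∀ z, T (gOf f z) = gOf f' (T z) := LinearMap.congr_fun key
  refine ⟨T, lam, hT, fun z => ?_⟩
  rw [hfs, hfs']; simp only [map_sub, map_smul, hTg]

end CfsgLib.Cover5.SympSix
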