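import Cfsg.Agent.Cover5.Basic
import Cfsg.Agent.Classical.SympGeometry
import Cfsg.Agent.QuadStd.Split
import Cfsg.Agent.QuadStd.Std
import Cfsg.Prelude.Def_Classical

/-!
# `PSp_{2m}(q)`, `q` even, is covered by the isometry groups of two quadratic forms
-/

set_option autoImplicit false
set_option linter.unusedSectionVars false
set_option linter.unusedVariables false

namespace CfsgLib.Cover5

open QuadraticMap CfsgLib.Symp CfsgLib.Quad CfsgLib.QuadStd

variable {F : Type*} [Field F] [Finite F] [CharP F 2] {m : ℕ}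

local notation "Vm" => (Fin m ⊕ Fin m → F)

/-- Quadratic forms polarizing to the symplectic form. -/
def Polarizes (Q : QuadraticForm F (Fin m ⊕ Fin m → F)) : Prop := ∀ u v, polar Q u v = form u v

theorem plusQ_polarizes : Polarizes (plusQ (F := F) m) := fun u v => by
  rw [plusQ_coe, plus_polar, form_apply]
  refine Finset.sum_congr rfl fun i _ => ?_
  linear_combination (u (Sum.inl i) * v (Sum.inr i)) * (CharP.cast_eq_zero F 2)

theorem Polarizes.map_add {Q : QuadraticForm F Vm} (hQ : Polarizes Q) (u v : Vm) :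
    Q (u + v) = Q u + Q v + form u v := by
  rw [← hQ u v, polar]; ring

/-- The isometry group of a form, inside the symplectic group. -/
def qStab (Q : QuadraticForm F (Fin m ⊕ Fin m → F)) : Subgroup (Matrix.symplecticGroup (Fin m) F) where
  carrier := {g | ∀ v : Fin m ⊕ Fin m → F, Q (g • v) = Q v}
  one_mem' v := by rw [one_smul]
  mul_mem' {a b} ha hb v := by rw [mul_smul, ha, hb]
  inv_mem' {a} ha v := by rw [← ha (a⁻¹ • v), smul_inv_smul]

theorem qStab_ne_top (hm : 1 ≤ m) {Q : QuadraticForm F Vm} (hQ : Polarizes Q) (hm2 : 2 ≤ m) :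
    qStab Q ≠ ⊤ := by
  intro htop
  -- every non-zero vector would have value one
  have hval : ∀ u : Vm, u ≠ 0 → Q u = 1 := by
    intro u hu
    obtain ⟨x, hx⟩ : ∃ x, form x u ≠ 0 := by
      by_contra h
      push Not at h
      exact hu (eq_zero_of_form_eq_zero h)
    have hmem : tv u (1 : F) ∈ qStab Q := by rw [htop]; trivial
    have h1 := hmem x
    rw [tv_smul, one_mul, hQ.map_add, QuadraticMap.map_smul, form_smul_right, smul_eq_mul] at h1
    have h2 : form x u * form x u * (Q u - 1) = 0 := by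
      linear_combination h1 - (form x u * form x u) * (CharP.cast_eq_zero F 2)
    exact sub_eq_zero.mp ((mul_eq_zero.mp h2).resolve_left (mul_ne_zero hx hx))
  let i : Fin m := ⟨0, by omega⟩
  let j : Fin m := ⟨1, by omega⟩
  have hij : i ≠ j := by simp [i, j]
  set u : Vm := Pi.single (Sum.inl i) 1 with hu
  set w : Vm := Pi.single (Sum.inl j) 1 with hw
  have hu0 : u ≠ 0 := by simp [hu]
  have hw0 : w ≠ 0 := by simp [hw]
  have huw : u + w ≠ 0 := fun h => by
    have := congrFun h (Sum.inl i)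
    simp [hu, hw, hij] at this
  have h := hQ.map_add u w
  rw [hval _ huw, hval _ hu0, hval _ hw0,
    show form u w = 0 by rw [hu, form_single_inl, hw]; simp] at h
  exact one_ne_zero (show (1 : F) = 0 by linear_combination -h)

/-- Every symplectic transformation preserves a polarizing quadratic form. -/
theorem exists_fixed_form (g : Matrix.symplecticGroup (Fin m) F) :
    ∃ Q : QuadraticForm F Vm, Polarizes Q ∧ g ∈ qStab Q := by
  classical
  set Q₀ := plusQ (F := F) m with hQ₀
  have h₀ : Polarizes Q₀ := plusQ_polarizes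
  let G : Vm →ₗ[F] Vm := Matrix.toLin' (g : Matrix (Fin m ⊕ Fin m) (Fin m ⊕ Fin m) F)
  have hG : ∀ v, G v = g • v := fun v => rfl
  haveI : PerfectRing F 2 := inferInstance
  let δ : Vm → F := fun v => Q₀ (G v) - Q₀ v
  have hadd : ∀ u v, δ (u + v) = δ u + δ v := fun u v => by
    simp only [δ, _root_.map_add, h₀.map_add]
    simp only [hG, form_smul_smul]; ring
  have hsmul : ∀ (c : F) v, δ (c • v) = c ^ 2 * δ v := fun c v => by
    simp only [δ, _root_.map_smul, QuadraticMap.map_smul, smul_eq_mul]; ring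
  let μ : Vm →ₗ[F] F :=
    { toFun := fun v => (frobeniusEquiv F 2).symm (δ v)
      map_add' := fun u v => by rw [hadd, _root_.map_add]
      map_smul' := fun c v => by
        apply (frobeniusEquiv F 2).injective
        simp only [RingEquiv.apply_symm_apply, RingHom.id_apply, smul_eq_mul, hsmul, frobeniusEquiv_def,
          mul_pow, frobeniusEquiv_symm_pow_p] }
  have hμ : ∀ v, μ v * μ v = δ v := fun v => by
    rw [← pow_two]; exact frobeniusEquiv_symm_pow_p F 2 (δ v)
  have hker : μ ∈ (LinearMap.ker (G - LinearMap.id)).dualAnnihilator := by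
    rw [Submodule.mem_dualAnnihilator]
    intro v hv
    have hv' : G v = v := sub_eq_zero.mp hv
    show (frobeniusEquiv F 2).symm (δ v) = 0
    simp [δ, hv']
  rw [← LinearMap.range_dualMap_eq_dualAnnihilator_ker] at hker
  obtain ⟨lam, hlam⟩ := hker
  have hlam' : ∀ v, μ v = lam (G v) - lam v := fun v => by
    rw [← hlam]; simp [LinearMap.dualMap_apply, LinearMap.sub_apply]
  refine ⟨Q₀ + QuadraticMap.linMulLin lam lam, fun u v => ?_, fun v => ?_⟩
  · simp only [polar, QuadraticMap.add_apply, QuadraticMap.linMulLin_apply, _root_.map_add, h₀.map_add]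
    linear_combination (lam u * lam v) * (CharP.cast_eq_zero F 2)
  · show (Q₀ + QuadraticMap.linMulLin lam lam) (g • v) = (Q₀ + QuadraticMap.linMulLin lam lam) v
    have h1 := hμ v
    rw [hlam' v] at h1
    simp only [δ] at h1
    rw [← hG, QuadraticMap.add_apply, QuadraticMap.add_apply, QuadraticMap.linMulLin_apply,
      QuadraticMap.linMulLin_apply]
    linear_combination -h1 + (lam (G v) * lam (G v) - lam (G v) * lam v) *
      (CharP.cast_eq_zero F 2)

theorem Polarizes.nondeg {Q : QuadraticForm F Vm} (hQ : Polarizes Q) :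
    (polarBilin Q).Nondegenerate := by
  have h : ∀ x : Vm, (∀ y, polarBilin Q x y = 0) → x = 0 := fun x hx =>
    eq_zero_of_form_eq_zero fun u => by
      rw [form_swap, ← hQ, ← polarBilin_apply_apply, hx, neg_zero]
  exact ⟨h, fun y hy => eq_zero_of_form_eq_zero fun u => by
    rw [← hQ, ← polarBilin_apply_apply, hy]⟩

/-- Two equivalent polarizing forms are equivalent in the symplectic group. -/
theorem exists_sp_map {Q Q' : QuadraticForm F Vm} (hQ : Polarizes Q) (hQ' : Polarizes Q')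
    (φ : Vm ≃ₗ[F] Vm) (h : ∀ v, Q' (φ v) = Q v) :
    ∃ x : Matrix.symplecticGroup (Fin m) F, ∀ v : Vm, Q' (x • v) = Q v := by
  obtain ⟨x, hx⟩ := Geometry.exists_of_linearEquiv φ fun u v => by
    rw [← hQ', ← hQ, polar, polar, ← _root_.map_add, h, h, h]
  exact ⟨x, fun v => by rw [hx, h]⟩

/-- Two anisotropic planes are equivalent. -/
theorem minus_change {ζ ζ' : F} (hζ : ∀ t : F, t ^ 2 + t + ζ ≠ 0) (hζ' : ∀ t : F, t ^ 2 + t + ζ' ≠ 0)
    (k : ℕ) : ∃ φ : ((Fin k ⊕ Fin k) ⊕ Fin 2 → F) ≃ₗ[F] ((Fin k ⊕ Fin k) ⊕ Fin 2 → F),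
      ∀ v, minusQ k 1 ζ' (φ v) = minusQ k 1 ζ v := by
  classical
  -- the Artin–Schreier image has index two
  obtain ⟨s, hs⟩ : ∃ s : F, s ^ 2 + s + ζ' = ζ := by
    haveI := Fintype.ofFinite F
    let f : F →+ F :=
      { toFun := fun t => t ^ 2 + t
        map_zero' := by simp
        map_add' := fun a b => by
          linear_combination (a * b) * (CharP.cast_eq_zero F 2) }
    have hker : Nat.card f.ker = 2 := by
      rw [Nat.card_eq_two_iff]
      refine ⟨⟨0, f.map_zero⟩, ⟨1, show (1 : F) ^ 2 + 1 = 0 by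
        linear_combination (CharP.cast_eq_zero F 2)⟩,
        fun h => zero_ne_one (congrArg Subtype.val h), ?_⟩
      refine Set.eq_univ_of_forall fun x => ?_
      have hx : (x : F) * ((x : F) + 1) = 0 := by
        have := x.2
        have h' : (x : F) ^ 2 + (x : F) = 0 := this
        linear_combination h'
      rcases mul_eq_zero.mp hx with h | h
      · exact Or.inl (Subtype.ext h)
      · exact Or.inr (Subtype.ext (by
          linear_combination h - (CharP.cast_eq_zero F 2)))
    have hidx : f.range.index = 2 := by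
      have h1 := AddSubgroup.card_mul_index f.ker
      rw [hker, AddSubgroup.index_ker, Nat.mul_comm] at h1
      have h2 := AddSubgroup.card_mul_index f.range
      have h3 : 0 < Nat.card f.range := Nat.card_pos
      have h4 : Nat.card f.range * f.range.index = Nat.card f.range * 2 := by rw [h2, h1]
      exact Nat.eq_of_mul_eq_mul_left h3 h4
    have hn : ∀ z : F, (∀ t : F, t ^ 2 + t + z ≠ 0) → z ∉ f.range := by
      rintro z hz ⟨t, ht⟩
      have ht' : t ^ 2 + t = z := ht
      exact hz t (by linear_combination ht' + z * (CharP.cast_eq_zero F 2))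
    obtain ⟨s, hs⟩ : ζ - ζ' ∈ f.range := by
      rw [sub_eq_add_neg, AddSubgroup.add_mem_iff_of_index_two hidx, neg_mem_iff]
      exact iff_of_false (hn ζ hζ) (hn ζ' hζ')
    have hs' : s ^ 2 + s = ζ - ζ' := hs
    exact ⟨s, by linear_combination hs'⟩
  let T : ((Fin k ⊕ Fin k) ⊕ Fin 2 → F) →ₗ[F] ((Fin k ⊕ Fin k) ⊕ Fin 2 → F) :=
    { toFun := fun v => v + Pi.single (Sum.inr 0) (s * v (Sum.inr 1))
      map_add' := fun u v => by
        simp only [Pi.add_apply, mul_add, Pi.single_add]; abel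
      map_smul' := fun c v => by
        simp only [Pi.smul_apply, smul_eq_mul, RingHom.id_apply, smul_add, ← Pi.single_smul',
          mul_left_comm] }
  have hT2 : ∀ v, T (T v) = v := fun v => by
    show v + Pi.single _ _ + Pi.single (Sum.inr 0) (s * (v + Pi.single (Sum.inr 0) _ : _ → F) _) = v
    simp only [Pi.add_apply, Pi.single_eq_of_ne (show (Sum.inr 1 : (Fin k ⊕ Fin k) ⊕ Fin 2) ≠ Sum.inr 0
      by simp), add_zero]
    rw [add_assoc, ← Pi.single_add, CharTwo.add_self_eq_zero, Pi.single_zero, add_zero]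
  refine ⟨LinearEquiv.ofLinearMap T T (LinearMap.ext hT2) (LinearMap.ext hT2), fun v => ?_⟩
  show minusQ k 1 ζ' (T v) = minusQ k 1 ζ v
  simp only [minusQ_coe, Cfsg.quadFormMinus]
  simp [T]
  linear_combination (v (Sum.inr 1) ^ 2) * hs +
    (s * v (Sum.inr 0) * v (Sum.inr 1)) * (CharP.cast_eq_zero F 2)

/-- `PSp_{2m}(q)`, `q` even, is covered by the conjugates of two proper subgroups. -/
theorem psp_even_cover (hm : 2 ≤ m) : TwoCover (Cfsg.PSp m F) := by
  classical
  set Q₀ := plusQ (F := F) m with hQ₀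
  have h₀ : Polarizes Q₀ := plusQ_polarizes
  have hfin : Module.finrank F Vm = 2 * m := by simp [two_mul]
  -- a form not equivalent to `Q₀`, if there is one
  obtain ⟨Q₁, h₁, hcl⟩ : ∃ Q₁, Polarizes Q₁ ∧ ∀ Q, Polarizes Q →
      (∃ φ : Vm ≃ₗ[F] Vm, ∀ v, Q₀ (φ v) = Q v) ∨ ∃ φ : Vm ≃ₗ[F] Vm, ∀ v, Q₁ (φ v) = Q v := by
    by_cases h : ∃ Q₁ : QuadraticForm F Vm, Polarizes Q₁ ∧
        ¬ ∃ φ : Vm ≃ₗ[F] Vm, ∀ v, Q₀ (φ v) = Q₁ v
    · obtain ⟨Q₁, h₁, hne⟩ := h
      refine ⟨Q₁, h₁, fun Q hQ => ?_⟩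
      rcases classify_even hQ.nondeg hfin with ⟨φ, hφ⟩ | ⟨ζ, φ, hm1, hζ, hφ⟩
      · exact Or.inl ⟨φ, fun v => (hφ v).symm⟩
      rcases classify_even h₁.nondeg hfin with ⟨ψ, hψ⟩ | ⟨ζ', ψ, -, hζ', hψ⟩
      · exact absurd ⟨ψ, fun v => (hψ v).symm⟩ hne
      obtain ⟨χ, hχ⟩ := minus_change hζ hζ' (m - 1)
      refine Or.inr ⟨(φ.trans χ).trans ψ.symm, fun v => ?_⟩
      rw [LinearEquiv.trans_apply, LinearEquiv.trans_apply, hψ, LinearEquiv.apply_symm_apply, hχ, hφ]
    · push Not at h
      exact ⟨Q₀, h₀, fun Q hQ => Or.inl (h Q hQ)⟩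
  refine twoCover_quotient _ (H := qStab Q₀) (K := qStab Q₁) (qStab_ne_top (by omega) h₀ hm)
    (qStab_ne_top (by omega) h₁ hm) ?_ ?_ ?_
  all_goals first
    | (intro z hz v
       have hz1 : (z : Matrix (Fin m ⊕ Fin m) (Fin m ⊕ Fin m) F) = 1 := by
         rcases mem_center_iff.mp hz with h | h
         · exact h
         · rw [h]; ext i j; simp [CharTwo.neg_eq]
       rw [show z = 1 from Subtype.ext hz1, one_smul])
    | skip
  intro g
  obtain ⟨Q, hQ, hg⟩ := exists_fixed_form g
  have hconj : ∀ Q' : QuadraticForm F Vm, ∀ x : Matrix.symplecticGroup (Fin m) F,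
      (∀ v : Vm, Q' (x • v) = Q v) → x * g * x⁻¹ ∈ qStab Q' := by
    intro Q' x hx v
    rw [mul_smul, mul_smul, hx, hg, ← hx, smul_inv_smul]
  rcases hcl Q hQ with ⟨φ, hφ⟩ | ⟨φ, hφ⟩
  · obtain ⟨x, hx⟩ := exists_sp_map hQ h₀ φ hφ
    exact ⟨x, Or.inl (hconj _ x hx)⟩
  · obtain ⟨x, hx⟩ := exists_sp_map hQ h₁ φ hφ
    exact ⟨x, Or.inr (hconj _ x hx)⟩

end CfsgLib.Cover5
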