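import Cfsg.Agent.Cover5.Isometry

/-!
# Two subgroups covering `PSU_4`
-/

set_option autoImplicit false
set_option linter.unusedSectionVars false
set_option linter.unusedVariables false

namespace CfsgLib.Cover5

open Polynomial CfsgLib.Unitary CfsgLib.Forms

variable {F : Type*} [Field F] [Finite F] {q : ℕ} (hF : Nat.card F = q ^ 2) {n : ℕ}

local notation "hh" => Cfsg.hermForm _ F q

theorem su_isIso (g : Cfsg.SU n F q) : IsIso q (lin g.1) := fun u v => by
  have h := g.2 u v
  simpa [lin, Cfsg.slToMat, Matrix.toLin'_apply] using h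

/-- An element of GU of determinant one, as an element of SU. -/
theorem exists_su (x : Cfsg.GU n F q) (hx : detGU n x = 1) :
    ∃ s : Cfsg.SU n F q, ∀ v, lin s.1 v = (x.1 : Matrix (Fin n) (Fin n) F).mulVec v :=
  ⟨(suEquiv n).symm ⟨x, hx⟩, fun v => rfl⟩

theorem gu_mul_mulVec (x y : Cfsg.GU n F q) (v : Fin n → F) :
    ((x * y).1 : Matrix (Fin n) (Fin n) F).mulVec v =
      (x.1 : Matrix (Fin n) (Fin n) F).mulVec ((y.1 : Matrix (Fin n) (Fin n) F).mulVec v) :=
  (Matrix.mulVec_mulVec v _ _).symm

include hF in
/-- A transvection moving a given vector off a given subspace. -/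
theorem exists_su_moving {m : ℕ} (v w : Fin m → F) (hv : Cfsg.hermForm m F q v v = 0)
    (hwv : Cfsg.hermForm m F q w v ≠ 0) (W : Submodule F (Fin m → F)) (hw : w ∈ W) (hvW : v ∉ W) :
    ∃ t : Cfsg.SU m F q, lin t.1 w ∉ W := by
  obtain ⟨a₀, ha₀⟩ : ∃ a : F, a ^ q ≠ a := by
    by_contra h
    push Not at h
    exact frobQ_ne_id hF (RingHom.ext fun a => h a)
  set c := a₀ ^ q - a₀ with hc
  have hc0 : c ≠ 0 := sub_ne_zero.mpr ha₀
  have hcc : c + c ^ q = 0 := by
    rw [hc, show (a₀ ^ q - a₀) ^ q = (a₀ ^ q) ^ q - a₀ ^ q from map_sub (frobQ hF) _ _, pow_q_q hF]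
    ring
  refine ⟨suTv m v c hv hcc hF, fun hmem => hvW ?_⟩
  rw [show lin (suTv m v c hv hcc hF).1 w = (Cfsg.unitaryTransvection m q v c).mulVec w from rfl,
    utv_mulVec] at hmem
  have h1 := W.sub_mem hmem hw
  rw [add_sub_cancel_left] at h1
  exact (W.smul_mem_iff (mul_ne_zero hc0 hwv)).mp h1

/-- The first basis vector. -/
noncomputable abbrev e0 (F : Type*) [Field F] (m : ℕ) : Fin (m + 1) → F := Pi.single 0 1

theorem hh_e0 {m : ℕ} : Cfsg.hermForm (m + 1) F q (e0 F m) (e0 F m) = 1 := by
  rw [herm_single_single]; simp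

include hF in
/-- An element with a non-isotropic eigenvector is conjugate into the stabiliser of `e0`. -/
theorem conj_into_pointStab {m : ℕ} (g : Cfsg.SU (m + 1) F q) {v : Fin (m + 1) → F} {μ : F}
    (hgv : lin g.1 v = μ • v) (hv : Cfsg.hermForm (m + 1) F q v v ≠ 0) :
    ∃ x : Cfsg.SU (m + 1) F q, x * g * x⁻¹ ∈
      (lineStab F (m + 1) (e0 F m)).subgroupOf (Cfsg.SU (m + 1) F q) := by
  obtain ⟨a, ha⟩ := exists_norm_eq hF (μ := (Cfsg.hermForm (m + 1) F q v v)⁻¹)
    (by rw [inv_pow, herm_self_fixed hF v])
  have ha0 : a ≠ 0 := by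
    intro h; rw [h, zero_pow (by omega)] at ha; exact inv_ne_zero hv ha.symm
  set u := a • v with hu
  have huu : Cfsg.hermForm (m + 1) F q u u = 1 := by
    rw [hu, herm_smul_left, herm_smul_right hF, ← mul_assoc, ← pow_succ', ha, inv_mul_cancel₀ hv]
  have hu0 : u ≠ 0 := smul_ne_zero ha0 fun h => hv (by rw [h]; exact (uForm hF _).zero_left _)
  obtain ⟨x, hx⟩ := exists_GU_family hF ![u] ![e0 F m]
    (LinearIndependent.of_subsingleton 0 hu0) (LinearIndependent.of_subsingleton 0 (by simp [e0]))
    (fun i j => by simpa [Matrix.cons_val_fin_one] using huu.trans hh_e0.symm)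
  have hdet : (detGU (m + 1) x)⁻¹ ^ (q + 1) = 1 := by
    have h := det_GU hF x.2
    rw [inv_pow, inv_eq_one]
    exact h
  set d := diagFirst (n := m) (detGU (m + 1) x)⁻¹ hdet
  obtain ⟨s, hs⟩ := exists_su (d * x) (by
    rw [map_mul, show detGU (m + 1) d = (detGU (m + 1) x)⁻¹ from det_diagFirst _ hdet,
      inv_mul_cancel])
  obtain ⟨c, hc0, hc⟩ : ∃ c : F, c ≠ 0 ∧ lin s.1 u = c • e0 F m := by
    refine ⟨((detGU (m + 1) x)⁻¹ : Fˣ), Units.ne_zero _, ?_⟩
    have h0 : (x.1 : Matrix (Fin (m + 1)) (Fin (m + 1)) F).mulVec u = e0 F m := hx 0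
    rw [hs, gu_mul_mulVec, h0]
    ext i
    induction i using Fin.cases with
    | zero => simp [d, diagFirst, e0, Matrix.mulVec_diagonal]
    | succ i => simp [d, diagFirst, e0, Matrix.mulVec_diagonal]
  have hμ0 : μ ≠ 0 := by
    intro h
    apply hv
    have h2 : v = 0 := by rw [← lin_inv_apply g.1 v, hgv, h, zero_smul, map_zero]
    rw [h2]; exact (uForm hF _).zero_left _
  refine ⟨s, ?_⟩
  rw [Subgroup.mem_subgroupOf]
  refine ⟨μ, hμ0, ?_⟩
  have he : e0 F m = c⁻¹ • lin s.1 u := by rw [hc, smul_smul, inv_mul_cancel₀ hc0, one_smul]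
  rw [he, Subgroup.coe_mul, Subgroup.coe_mul, Subgroup.coe_inv, map_smul, lin_mul, lin_mul,
    lin_inv_apply, hu]
  simp only [map_smul, hgv, smul_smul]
  congr 1; ring

include hF in
theorem pointStab_ne_top {m : ℕ} (hm : 1 ≤ m) :
    (lineStab F (m + 1) (e0 F m)).subgroupOf (Cfsg.SU (m + 1) F q) ≠ ⊤ := by
  obtain ⟨l, hl⟩ := exists_norm_eq hF (μ := (-1 : F))
    (by rw [← frobQ_apply hF, map_neg, map_one])
  let i : Fin (m + 1) := ⟨1, by omega⟩
  have hi : i ≠ 0 := by intro h; simpa [i] using congrArg Fin.val h
  set v : Fin (m + 1) → F := e0 F m + Pi.single i l with hv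
  have hve : Cfsg.hermForm (m + 1) F q (e0 F m) v = 1 := by
    rw [herm_single_left, hv]; simp [Pi.single_eq_of_ne (Ne.symm hi)]
  have hvv : Cfsg.hermForm (m + 1) F q v v = 0 := by
    have h1 : Cfsg.hermForm (m + 1) F q (e0 F m) (Pi.single i l) = 0 := by
      rw [herm_single_left, Pi.single_eq_of_ne (Ne.symm hi), zero_pow (by have := two_le_q hF; omega)]
    have h2 : Cfsg.hermForm (m + 1) F q (Pi.single i l) (e0 F m) = 0 :=
      (uForm hF _).eq_zero_comm.mp h1
    rw [hv, herm_add_left, herm_add_right hF, herm_add_right hF, hh_e0, h1, h2, herm_single_single,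
      ← pow_succ', hl]
    ring
  obtain ⟨t, ht⟩ := exists_su_moving hF v (e0 F m) hvv (by rw [hve]; exact one_ne_zero)
    (Submodule.span F {e0 F m}) (Submodule.mem_span_singleton_self _) (fun hmem => by
      obtain ⟨a, ha⟩ := Submodule.mem_span_singleton.mp hmem
      have := congrFun ha i
      simp [hv, Pi.single_eq_of_ne hi, e0] at this
      rw [← this, zero_pow (by omega)] at hl
      exact neg_ne_zero.mpr one_ne_zero hl.symm)
  intro htop
  have : t ∈ (lineStab F (m + 1) (e0 F m)).subgroupOf (Cfsg.SU (m + 1) F q) := by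
    rw [htop]; trivial
  obtain ⟨c, -, hc⟩ := Subgroup.mem_subgroupOf.mp this
  exact ht (Submodule.mem_span_singleton.mpr ⟨c, hc.symm⟩)

include hF in
theorem center_scalar {m : ℕ} (hm : 2 ≤ m) {z : Cfsg.SU m F q}
    (hz : z ∈ Subgroup.center (Cfsg.SU m F q)) :
    ∃ a : F, a ≠ 0 ∧ ∀ v, lin z.1 v = a • v := by
  obtain ⟨a, ha⟩ := (mem_center_SU_iff hF hm).mp hz
  have h : ∀ v, lin z.1 v = a • v := fun v => by
    simp [lin, ha, Matrix.toLin'_apply, Matrix.smul_mulVec]
  refine ⟨a, fun h0 => ?_, h⟩
  have hj := lin_inv_apply z.1 (Pi.single (⟨0, by omega⟩ : Fin m) (1 : F))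
  rw [h, h0, zero_smul, map_zero] at hj
  simpa using congrFun hj ⟨0, by omega⟩

include hF in
theorem center_le_pointStab {m : ℕ} (hm : 1 ≤ m) :
    Subgroup.center (Cfsg.SU (m + 1) F q) ≤
      (lineStab F (m + 1) (e0 F m)).subgroupOf (Cfsg.SU (m + 1) F q) := fun z hz => by
  obtain ⟨a, ha0, ha⟩ := center_scalar hF (by omega) hz
  exact Subgroup.mem_subgroupOf.mpr ⟨a, ha0, ha _⟩

/-- The stabiliser of a subspace, in SU. -/
noncomputable def subStab (W : Submodule F (Fin n → F)) : Subgroup (Cfsg.SU n F q) where
  carrier := {g | W.map (lin g.1) = W}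
  one_mem' := by
    have h : (lin (1 : Matrix.SpecialLinearGroup (Fin n) F)) = LinearMap.id :=
      LinearMap.ext lin_one
    show W.map (lin ((1 : Cfsg.SU n F q) : Matrix.SpecialLinearGroup (Fin n) F)) = W
    rw [Subgroup.coe_one, h, Submodule.map_id]
  mul_mem' {a b} ha hb := by
    have h : lin (a * b).1 = (lin a.1).comp (lin b.1) := LinearMap.ext (lin_mul a.1 b.1)
    show W.map (lin (a * b).1) = W
    rw [h, Submodule.map_comp, hb, ha]
  inv_mem' {a} ha := by
    have h : (lin a⁻¹.1).comp (lin a.1) = LinearMap.id := LinearMap.ext (lin_inv_apply a.1)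
    show W.map (lin a⁻¹.1) = W
    conv_lhs => rw [← ha, ← Submodule.map_comp, h, Submodule.map_id]

include hF in
/-- A line of isotropic vectors and an eigenvalue: either a non-isotropic eigenvector or an
invariant totally isotropic plane. -/
theorem eigen_or_plane (g : Cfsg.SU 4 F q) :
    (∃ (v : Fin 4 → F) (μ : F), lin g.1 v = μ • v ∧ hh v v ≠ 0) ∨
      ∃ W : Submodule F (Fin 4 → F), Module.finrank F W = 2 ∧ (∀ u ∈ W, ∀ v ∈ W, hh u v = 0) ∧
        W.map (lin g.1) = W := by
  classical
  set f := lin g.1 with hf
  have hg : IsIso q f := su_isIso g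
  have hinj : Function.Injective f := hg.injective hF
  by_cases hH : ∃ (v : Fin 4 → F) (μ : F), f v = μ • v ∧ hh v v ≠ 0
  · exact Or.inl hH
  push Not at hH
  right
  -- an invariant plane spanned by two vectors
  have mk : ∀ a b : Fin 4 → F, LinearIndependent F ![a, b] → f a ∈ Submodule.span F {a, b} →
      f b ∈ Submodule.span F {a, b} → hh a a = 0 → hh b b = 0 → hh a b = 0 →
      ∃ W : Submodule F (Fin 4 → F), Module.finrank F W = 2 ∧ (∀ u ∈ W, ∀ v ∈ W, hh u v = 0) ∧
        W.map f = W := by
    intro a b hab ha hb haa hbb hab0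
    have hba : hh b a = 0 := (uForm hF 4).eq_zero_comm.mp hab0
    have h2 : Module.finrank F (Submodule.span F {a, b}) = 2 := by
      have := finrank_span_eq_card hab
      rwa [Matrix.range_cons, Matrix.range_cons, Matrix.range_empty, Set.union_empty,
        Set.singleton_union, Fintype.card_fin] at this
    refine ⟨Submodule.span F {a, b}, h2, fun u hu v hv => ?_, ?_⟩
    · obtain ⟨x, y, rfl⟩ := Submodule.mem_span_pair.mp hu
      obtain ⟨x', y', rfl⟩ := Submodule.mem_span_pair.mp hv
      simp only [herm_add_left, herm_add_right hF, herm_smul_left, herm_smul_right hF, haa, hbb,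
        hab0, hba, mul_zero, add_zero]
    · refine Submodule.eq_of_le_of_finrank_eq ?_ ?_
      · rw [Submodule.map_span, Submodule.span_le]
        rintro _ ⟨x, hx, rfl⟩
        rcases hx with rfl | rfl
        · exact ha
        · exact hb
      · exact (Submodule.equivMapOfInjective f hinj _).finrank_eq.symm
  have hfix : ∀ (v : Fin 4 → F) (μ : F), f v = μ • v → hh v v = 0 := hH
  by_cases hbig : ∃ p : F[X], Irreducible p ∧ p.Monic ∧ p ∣ minpoly F f ∧ p.natDegree ≠ 1
  · obtain ⟨p, hp, hpm, hpd, hp1⟩ := hbig
    have hd4 : p.natDegree ≤ 4 := by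
      refine (natDegree_le_of_dvd (hpd.trans (LinearMap.minpoly_dvd_charpoly f))
        (LinearMap.charpoly_monic f).ne_zero).trans ?_
      rw [LinearMap.charpoly_natDegree, Module.finrank_fin_fun]
    have hpos := hp.natDegree_pos
    obtain ⟨u, hu, hu0⟩ := Submodule.exists_mem_ne_zero_of_ne_bot (kerPoly_ne_bot f hp hpd)
    have hpu : aeval f p u = 0 := hu
    -- `u, f u, …` are independent below the degree
    have hindep : ∀ s : F[X], s.natDegree < p.natDegree → aeval f s u = 0 → s = 0 := by
      intro s hs hsu
      by_contra hs0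
      have hcop : IsCoprime p s := hp.coprime_iff_not_dvd.mpr fun hdv =>
        absurd (natDegree_le_of_dvd hdv hs0) (by omega)
      obtain ⟨a, b, hab⟩ := hcop
      apply hu0
      have := congrArg (fun r => aeval f r u) hab
      simpa [hpu, hsu] using this.symm
    rcases hg.isotropic_or_selfconj.{_, 0} hF hp hpd with hTI | ⟨hodd, -⟩
    · -- a totally isotropic kernel
      have hle := two_mul_finrank_le hF (kerPoly f p) hTI
      have hp2 : p.natDegree = 2 := by
        by_contra hne
        -- three independent vectors in the kernel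
        have hd3 : 3 ≤ p.natDegree := by omega
        have hli : LinearIndependent F (fun i : Fin 3 =>
            (⟨(f ^ (i : ℕ)) u, by
              induction (i : ℕ) with
              | zero => simpa using hu
              | succ k ih => rw [pow_succ', Module.End.mul_apply]; exact kerPoly_invariant f p ih⟩ :
              kerPoly f p)) := by
          rw [Fintype.linearIndependent_iff]
          intro c hc i
          have hc' := congrArg Subtype.val hc
          rw [Submodule.coe_sum, Submodule.coe_zero] at hc'
          have h0 := hindep (∑ i : Fin 3, C (c i) * X ^ (i : ℕ))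
            (lt_of_le_of_lt (natDegree_sum_le_of_forall_le _ _ fun i _ =>
              (natDegree_C_mul_X_pow_le _ _).trans (Nat.lt_succ_iff.mp i.2)) (by omega))
            (by simpa [map_sum, Module.algebraMap_end_apply] using hc')
          have h1 := congrArg (fun r => r.coeff (i : ℕ)) h0
          simpa [finset_sum_coeff, coeff_C_mul, coeff_X_pow, Fin.val_inj] using h1
        have := hli.fintype_card_le_finrank
        rw [Fintype.card_fin] at this
        omega
      refine mk u (f u) ?_ (Submodule.subset_span (Set.mem_insert_of_mem _ rfl)) ?_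
        (hTI u hu u hu) (hTI _ (kerPoly_invariant f p hu) _ (kerPoly_invariant f p hu))
        (hTI u hu _ (kerPoly_invariant f p hu))
      · rw [LinearIndependent.pair_iff]
        intro a b hab
        have h0 := hindep (C a + C b * X) (lt_of_le_of_lt (natDegree_linear_le.trans' (by
          rw [add_comm])) (by omega)) (by simpa [Module.algebraMap_end_apply] using hab)
        exact ⟨by simpa using congrArg (fun r => r.coeff 0) h0,
          by simpa using congrArg (fun r => r.coeff 1) h0⟩
      · rw [Submodule.mem_span_pair]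
        have he : p = C (p.coeff 0) + C (p.coeff 1) * X + X ^ 2 := by
          conv_lhs => rw [hpm.as_sum, hp2]
          simp [Finset.sum_range_succ]; ring
        refine ⟨-p.coeff 0, -p.coeff 1, ?_⟩
        rw [he] at hpu
        simp only [map_add, map_mul, aeval_C, aeval_X, map_pow, LinearMap.add_apply,
          Module.End.mul_apply, Module.algebraMap_end_apply, pow_two] at hpu
        rw [← sub_eq_zero, ← neg_eq_zero, ← hpu]
        module
    · -- an odd degree: three, with a non-isotropic fixed line
      have hp3 : p.natDegree = 3 := by rcases hodd with ⟨k, hk⟩; omega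
      exfalso
      obtain ⟨r, hr⟩ := hpd.trans (LinearMap.minpoly_dvd_charpoly f)
      have hr1 : r.degree = 1 := by
        have hne := (LinearMap.charpoly_monic f).ne_zero
        have h4 : f.charpoly.natDegree = 4 := by
          rw [LinearMap.charpoly_natDegree, Module.finrank_fin_fun]
        rw [hr] at hne h4
        rw [natDegree_mul hp.ne_zero (right_ne_zero_of_mul hne), hp3] at h4
        rw [degree_eq_natDegree (right_ne_zero_of_mul hne), show r.natDegree = 1 by omega]; rfl
      obtain ⟨μ, hμ⟩ := exists_root_of_degree_eq_one hr1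
      obtain ⟨w, hw, hw0⟩ := ((Module.End.hasEigenvalue_iff_isRoot_charpoly f μ).mpr
        (hμ.dvd ⟨p, by rw [hr, mul_comm]⟩)).exists_hasEigenvector
      rw [Module.End.mem_eigenspace_iff] at hw
      have hμ0 : μ ≠ 0 := fun h => hw0 (hinj (by rw [hw, h, zero_smul, map_zero]))
      -- `w` is orthogonal to the kernel
      have hperp : ∀ x ∈ kerPoly f p, hh x w = 0 := by
        intro x hx
        set s := reflect p.natDegree (p.map (frobQ hF))
        have h1 := hg.aeval_adj hF p le_rfl x w
        have hx0 : aeval f p x = 0 := hx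
        rw [hx0] at h1
        have h2 : aeval f s w = s.eval μ • w :=
          Module.End.aeval_apply_of_hasEigenvector ⟨Module.End.mem_eigenspace_iff.mpr hw, hw0⟩
        rw [h2] at h1
        have h3 : hh x (s.eval μ • w) = 0 := h1.symm.trans ((uForm hF 4).zero_left _)
        rw [herm_smul_right hF] at h3
        refine (mul_eq_zero.mp h3).resolve_left (pow_ne_zero _ fun h => ?_)
        letI := invertibleOfNonzero (inv_ne_zero hμ0)
        have h4 : eval₂ (RingHom.id F) (⅟(μ⁻¹)) s = 0 := by
          rw [invOf_eq_inv, inv_inv, eval₂_id]; exact h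
        rw [eval₂_reflect_eq_zero_iff _ _ _ _ natDegree_map_le, eval₂_map, RingHom.id_comp] at h4
        -- a root of `p`
        have h5 : (p.map (frobQ hF)).eval μ⁻¹ = 0 := by rw [eval_map]; exact h4
        have h6 : p.eval ((μ⁻¹) ^ q) = 0 := by
          have := congrArg (frobQ hF) h5
          rw [map_zero, ← eval₂_at_apply, eval₂_map] at this
          rw [show ((frobQ hF).comp (frobQ hF)) = RingHom.id F from
            RingHom.ext (frobQ_invol hF), eval₂_id, frobQ_apply] at this
          exact this
        have := degree_eq_one_of_irreducible_of_root hp h6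
        rw [degree_eq_natDegree hp.ne_zero, hp3] at this
        exact absurd this (by decide)
      -- three independent vectors and `w`
      have hli : LinearIndependent F (Fin.snoc (fun i : Fin 3 => (f ^ (i : ℕ)) u) w) := by
        rw [linearIndependent_finSnoc]
        refine ⟨?_, ?_⟩
        · rw [Fintype.linearIndependent_iff]
          intro c hc i
          have h0 := hindep (∑ i : Fin 3, C (c i) * X ^ (i : ℕ))
            (lt_of_le_of_lt (natDegree_sum_le_of_forall_le _ _ fun i _ =>
              (natDegree_C_mul_X_pow_le _ _).trans (Nat.lt_succ_iff.mp i.2)) (by omega))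
            (by simpa [map_sum, Module.algebraMap_end_apply] using hc)
          have h1 := congrArg (fun r => r.coeff (i : ℕ)) h0
          simpa [finset_sum_coeff, coeff_C_mul, coeff_X_pow, Fin.val_inj] using h1
        · intro hmem
          have hle : Submodule.span F (Set.range fun i : Fin 3 => (f ^ (i : ℕ)) u) ≤ kerPoly f p := by
            rw [Submodule.span_le]
            rintro _ ⟨i, rfl⟩
            show (f ^ (i : ℕ)) u ∈ kerPoly f p
            induction (i : ℕ) with
            | zero => simpa using hu
            | succ k ih => rw [pow_succ', Module.End.mul_apply]; exact kerPoly_invariant f p ih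
          have hpw : aeval f p w = 0 := hle hmem
          rw [Module.End.aeval_apply_of_hasEigenvector ⟨Module.End.mem_eigenspace_iff.mpr hw, hw0⟩] at hpw
          have := degree_eq_one_of_irreducible_of_root hp
            ((smul_eq_zero.mp hpw).resolve_right hw0)
          rw [degree_eq_natDegree hp.ne_zero, hp3] at this
          exact absurd this (by decide)
      have hspan := hli.span_eq_top_of_card_eq_finrank (by simp)
      apply hw0
      apply uForm_nondeg hF 4
      intro x
      have hx : x ∈ Submodule.span F (Set.range (Fin.snoc (fun i : Fin 3 => (f ^ (i : ℕ)) u) w)) := by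
        rw [hspan]; trivial
      rw [uForm_h]
      induction hx using Submodule.span_induction with
      | mem y hy =>
        obtain ⟨i, rfl⟩ := hy
        induction i using Fin.lastCases with
        | last => rw [Fin.snoc_last]; exact hfix w μ hw
        | cast i =>
          rw [Fin.snoc_castSucc]
          apply hperp
          induction (i : ℕ) with
          | zero => simpa using hu
          | succ k ih => rw [pow_succ', Module.End.mul_apply]; exact kerPoly_invariant f p ih
      | zero => exact (uForm hF 4).zero_left _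
      | add a b _ _ iha ihb => rw [herm_add_left, iha, ihb, add_zero]
      | smul a b _ ihb => rw [herm_smul_left, ihb, mul_zero]
  · -- all factors are linear
    push Not at hbig
    have hlin : ∀ p : F[X], Irreducible p → p ∣ minpoly F f → p.natDegree = 1 := by
      intro p hp hpd
      have hl : IsUnit (C p.leadingCoeff⁻¹) :=
        isUnit_C.mpr (inv_ne_zero (leadingCoeff_ne_zero.mpr hp.ne_zero)).isUnit
      have hassoc : Associated (p * C p.leadingCoeff⁻¹) p := associated_mul_unit_left p _ hl
      have h1 := hbig _ (hassoc.irreducible_iff.mpr hp) (monic_mul_leadingCoeff_inv hp.ne_zero)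
        (hassoc.dvd_iff_dvd_left.mpr hpd)
      rwa [natDegree_mul_leadingCoeff_inv _ hp.ne_zero] at h1
    obtain ⟨v, lam, hv0, hfv⟩ : ∃ (v : Fin 4 → F) (lam : F), v ≠ 0 ∧ f v = lam • v := by
      obtain ⟨p, hp, hpd⟩ := WfDvdMonoid.exists_irreducible_factor
        (minpoly.not_isUnit F f) (minpoly.ne_zero (Algebra.IsIntegral.isIntegral f))
      obtain ⟨μ, hμ⟩ := exists_root_of_degree_eq_one (p := p)
        (by rw [degree_eq_natDegree hp.ne_zero, hlin p hp hpd]; rfl)
      obtain ⟨w, hw, hw0⟩ :=
        (Module.End.hasEigenvalue_of_isRoot (hμ.dvd hpd)).exists_hasEigenvector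
      exact ⟨w, μ, hw0, Module.End.mem_eigenspace_iff.mp hw⟩
    have hlam : lam ≠ 0 := fun h => hv0 (hinj (by rw [hfv, h, zero_smul, map_zero]))
    have hvv := hfix v lam hfv
    let φ : (Fin 4 → F) → (Fin 4 → F) →ₗ[F] F := fun w =>
      { toFun := fun x => hh x w
        map_add' := fun x y => herm_add_left _ x y w
        map_smul' := fun c x => herm_smul_left _ c x w }
    set P : Submodule F (Fin 4 → F) := LinearMap.ker (φ v) with hP
    have hPinv : ∀ x ∈ P, f x ∈ P := by
      intro x hx
      have hx0 : hh x v = 0 := hx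
      have : hh (f x) (f v) = 0 := by rw [hg, hx0]
      rw [hfv, herm_smul_right hF] at this
      exact (mul_eq_zero.mp this).resolve_left (pow_ne_zero _ hlam)
    have hker : ∀ (Q : Submodule F (Fin 4 → F)) (w : Fin 4 → F),
        Module.finrank F Q ≤ Module.finrank F ↥(Q ⊓ LinearMap.ker (φ w)) + 1 := by
      intro Q w
      have h1 := Submodule.finrank_sup_add_finrank_inf_eq Q (LinearMap.ker (φ w))
      have h2 := (φ w).finrank_range_add_finrank_ker
      have h3 : Module.finrank F (LinearMap.range (φ w)) ≤ 1 :=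
        (Submodule.finrank_le _).trans_eq (Module.finrank_self F)
      have h4 := Submodule.finrank_le (Q ⊔ LinearMap.ker (φ w))
      omega
    have hP3 : 3 ≤ Module.finrank F P := by
      have := hker ⊤ v
      rw [top_inf_eq, finrank_top, Module.finrank_fin_fun] at this
      rw [hP]; omega
    have hline : Module.finrank F (Submodule.span F {v}) = 1 := finrank_span_singleton hv0
    obtain ⟨y, hy, hyv⟩ : ∃ y ∈ P, y ∉ Submodule.span F {v} := by
      by_contra h
      push Not at h
      have := Submodule.finrank_mono (show P ≤ Submodule.span F {v} from h)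
      omega
    obtain ⟨w, hwP, hwv, μ, c, hfw⟩ := exists_sub_mem f hlin P hPinv hy hyv
    have hwv0 : hh w v = 0 := hwP
    have hvw0 : hh v w = 0 := (uForm hF 4).eq_zero_comm.mp hwv0
    have hind : ∀ z, z ∉ Submodule.span F {v} → LinearIndependent F ![v, z] := by
      intro z hz
      rw [LinearIndependent.pair_iff' hv0]
      exact fun a ha => hz (Submodule.mem_span_singleton.mpr ⟨a, ha⟩)
    have hvmem : ∀ z, f v ∈ Submodule.span F {v, z} := fun z => by
      rw [hfv]; exact Submodule.smul_mem _ _ (Submodule.subset_span (Set.mem_insert _ _))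
    by_cases hww : hh w w = 0
    · refine mk v w (hind w hwv) (hvmem w) ?_ hvv hww hvw0
      rw [hfw, Submodule.mem_span_pair]; exact ⟨c, μ, add_comm _ _⟩
    have hμ : μ = lam := by
      by_contra hne
      have hne' : μ - lam ≠ 0 := sub_ne_zero.mpr hne
      apply hww
      have h1 : f (w + (c / (μ - lam)) • v) = μ • (w + (c / (μ - lam)) • v) := by
        rw [map_add, map_smul, hfv, hfw]
        match_scalars <;> field_simp <;> ring
      have h2 := hfix _ _ h1
      simpa [herm_add_left, herm_add_right hF, herm_smul_left, herm_smul_right hF, hwv0, hvw0,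
        hvv] using h2
    subst hμ
    set Q := P ⊓ LinearMap.ker (φ w) with hQ
    have hQinv : ∀ x ∈ Q, f x ∈ Q := by
      rintro x ⟨hxP, hxw⟩
      refine ⟨hPinv x hxP, ?_⟩
      have hxw0 : hh x w = 0 := hxw
      have h1 : hh (f x) (f w) = 0 := by rw [hg, hxw0]
      have h2 : hh (f x) v = 0 := hPinv x hxP
      rw [hfw, herm_add_right hF, herm_smul_right hF, herm_smul_right hF, h2, mul_zero,
        add_zero] at h1
      exact (mul_eq_zero.mp h1).resolve_left (pow_ne_zero _ hlam)
    obtain ⟨y', hy', hyv'⟩ : ∃ y ∈ Q, y ∉ Submodule.span F {v} := by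
      by_contra h
      push Not at h
      have h1 := Submodule.finrank_mono (show Q ≤ Submodule.span F {v} from h)
      have h2 := hker P w
      rw [← hQ] at h2
      omega
    obtain ⟨z, hzQ, hzv, μ', c', hfz⟩ := exists_sub_mem f hlin Q hQinv hy' hyv'
    have hzv0 : hh z v = 0 := hzQ.1
    have hvz0 : hh v z = 0 := (uForm hF 4).eq_zero_comm.mp hzv0
    by_cases hzz : hh z z = 0
    · refine mk v z (hind z hzv) (hvmem z) ?_ hvv hzz hvz0
      rw [hfz, Submodule.mem_span_pair]; exact ⟨c', μ', add_comm _ _⟩
    have hμ' : μ' = μ := by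
      by_contra hne
      have hne' : μ' - μ ≠ 0 := sub_ne_zero.mpr hne
      apply hzz
      have h1 : f (z + (c' / (μ' - μ)) • v) = μ' • (z + (c' / (μ' - μ)) • v) := by
        rw [map_add, map_smul, hfv, hfz]
        match_scalars <;> field_simp <;> ring
      have h2 := hfix _ _ h1
      simpa [herm_add_left, herm_add_right hF, herm_smul_left, herm_smul_right hF, hzv0, hvz0,
        hvv] using h2
    subst hμ'
    have hzw0 : hh z w = 0 := hzQ.2
    have hwz0 : hh w z = 0 := (uForm hF 4).eq_zero_comm.mp hzw0
    obtain ⟨a, ha⟩ := exists_norm_eq hF (μ := -(hh w w) / hh z z) (by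
      rw [div_pow, herm_self_fixed hF z, ← frobQ_apply hF, map_neg, frobQ_apply,
        herm_self_fixed hF w])
    set x := w + a • z with hx
    have hxx : hh x x = 0 := by
      rw [hx, herm_add_left, herm_add_right hF, herm_add_right hF, herm_smul_left, herm_smul_left,
        herm_smul_right hF, herm_smul_right hF, hwz0, hzw0, ← mul_assoc, ← pow_succ', ha,
        div_mul_cancel₀ _ hzz]
      ring
    have hxv : x ∉ Submodule.span F {v} := by
      intro hmem
      obtain ⟨e, he⟩ := Submodule.mem_span_singleton.mp hmem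
      have := congrArg (fun t => hh t w) he
      rw [hx] at this
      simp only [herm_smul_left, herm_add_left, hvw0, hzw0, mul_zero, add_zero] at this
      exact hww this.symm
    refine mk v x (hind x hxv) (hvmem x) ?_ hvv hxx ?_
    · rw [Submodule.mem_span_pair]
      refine ⟨c + a * c', μ', ?_⟩
      rw [hx, map_add, map_smul, hfw, hfz]
      module
    · rw [hx, herm_add_right hF, herm_smul_right hF, hvw0, hvz0, mul_zero, add_zero]

include hF in
/-- `PSU_4(q)` is covered by the conjugates of two proper subgroups. -/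
theorem psu_four_cover : TwoCover (Cfsg.PSU 4 F q) := by
  classical
  obtain ⟨l, hl⟩ := exists_norm_eq hF (μ := (-1 : F))
    (by rw [← frobQ_apply hF, map_neg, map_one])
  have hq := two_le_q hF
  have hl0 : l ≠ 0 := by
    intro h; rw [h, zero_pow (by omega)] at hl; exact neg_ne_zero.mpr one_ne_zero hl.symm
  have hlq : l * l ^ q = -1 := by rw [← pow_succ', hl]
  let a : Fin 4 → F := ![1, l, 0, 0]
  let b : Fin 4 → F := ![0, 0, 1, l]
  let v : Fin 4 → F := ![1, 0, l, 0]
  have hz : (0 : F) ^ q = 0 := zero_pow (by omega)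
  have haa : hh a a = 0 := by simp [Cfsg.hermForm, a, Fin.sum_univ_four, hlq, hz]
  have hbb : hh b b = 0 := by simp [Cfsg.hermForm, b, Fin.sum_univ_four, hlq, hz]
  have hab : hh a b = 0 := by simp [Cfsg.hermForm, a, b, Fin.sum_univ_four, hz]
  have hba : hh b a = 0 := by simp [Cfsg.hermForm, a, b, Fin.sum_univ_four, hz]
  have hvv : hh v v = 0 := by simp [Cfsg.hermForm, v, Fin.sum_univ_four, hlq, hz]
  have hav : hh a v = 1 := by simp [Cfsg.hermForm, a, v, Fin.sum_univ_four, hz]
  have hli : LinearIndependent F ![a, b] := by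
    rw [LinearIndependent.pair_iff]
    intro x y hxy
    exact ⟨by simpa [a, b] using congrFun hxy 0, by simpa [a, b] using congrFun hxy 2⟩
  set W : Submodule F (Fin 4 → F) := Submodule.span F {a, b} with hW
  have hW2 : Module.finrank F W = 2 := by
    have := finrank_span_eq_card hli
    rwa [Matrix.range_cons, Matrix.range_cons, Matrix.range_empty, Set.union_empty,
      Set.singleton_union, Fintype.card_fin] at this
  have hWiso : ∀ x ∈ W, ∀ y ∈ W, hh x y = 0 := by
    intro x hx y hy
    obtain ⟨s, t, rfl⟩ := Submodule.mem_span_pair.mp hx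
    obtain ⟨s', t', rfl⟩ := Submodule.mem_span_pair.mp hy
    simp only [herm_add_left, herm_add_right hF, herm_smul_left, herm_smul_right hF, haa, hbb,
      hab, hba, mul_zero, add_zero]
  refine twoCover_quotient _
    (H := (lineStab F 4 (e0 F 3)).subgroupOf (Cfsg.SU 4 F q)) (K := subStab W)
    (pointStab_ne_top hF (by norm_num)) ?_ (center_le_pointStab hF (by norm_num)) ?_ ?_
  · intro htop
    obtain ⟨t, ht⟩ := exists_su_moving hF v a hvv (by rw [hav]; exact one_ne_zero) W
      (Submodule.subset_span (Set.mem_insert _ _)) (fun hmem => by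
        obtain ⟨x, y, hxy⟩ := Submodule.mem_span_pair.mp hmem
        have h0 := congrFun hxy 0
        have h1 := congrFun hxy 1
        simp [a, b, v] at h0 h1
        rcases h1 with h1 | h1
        · exact one_ne_zero (h0.symm.trans h1)
        · exact hl0 h1)
    have hmem : t ∈ subStab (q := q) W := by rw [htop]; trivial
    have hmem' : W.map (lin t.1) = W := hmem
    exact ht (hmem' ▸ Submodule.mem_map_of_mem (Submodule.subset_span (Set.mem_insert _ _)))
  · intro z hz
    obtain ⟨c, hc0, hc⟩ := center_scalar hF (by norm_num) hz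
    show W.map (lin z.1) = W
    have : lin z.1 = c • LinearMap.id := LinearMap.ext hc
    rw [this]
    ext x
    simp only [Submodule.mem_map, LinearMap.smul_apply, LinearMap.id_apply]
    exact ⟨fun ⟨y, hy, e⟩ => e ▸ W.smul_mem c hy, fun hx => ⟨c⁻¹ • x, W.smul_mem _ hx, by
      rw [smul_smul, mul_inv_cancel₀ hc0, one_smul]⟩⟩
  · intro g
    rcases eigen_or_plane hF g with ⟨u, μ, hu, huu⟩ | ⟨U, hU2, hUiso, hUg⟩
    · obtain ⟨x, hx⟩ := conj_into_pointStab hF g hu huu
      exact ⟨x, Or.inl hx⟩
    · let bU := Module.finBasisOfFinrankEq F U hU2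
      let bW := Module.finBasisOfFinrankEq F W hW2
      obtain ⟨x, hx⟩ := exists_GU_family hF (fun i => (bU i : Fin 4 → F))
        (fun i => (bW i : Fin 4 → F))
        (bU.linearIndependent.map' U.subtype (Submodule.ker_subtype _))
        (bW.linearIndependent.map' W.subtype (Submodule.ker_subtype _))
        (fun i j => by rw [hUiso _ (bU i).2 _ (bU j).2, hWiso _ (bW i).2 _ (bW j).2])
      obtain ⟨d, hd, hddet⟩ := exists_stab_det hF (n := 4) (by norm_num)
        ⟨W, hW2, hWiso⟩ (u := (detGU 4 x)⁻¹)
        (by rw [inv_pow, inv_eq_one]; exact det_GU hF x.2)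
      obtain ⟨s, hs⟩ := exists_su (d * x) (by rw [map_mul, hddet, inv_mul_cancel])
      have hsU : U.map (lin s.1) = W := by
        refine Submodule.eq_of_le_of_finrank_eq ?_ ?_
        · rw [show U.map (lin s.1) =
              (Submodule.span F (Set.range fun i => (bU i : Fin 4 → F))).map (lin s.1) by
            rw [show (Submodule.span F (Set.range fun i => (bU i : Fin 4 → F))) = U by
              rw [show (fun i => (bU i : Fin 4 → F)) = U.subtype ∘ bU from rfl, Set.range_comp,
                ← Submodule.map_span, bU.span_eq, Submodule.map_top, Submodule.range_subtype]],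
            Submodule.map_span, Submodule.span_le]
          rintro _ ⟨_, ⟨i, rfl⟩, rfl⟩
          show lin s.1 (bU i : Fin 4 → F) ∈ W
          rw [hs, gu_mul_mulVec, hx]
          exact (hd (bW i : Fin 4 → F)).mp (bW i).2
        · rw [hW2, ← hU2]
          exact (Submodule.equivMapOfInjective _ ((su_isIso s).injective hF) U).finrank_eq.symm
      refine ⟨s, Or.inr ?_⟩
      show W.map (lin (s * g * s⁻¹).1) = W
      have e1 : lin (s * g * s⁻¹).1 = ((lin s.1).comp (lin g.1)).comp (lin s⁻¹.1) :=
        LinearMap.ext fun y => by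
          rw [Subgroup.coe_mul, Subgroup.coe_mul, lin_mul, lin_mul]; rfl
      have e2 : W.map (lin s⁻¹.1) = U := by
        rw [← hsU, ← Submodule.map_comp,
          show (lin s⁻¹.1).comp (lin s.1) = LinearMap.id from LinearMap.ext (lin_inv_apply s.1),
          Submodule.map_id]
      rw [e1, Submodule.map_comp, e2, Submodule.map_comp, hUg, hsU]

end CfsgLib.Cover5
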