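import Cfsg.Agent.Cover5.UnitaryFour

/-!
# Two subgroups covering `PSU_3` in characteristic three
-/

set_option autoImplicit false
set_option linter.unusedSectionVars false
set_option linter.unusedVariables false

namespace CfsgLib.Cover5

open Polynomial CfsgLib.Unitary CfsgLib.Forms

section model

variable {F : Type*} [Field F] [Finite F] {q : ℕ} (hF : Nat.card F = q ^ 2)
variable {E : Type*} [Field E] [Algebra F E] [FiniteDimensional F E]
variable (hE : Module.finrank F E = 3)

include hF hE in
theorem card_ext : Nat.card E = (q ^ 3) ^ 2 := by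
  rw [Module.natCard_eq_pow_finrank (K := F) (V := E), hF, hE]; ring

include hF hE in
/-- The trace intertwines the two involutions. -/
theorem trace_bar (x : E) :
    Algebra.trace F E (x ^ q ^ 3) = (Algebra.trace F E x) ^ q := by
  have : Finite E := Module.finite_of_finite F
  apply (algebraMap F E).injective
  obtain ⟨p, k, hp, hpp, hqk⟩ := exists_charP_pow hF
  haveI := Fact.mk hpp
  haveI : CharP E p := charP_of_injective_algebraMap (algebraMap F E).injective p
  have hadd : ∀ x y : E, (x + y) ^ q = x ^ q + y ^ q := fun x y => by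
    rw [hqk]; exact add_pow_char_pow x y p k
  have h6 : x ^ q ^ 6 = x := by
    haveI := Fintype.ofFinite E
    have := FiniteField.pow_card x
    rwa [Fintype.card_eq_nat_card, card_ext hF hE, show (q ^ 3) ^ 2 = q ^ 6 by ring] at this
  rw [map_pow (algebraMap F E), FiniteField.algebraMap_trace_eq_sum_pow, FiniteField.algebraMap_trace_eq_sum_pow, hE,
    hF]
  simp only [Finset.sum_range_succ, Finset.sum_range_zero, zero_add, pow_zero, pow_one, hadd,
    ← pow_mul]
  rw [show q ^ 3 * q ^ (2 * 2) = q ^ 6 * q by ring, pow_mul x (q ^ 6) q, h6]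
  ring_nf

include hF hE in
/-- An orthonormal coordinate system for `(x, y) ↦ Tr (x * y^(q^3))`. -/
theorem exists_model : ∃ ψ : E ≃ₗ[F] (Fin 3 → F), ∀ x y,
    Cfsg.hermForm 3 F q (ψ x) (ψ y) = Algebra.trace F E (x * y ^ q ^ 3) := by
  classical
  have : Finite E := Module.finite_of_finite F
  have hEc := card_ext hF hE
  have hadd : ∀ x y : E, (x + y) ^ q ^ 3 = x ^ q ^ 3 + y ^ q ^ 3 := fun x y => add_pow_q hEc x y
  have hsm : ∀ (c : F) (x : E), (c • x) ^ q ^ 3 = c ^ q • x ^ q ^ 3 := by
    intro c x
    rw [Algebra.smul_def, Algebra.smul_def, mul_pow, ← map_pow]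
    congr 2
    rw [show q ^ 3 = q * q * q by ring, pow_mul, pow_mul, pow_q_q hF]
  let B : E →ₛₗ[frobQ hF] E →ₗ[F] F :=
    LinearMap.mk₂'ₛₗ (frobQ hF) (RingHom.id F) (fun x y => Algebra.trace F E (y * x ^ q ^ 3))
      (fun a b c => by simp only [hadd, mul_add, map_add])
      (fun r a c => by
        simp only [hsm, Algebra.mul_smul_comm, map_smul, frobQ_apply, smul_eq_mul])
      (fun a b c => by simp only [add_mul, map_add])
      (fun r a c => by simp only [Algebra.smul_mul_assoc, map_smul, RingHom.id_apply, smul_eq_mul])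
  have hS : B.IsSymm := ⟨fun x y => by
    show (Algebra.trace F E (y * x ^ q ^ 3)) ^ q = Algebra.trace F E (x * y ^ q ^ 3)
    rw [← trace_bar hF hE, mul_pow, pow_q_q hEc, mul_comm]⟩
  have hB : B.Nondegenerate := by
    have h1 : ∀ x : E, (∀ y : E, B x y = 0) → x = 0 := by
      intro x hx
      have h2 : x ^ q ^ 3 = 0 := (traceForm_nondegenerate F E).1 _ fun y => by
        rw [Algebra.traceForm_apply, mul_comm]; exact hx y
      exact eq_zero_of_pow_eq_zero h2
    refine ⟨h1, fun y hy => h1 y fun x => ?_⟩
    rw [← hS.eq x y, hy x, map_zero]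
  obtain ⟨b, hb⟩ := exists_orthonormal_herm (frobQ_ne_id hF) (frobQ_invol hF)
    (fun a ha ha0 => finite_norm_surjective (frobQ_ne_id hF) (frobQ_invol hF) a ha ha0) 3 E B hS hB hE
  refine ⟨b.equivFun, fun x y => ?_⟩
  have h1 : B y x = ∑ i, b.equivFun x i * (b.equivFun y i) ^ q := by
    have key : ∀ j, B y (b j) = (b.repr y j) ^ q := by
      intro j
      conv_lhs => rw [← b.sum_repr y, map_sum, LinearMap.sum_apply]
      simp only [LinearMap.map_smulₛₗ, LinearMap.smul_apply, hb, frobQ_apply, smul_eq_mul,
        mul_ite, mul_one, mul_zero]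
      simp
    conv_lhs => rw [← b.sum_repr x, map_sum]
    simp only [map_smul, key, smul_eq_mul, Module.Basis.equivFun_apply]
  exact h1.symm

end model

section three

variable {F : Type*} [Field F] [Finite F] {q : ℕ} (hF : Nat.card F = q ^ 2)

local notation "hh" => Cfsg.hermForm 3 F q

include hF in
/-- The cube is bijective, so a scalar moves any unitary determinant to one. -/
theorem exists_su_scalar [CharP F 3] (x : Cfsg.GU 3 F q) :
    ∃ (s : Cfsg.SU 3 F q) (d : F), d ≠ 0 ∧
      ∀ v, lin s.1 v = d • (x.1 : Matrix (Fin 3) (Fin 3) F).mulVec v := by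
  haveI : Fact (Nat.Prime 3) := ⟨Nat.prime_three⟩
  obtain ⟨d, hd⟩ := (Finite.injective_iff_surjective.mp (frobenius_inj F 3))
    ((detGU 3 x)⁻¹ : Fˣ).val
  rw [frobenius_def] at hd
  have hd0 : d ≠ 0 := by
    intro h
    rw [h, zero_pow (by norm_num)] at hd
    exact Units.ne_zero _ hd.symm
  have hdq : d ^ (q + 1) = 1 := by
    apply frobenius_inj F 3
    rw [frobenius_def, frobenius_def, ← pow_mul, mul_comm, pow_mul, hd, one_pow,
      ← Units.val_pow_eq_pow_val, inv_pow,
      show (detGU 3 x) ^ (q + 1) = 1 from det_GU hF x.2, inv_one, Units.val_one]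
  have hdet : (d • (x.1 : Matrix (Fin 3) (Fin 3) F)).det = 1 := by
    rw [Matrix.det_smul, Fintype.card_fin, hd,
      show (x.1 : Matrix (Fin 3) (Fin 3) F).det = ((detGU 3 x : Fˣ) : F) from rfl,
      Units.inv_mul]
  refine ⟨⟨⟨_, hdet⟩, fun u v => ?_⟩, d, hd0, fun v => ?_⟩
  · show hh ((d • (x.1 : Matrix (Fin 3) (Fin 3) F)).mulVec u)
      ((d • (x.1 : Matrix (Fin 3) (Fin 3) F)).mulVec v) = _
    rw [Matrix.smul_mulVec, Matrix.smul_mulVec, herm_smul_left, herm_smul_right hF,
      mem_GU_iff.mp x.2, ← mul_assoc, ← pow_succ', hdq, one_mul]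
  · simp [lin, Matrix.toLin'_apply, Matrix.smul_mulVec]

variable {E : Type*} [Field E] [Algebra F E] [FiniteDimensional F E]

/-- The elements semilinear for a structure of `E`-line. -/
noncomputable def semiStab (ψ : E ≃ₗ[F] (Fin 3 → F)) : Subgroup (Cfsg.SU 3 F q) where
  carrier := {g | ∃ σ : E ≃+* E, ∀ x y : E,
    ψ.symm (lin g.1 (ψ (x * y))) = σ x * ψ.symm (lin g.1 (ψ y))}
  one_mem' := ⟨RingEquiv.refl E, fun x y => by simp [lin_one]⟩
  mul_mem' := by
    rintro a b ⟨σ, hσ⟩ ⟨τ, hτ⟩
    refine ⟨τ.trans σ, fun x y => ?_⟩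
    have h1 := hτ x y
    rw [LinearEquiv.symm_apply_eq] at h1
    rw [Subgroup.coe_mul, lin_mul, lin_mul, h1, hσ, LinearEquiv.apply_symm_apply]
    rfl
  inv_mem' := by
    rintro a ⟨σ, hσ⟩
    refine ⟨σ.symm, fun x y => ?_⟩
    have h1 := hσ (σ.symm x) (ψ.symm (lin a⁻¹.1 (ψ y)))
    rw [LinearEquiv.apply_symm_apply, RingEquiv.apply_symm_apply, Subgroup.coe_inv, lin_apply_inv,
      LinearEquiv.symm_apply_apply] at h1
    rw [Subgroup.coe_inv, ← h1, LinearEquiv.apply_symm_apply, lin_inv_apply,
      LinearEquiv.symm_apply_apply]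

include hF in
/-- The canonical basis of a regular unipotent isometry in dimension three. -/
theorem exists_canonical [CharP F 3] {u : Module.End F (Fin 3 → F)} (hu : IsIso q u)
    (h3 : (u - 1) ^ 3 = 0) (hne : (u - 1) ^ 2 ≠ 0) :
    ∃ x : Fin 3 → F, LinearIndependent F (fun i : Fin 3 => ((u - 1) ^ (i : ℕ)) x) ∧
      ∀ i j : Fin 3, hh (((u - 1) ^ (i : ℕ)) x) (((u - 1) ^ (j : ℕ)) x) =
        (!![0, -1, 1; -1, -1, 0; 1, 0, 0] : Matrix (Fin 3) (Fin 3) F) i j := by
  have three : (3 : F) = 0 := CharP.cast_eq_zero F 3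
  set N := u - 1 with hN
  have hu' : ∀ v, u v = N v + v := fun v => by simp [hN]
  have hstar : ∀ a b, hh (N a) (N b) + hh (N a) b + hh a (N b) = 0 := by
    intro a b
    have h := hu a b
    rw [hu', hu', herm_add_left, herm_add_right hF, herm_add_right hF] at h
    linear_combination h
  have hzero : ∀ a, hh a 0 = 0 := fun a => (uForm hF 3).zero_right a
  have hzero' : ∀ a, hh 0 a = 0 := fun a => (uForm hF 3).zero_left a
  have hN3 : ∀ v, N (N (N v)) = 0 := fun v => by
    have := LinearMap.congr_fun h3 v
    simpa [pow_succ, Module.End.mul_apply] using this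
  have hindep : ∀ x, N (N x) ≠ 0 → LinearIndependent F (fun i : Fin 3 => (N ^ (i : ℕ)) x) := by
    intro x hx
    rw [Fintype.linearIndependent_iff]
    intro c hc
    simp only [Fin.sum_univ_three, Fin.val_zero, Fin.val_one, Fin.val_two, pow_zero, pow_one,
      pow_two, Module.End.one_apply, Module.End.mul_apply] at hc
    have h1 := congrArg (fun v => N (N v)) hc
    simp only [map_add, map_smul, hN3, map_zero, smul_zero, add_zero] at h1
    have c0 : c 0 = 0 := (smul_eq_zero.mp h1).resolve_right hx
    have h2 := congrArg N hc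
    simp only [c0, zero_smul, zero_add, map_add, map_smul, hN3, smul_zero, add_zero,
      map_zero] at h2
    have c1 : c 1 = 0 := (smul_eq_zero.mp h2).resolve_right hx
    rw [c0, c1, zero_smul, zero_smul, zero_add, zero_add] at hc
    have c2 : c 2 = 0 := (smul_eq_zero.mp hc).resolve_right hx
    intro i; fin_cases i <;> assumption
  have hsw : ∀ a b, hh b a = (hh a b) ^ q := fun a b => herm_swap hF a b
  have g22 : ∀ x, hh (N (N x)) (N (N x)) = 0 := by
    intro x
    have := hstar (N x) (N (N x))
    rw [hN3, hzero, hzero] at this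
    linear_combination this
  have g12 : ∀ x, hh (N x) (N (N x)) = 0 := by
    intro x
    have := hstar x (N (N x))
    rw [hN3, hzero, hzero] at this
    linear_combination this
  have g11 : ∀ x, hh (N x) (N x) = -hh x (N (N x)) := by
    intro x
    have := hstar x (N x)
    rw [g12] at this
    linear_combination this
  have g01 : ∀ x, hh x (N x) + (hh x (N x)) ^ q = hh x (N (N x)) := by
    intro x
    have := hstar x x
    rw [g11, hsw x (N x)] at this
    linear_combination this
  have g21 : ∀ x, hh (N (N x)) (N x) = 0 := fun x => by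
    rw [hsw, g12, zero_pow (by have := two_le_q hF; omega)]
  obtain ⟨x₀, hx₀⟩ : ∃ x, N (N x) ≠ 0 := by
    by_contra h
    push Not at h
    exact hne (LinearMap.ext fun v => by simpa [pow_two, Module.End.mul_apply] using h v)
  set A := hh x₀ (N (N x₀)) with hA
  have hA0 : A ≠ 0 := by
    intro h0
    apply hx₀
    apply uForm_nondeg hF 3
    intro v
    have hv : v ∈ Submodule.span F (Set.range fun i : Fin 3 => (N ^ (i : ℕ)) x₀) := by
      rw [(hindep x₀ hx₀).span_eq_top_of_card_eq_finrank (by simp)]; trivial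
    rw [uForm_h]
    induction hv using Submodule.span_induction with
    | mem y hy =>
      obtain ⟨i, rfl⟩ := hy
      fin_cases i <;> simp [pow_two, Module.End.mul_apply]
      · exact h0
      · exact g12 x₀
      · exact g22 x₀
    | zero => exact hzero' _
    | add a b _ _ iha ihb => rw [herm_add_left, iha, ihb, add_zero]
    | smul a b _ ihb => rw [herm_smul_left, ihb, mul_zero]
  have hAq : A ^ q = A := by
    rw [← neg_neg A, hA, ← g11]
    rw [← frobQ_apply hF, map_neg, frobQ_apply, herm_self_fixed hF]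
  obtain ⟨s, hs⟩ := exists_norm_eq hF (μ := A⁻¹) (by rw [inv_pow, hAq])
  obtain ⟨x₁, hx₁⟩ : ∃ x₁, x₁ = s • x₀ := ⟨_, rfl⟩
  have hA1 : hh x₁ (N (N x₁)) = 1 := by
    rw [hx₁, map_smul, map_smul, herm_smul_left, herm_smul_right hF, ← mul_assoc, ← pow_succ', hs,
      ← hA, inv_mul_cancel₀ hA0]
  obtain ⟨t, ht⟩ : ∃ t, t = -1 - hh x₁ (N x₁) := ⟨_, rfl⟩
  have htq : t ^ q = -t := by
    have h := g01 x₁
    rw [hA1] at h
    rw [ht, ← frobQ_apply hF, map_sub, map_neg, map_one, frobQ_apply]
    linear_combination -h - three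
  obtain ⟨x₂, hx₂⟩ : ∃ x₂, x₂ = x₁ + t • N x₁ := ⟨_, rfl⟩
  have hA2 : hh x₂ (N (N x₂)) = 1 := by
    rw [hx₂, map_add, map_add, map_smul, map_smul, hN3, smul_zero, add_zero, herm_add_left,
      herm_smul_left, g12, mul_zero, add_zero, hA1]
  have hB2 : hh x₂ (N x₂) = -1 := by
    rw [hx₂, map_add, map_smul, herm_add_left, herm_add_right hF, herm_add_right hF, herm_smul_left,
      herm_smul_left, herm_smul_right hF, herm_smul_right hF, g12, g11, hA1, htq]
    linear_combination (-2 : F) * ht + (hh x₁ (N x₁) + 1) * three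
  obtain ⟨r, hr⟩ := exists_trace_eq hF (μ := -hh x₂ x₂) (by
    rw [← frobQ_apply hF, map_neg, frobQ_apply, herm_self_fixed hF])
  obtain ⟨x, hx⟩ : ∃ x, x = x₂ + r • N (N x₂) := ⟨_, rfl⟩
  have hNx : N x = N x₂ := by rw [hx, map_add, map_smul, hN3, smul_zero, add_zero]
  have h20 : hh (N (N x₂)) x₂ = 1 := by rw [hsw, hA2, one_pow]
  have e02 : hh x (N (N x)) = 1 := by
    rw [hNx, hx, herm_add_left, herm_smul_left, g22, mul_zero, add_zero, hA2]
  have e01 : hh x (N x) = -1 := by
    rw [hNx, hx, herm_add_left, herm_smul_left, g21, mul_zero, add_zero, hB2]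
  have e00 : hh x x = 0 := by
    rw [hx, herm_add_left, herm_add_right hF, herm_add_right hF, herm_smul_left, herm_smul_left,
      herm_smul_right hF, herm_smul_right hF, g22, hA2, h20]
    linear_combination hr
  have e11 : hh (N x) (N x) = -1 := by rw [g11, e02]
  have e10 : hh (N x) x = -1 := by
    rw [hsw, e01, ← frobQ_apply hF, map_neg, map_one]
  have e20 : hh (N (N x)) x = 1 := by rw [hsw, e02, one_pow]
  refine ⟨x, hindep x (fun h => by rw [h, hzero] at e02; exact zero_ne_one e02), fun i j => ?_⟩
  fin_cases i <;> fin_cases j <;>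
    simp [pow_two, Module.End.mul_apply, e00, e01, e02, e10, e11, e20, g12, g21, g22]

include hF in
/-- In dimension three: a non-isotropic eigenvector, or an irreducible cubic, or regular unipotent. -/
theorem three_cases [CharP F 3] (g : Cfsg.SU 3 F q) :
    (∃ (v : Fin 3 → F) (μ : F), lin g.1 v = μ • v ∧ hh v v ≠ 0) ∨
      (∃ p : F[X], Irreducible p ∧ p.natDegree = 3 ∧ p ∣ minpoly F (lin g.1)) ∨
      ((lin g.1 - 1) ^ 3 = 0 ∧ (lin g.1 - 1) ^ 2 ≠ 0) := by
  classical
  set f := lin g.1 with hf
  have hg : IsIso q f := su_isIso g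
  have hinj : Function.Injective f := hg.injective hF
  by_cases hH : ∃ (v : Fin 3 → F) (μ : F), f v = μ • v ∧ hh v v ≠ 0
  · exact Or.inl hH
  push Not at hH
  right
  have hdeg3 : ∀ p : F[X], p ∣ minpoly F f → p ≠ 0 → p.natDegree ≤ 3 := by
    intro p hpd hp0
    refine (natDegree_le_of_dvd (hpd.trans (LinearMap.minpoly_dvd_charpoly f))
      (LinearMap.charpoly_monic f).ne_zero).trans ?_
    rw [LinearMap.charpoly_natDegree, Module.finrank_fin_fun]
  by_cases hbig : ∃ p : F[X], Irreducible p ∧ p ∣ minpoly F f ∧ p.natDegree ≠ 1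
  · left
    obtain ⟨p, hp, hpd, hp1⟩ := hbig
    have hpos := hp.natDegree_pos
    have h3 := hdeg3 p hpd hp.ne_zero
    refine ⟨p, hp, ?_, hpd⟩
    rcases hg.isotropic_or_selfconj.{_, 0} hF hp hpd with hTI | ⟨hodd, -⟩
    · exfalso
      obtain ⟨u, hu, hu0⟩ := Submodule.exists_mem_ne_zero_of_ne_bot (kerPoly_ne_bot f hp hpd)
      have hli : LinearIndependent F (![⟨u, hu⟩, ⟨f u, kerPoly_invariant f p hu⟩] :
          Fin 2 → kerPoly f p) := by
        rw [LinearIndependent.pair_iff' (fun h => hu0 (congrArg Subtype.val h))]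
        intro a ha
        have ha' : a • u = f u := congrArg Subtype.val ha
        have hev : f.HasEigenvector a u := ⟨Module.End.mem_eigenspace_iff.mpr ha'.symm, hu0⟩
        have hpu : aeval f p u = 0 := hu
        rw [Module.End.aeval_apply_of_hasEigenvector hev] at hpu
        have := degree_eq_one_of_irreducible_of_root hp ((smul_eq_zero.mp hpu).resolve_right hu0)
        rw [degree_eq_natDegree hp.ne_zero] at this
        exact hp1 (by exact_mod_cast this)
      have h1 := hli.fintype_card_le_finrank
      have h2 := two_mul_finrank_le hF (kerPoly f p) hTI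
      rw [Fintype.card_fin] at h1
      omega
    · rcases hodd with ⟨k, hk⟩; omega
  right
  push Not at hbig
  have hlin := hbig
  have hTI2 : ∀ a b : Fin 3 → F, hh a a = 0 → hh b b = 0 → hh a b = 0 → a ≠ 0 →
      b ∈ Submodule.span F {a} := by
    intro a b haa hbb hab ha
    by_contra hb
    have hba : hh b a = 0 := (uForm hF 3).eq_zero_comm.mp hab
    have hli : LinearIndependent F ![a, b] := by
      rw [LinearIndependent.pair_iff' ha]
      exact fun c hc => hb (Submodule.mem_span_singleton.mpr ⟨c, hc⟩)
    have h1 := finrank_span_eq_card hli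
    have h2 := two_mul_finrank_le hF (Submodule.span F (Set.range ![a, b])) (by
      intro u hu v hv
      rw [Matrix.range_cons, Matrix.range_cons, Matrix.range_empty, Set.union_empty,
        Set.singleton_union] at hu hv
      obtain ⟨x, y, rfl⟩ := Submodule.mem_span_pair.mp hu
      obtain ⟨x', y', rfl⟩ := Submodule.mem_span_pair.mp hv
      simp only [herm_add_left, herm_add_right hF, herm_smul_left, herm_smul_right hF, haa, hbb,
        hab, hba, mul_zero, add_zero])
    rw [h1, Fintype.card_fin] at h2
    omega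
  obtain ⟨v, lam, hv0, hfv⟩ : ∃ (v : Fin 3 → F) (lam : F), v ≠ 0 ∧ f v = lam • v := by
    obtain ⟨p, hp, hpd⟩ := WfDvdMonoid.exists_irreducible_factor
      (minpoly.not_isUnit F f) (minpoly.ne_zero (Algebra.IsIntegral.isIntegral f))
    obtain ⟨μ, hμ⟩ := exists_root_of_degree_eq_one (p := p)
      (by rw [degree_eq_natDegree hp.ne_zero, hlin p hp hpd]; rfl)
    obtain ⟨w, hw, hw0⟩ :=
      (Module.End.hasEigenvalue_of_isRoot (hμ.dvd hpd)).exists_hasEigenvector
    exact ⟨w, μ, hw0, Module.End.mem_eigenspace_iff.mp hw⟩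
  have hlam : lam ≠ 0 := fun h => hv0 (hinj (by rw [hfv, h, zero_smul, map_zero]))
  have hvv := hH v lam hfv
  let φ : (Fin 3 → F) →ₗ[F] F :=
    { toFun := fun x => hh x v
      map_add' := fun x y => herm_add_left _ x y v
      map_smul' := fun c x => herm_smul_left _ c x v }
  set P : Submodule F (Fin 3 → F) := LinearMap.ker φ with hP
  have hPinv : ∀ x ∈ P, f x ∈ P := by
    intro x hx
    have hx0 : hh x v = 0 := hx
    have : hh (f x) (f v) = 0 := by rw [hg, hx0]
    rw [hfv, herm_smul_right hF] at this
    exact (mul_eq_zero.mp this).resolve_left (pow_ne_zero _ hlam)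
  have hPtop : P ≠ ⊤ := by
    intro h
    apply hv0
    apply uForm_nondeg hF 3
    intro u
    have : u ∈ P := by rw [h]; trivial
    exact this
  have hPdim : Module.finrank F P = 2 := by
    have h1 := φ.finrank_range_add_finrank_ker
    have h3 : Module.finrank F (LinearMap.range φ) ≤ 1 :=
      (Submodule.finrank_le _).trans_eq (Module.finrank_self F)
    have h4 := Submodule.finrank_lt hPtop
    rw [Module.finrank_fin_fun] at h1 h4
    rw [← hP] at h1
    omega
  have hline : Module.finrank F (Submodule.span F {v}) = 1 := finrank_span_singleton hv0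
  obtain ⟨y, hy, hyv⟩ : ∃ y ∈ P, y ∉ Submodule.span F {v} := by
    by_contra h
    push Not at h
    have := Submodule.finrank_mono (show P ≤ Submodule.span F {v} from h)
    omega
  obtain ⟨w, hwP, hwv, μ, c, hfw⟩ := exists_sub_mem f hlin P hPinv hy hyv
  have hwv0 : hh w v = 0 := hwP
  have hvw0 : hh v w = 0 := (uForm hF 3).eq_zero_comm.mp hwv0
  have hww : hh w w ≠ 0 := fun h => hwv (hTI2 v w hvv h hvw0 hv0)
  have hμ : μ = lam := by
    by_contra hne
    have hne' : μ - lam ≠ 0 := sub_ne_zero.mpr hne
    apply hww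
    have h1 : f (w + (c / (μ - lam)) • v) = μ • (w + (c / (μ - lam)) • v) := by
      rw [map_add, map_smul, hfv, hfw]
      match_scalars <;> field_simp <;> ring
    have h2 := hH _ _ h1
    simpa [herm_add_left, herm_add_right hF, herm_smul_left, herm_smul_right hF, hwv0, hvw0,
      hvv] using h2
  subst hμ
  have hnorm : μ * μ ^ q = 1 := by
    have h := hg w w
    rw [hfw] at h
    simp only [herm_add_left, herm_add_right hF, herm_smul_left, herm_smul_right hF, hwv0, hvw0,
      hvv, mul_zero, add_zero] at h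
    exact mul_right_cancel₀ hww (by linear_combination h)
  -- `(f - μ) V ⊆ P`, `(f - μ) P ⊆ ⟨v⟩`
  have hVP : ∀ x, f x - μ • x ∈ P := by
    intro x
    show hh (f x - μ • x) v = 0
    have h := hg x v
    rw [hfv, herm_smul_right hF] at h
    rw [herm_sub_left hF, herm_smul_left]
    linear_combination μ * h - hh (f x) v * hnorm
  have hspan : P = Submodule.span F {v, w} := by
    have hli : LinearIndependent F ![v, w] := by
      rw [LinearIndependent.pair_iff' hv0]
      exact fun a ha => hwv (Submodule.mem_span_singleton.mpr ⟨a, ha⟩)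
    refine (Submodule.eq_of_le_of_finrank_eq ?_ ?_).symm
    · rw [Submodule.span_le]
      rintro x (rfl | rfl)
      · exact hvv
      · exact hwv0
    · have := finrank_span_eq_card hli
      rw [Matrix.range_cons, Matrix.range_cons, Matrix.range_empty, Set.union_empty,
        Set.singleton_union, Fintype.card_fin] at this
      rw [this, hPdim]
  set D := f - μ • (1 : Module.End F (Fin 3 → F)) with hD
  have hD3 : D ^ 3 = 0 := by
    refine LinearMap.ext fun x => ?_
    obtain ⟨a, b, hab⟩ := Submodule.mem_span_pair.mp (hspan ▸ hVP x)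
    have h1 : D x = a • v + b • w := by rw [hab]; rfl
    have hDv : D v = 0 := by simp [hD, hfv]
    have hDw : D w = c • v := by simp [hD, hfw]
    show (D ^ 3) x = 0
    simp [pow_succ, Module.End.mul_apply, h1, hDv, hDw]
  haveI : Fact (Nat.Prime 3) := ⟨Nat.prime_three⟩
  haveI : CharP (Module.End F (Fin 3 → F)) 3 :=
    charP_of_injective_algebraMap (algebraMap F _).injective 3
  have hμ1 : μ = 1 := by
    have hc : Commute f (μ • (1 : Module.End F (Fin 3 → F))) := (Commute.one_right f).smul_right μ
    rw [hD, sub_pow_char_of_commute (p := 3) hc, sub_eq_zero, _root_.smul_pow, one_pow] at hD3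
    have h := congrArg LinearMap.det hD3
    rw [map_pow, LinearMap.det_smul, map_one, Module.finrank_fin_fun, mul_one,
      show LinearMap.det f = 1 by rw [hf, lin, LinearMap.det_toLin']; exact g.1.2, one_pow] at h
    apply frobenius_inj F 3
    apply frobenius_inj F 3
    rw [frobenius_def, frobenius_def, frobenius_def, frobenius_def, one_pow, one_pow]
    exact h.symm
  subst hμ1
  rw [hD, one_smul] at hD3
  refine ⟨hD3, fun h2 => ?_⟩
  -- otherwise the fixed space has a non-isotropic vector
  set N := f - 1 with hN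
  have hrk : LinearMap.range N ≤ LinearMap.ker N := by
    rintro _ ⟨x, rfl⟩
    rw [LinearMap.mem_ker]
    have := LinearMap.congr_fun h2 x
    simpa [pow_two, Module.End.mul_apply] using this
  have hk2 : 2 ≤ Module.finrank F (LinearMap.ker N) := by
    have h1 := N.finrank_range_add_finrank_ker
    have h3 := Submodule.finrank_mono hrk
    rw [Module.finrank_fin_fun] at h1
    omega
  obtain ⟨z, hz, hzv⟩ : ∃ z ∈ LinearMap.ker N, z ∉ Submodule.span F {v} := by
    by_contra h
    push Not at h
    have := Submodule.finrank_mono (show LinearMap.ker N ≤ Submodule.span F {v} from h)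
    omega
  have hfz : f z = z := by
    have : N z = 0 := hz
    simpa [hN, sub_eq_zero] using this
  have hzz : hh z z = 0 := hH z 1 (by rw [hfz, one_smul])
  have hfv' : f v = v := by rw [hfv, one_smul]
  -- `z + a • v` is again fixed, hence isotropic
  have hvz : hh v z = 0 := by
    by_contra hne
    obtain ⟨a, ha⟩ := exists_trace_eq hF (μ := (1 : F)) (one_pow q)
    have := hH (z + (a * (hh v z)⁻¹) • v) 1 (by rw [map_add, map_smul, hfz, hfv', one_smul])
    rw [herm_add_left, herm_add_right hF, herm_add_right hF, herm_smul_left, herm_smul_left,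
      herm_smul_right hF, herm_smul_right hF, hzz, hvv, herm_swap hF v z, ← mul_pow,
      inv_mul_cancel_right₀ hne] at this
    exact one_ne_zero (by linear_combination this - ha)
  exact hzv (hTI2 v z hvv hzz hvz hv0)

include hF in
/-- `PSU_3(q)`, `q` a power of three, is covered by the conjugates of two proper subgroups. -/
theorem psu_three_cover [CharP F 3] : TwoCover (Cfsg.PSU 3 F q) := by
  classical
  haveI : Fact (Nat.Prime 3) := ⟨Nat.prime_three⟩
  let E := FiniteField.Extension F 3 3
  have hE : Module.finrank F E = 3 := FiniteField.finrank_extension F 3 3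
  have : Finite E := Module.finite_of_finite F
  haveI : CharP E 3 := charP_of_injective_algebraMap (algebraMap F E).injective 3
  obtain ⟨ψ, hψ⟩ := exists_model hF hE
  have hEc := card_ext hF hE
  have hq2 := two_le_q hF
  have htq : ∀ x : E, Algebra.trace F E (x ^ q ^ 2) = Algebra.trace F E x := by
    intro x
    haveI := Fintype.ofFinite F
    rw [← hF, ← Fintype.card_eq_nat_card]
    exact Algebra.trace_eq_of_algEquiv (FiniteField.frobeniusAlgEquivOfAlgebraic F E) x
  refine twoCover_quotient _
    (H := (lineStab F 3 (e0 F 2)).subgroupOf (Cfsg.SU 3 F q)) (K := semiStab ψ)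
    (pointStab_ne_top hF (by norm_num)) ?_ (center_le_pointStab hF (by norm_num)) ?_ ?_
  · -- a transvection is not semilinear
    intro htop
    obtain ⟨l, hl⟩ := exists_norm_eq hF (μ := (-1 : F))
      (by rw [← frobQ_apply hF, map_neg, map_one])
    let v : Fin 3 → F := ![1, l, 0]
    have hz : (0 : F) ^ q = 0 := zero_pow (by omega)
    have hlq : l * l ^ q = -1 := by rw [← pow_succ', hl]
    have hvv : hh v v = 0 := by simp [Cfsg.hermForm, v, Fin.sum_univ_three, hlq, hz]
    have hev : hh (e0 F 2) v = 1 := by simp [herm_single_left, v]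
    obtain ⟨t, ht⟩ := exists_su_moving hF v (e0 F 2) hvv (by rw [hev]; exact one_ne_zero)
      (Submodule.span F {e0 F 2}) (Submodule.mem_span_singleton_self _) (fun hmem => by
        obtain ⟨a, ha⟩ := Submodule.mem_span_singleton.mp hmem
        have := congrFun ha 1
        simp [v, e0] at this
        rw [← this, zero_pow (by omega)] at hl
        exact neg_ne_zero.mpr one_ne_zero hl.symm)
    obtain ⟨a₀, ha₀⟩ : ∃ a : F, a ^ q ≠ a := by
      by_contra h
      push Not at h
      exact frobQ_ne_id hF (RingHom.ext fun a => h a)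
    set c := a₀ ^ q - a₀ with hc
    have hc0 : c ≠ 0 := sub_ne_zero.mpr ha₀
    have hcc : c + c ^ q = 0 := by
      rw [hc, show (a₀ ^ q - a₀) ^ q = (a₀ ^ q) ^ q - a₀ ^ q from map_sub (frobQ hF) _ _,
        pow_q_q hF]
      ring
    set T := suTv 3 v c hvv hcc hF with hT
    have hmem : T ∈ semiStab (q := q) ψ := by rw [htop]; trivial
    obtain ⟨σ, hσ⟩ := hmem
    have hTx : ∀ x, lin T.1 x = x + (c * hh x v) • v := fun x => by
      rw [show lin T.1 x = (Cfsg.unitaryTransvection 3 q v c).mulVec x from rfl, utv_mulVec]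
    let φ : E →ₗ[F] F :=
      { toFun := fun x => hh (ψ x) v
        map_add' := fun x y => by rw [map_add]; exact herm_add_left _ _ _ v
        map_smul' := fun a x => by rw [map_smul]; exact herm_smul_left _ a _ v }
    have hfix : ∀ x, φ x = 0 → ψ.symm (lin T.1 (ψ x)) = x := by
      intro x hx
      rw [hTx, show hh (ψ x) v = 0 from hx, mul_zero, zero_smul, add_zero,
        LinearEquiv.symm_apply_apply]
    have hker : 2 ≤ Module.finrank F (LinearMap.ker φ) := by
      have h1 := φ.finrank_range_add_finrank_ker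
      have h3 : Module.finrank F (LinearMap.range φ) ≤ 1 :=
        (Submodule.finrank_le _).trans_eq (Module.finrank_self F)
      rw [hE] at h1
      omega
    obtain ⟨y, hy, hy0⟩ := Submodule.exists_mem_ne_zero_of_ne_bot
      (p := LinearMap.ker φ) (fun h => by rw [h, finrank_bot] at hker; omega)
    let S : Subfield E := σ.toRingHom.eqLocusField (RingHom.id E)
    have hS : ∀ x ∈ LinearMap.ker φ, x * y⁻¹ ∈ S := by
      intro x hx
      have h1 := hσ (x * y⁻¹) y
      rw [mul_assoc, inv_mul_cancel₀ hy0, mul_one, hfix x hx, hfix y hy] at h1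
      show σ (x * y⁻¹) = x * y⁻¹
      rw [eq_mul_inv_iff_mul_eq₀ hy0]; exact h1.symm
    have hcard : q ^ 4 ≤ Nat.card S := by
      have h1 : Nat.card (LinearMap.ker φ) ≤ Nat.card S :=
        Nat.card_le_card_of_injective (fun x => (⟨x.1 * y⁻¹, hS x.1 x.2⟩ : S)) fun a b h =>
          Subtype.ext (mul_right_cancel₀ (inv_ne_zero hy0) (congrArg Subtype.val h))
      refine le_trans ?_ h1
      rw [Module.natCard_eq_pow_finrank (K := F), hF, show q ^ 4 = (q ^ 2) ^ 2 by ring]
      exact Nat.pow_le_pow_right (by positivity) hker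
    have hall : ∀ x, σ x = x := by
      have h1 : Module.finrank S E = 1 := by
        have h2 := Module.natCard_eq_pow_finrank (K := S) (V := E)
        rw [hEc] at h2
        rcases Nat.lt_or_ge (Module.finrank S E) 2 with h | h
        · have := Module.finrank_pos (R := S) (M := E); omega
        · have h3 : (q ^ 4) ^ 2 ≤ Nat.card S ^ Module.finrank S E :=
            le_trans (Nat.pow_le_pow_left hcard 2)
              (Nat.pow_le_pow_right Nat.card_pos h)
          rw [← h2, ← pow_mul, ← pow_mul] at h3
          exact absurd h3 (Nat.not_le.mpr (Nat.pow_lt_pow_right (by omega) (by omega)))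
      intro x
      obtain ⟨a, ha⟩ := (finrank_eq_one_iff_of_nonzero' (1 : E) one_ne_zero).mp h1 x
      rw [← ha, Subfield.smul_def, smul_eq_mul, mul_one]
      exact a.2
    apply hc0
    have hfixall : lin T.1 (e0 F 2) = e0 F 2 := by
      have h1 := hσ (ψ.symm (e0 F 2) * y⁻¹) y
      rw [mul_assoc, inv_mul_cancel₀ hy0, mul_one, hfix y hy, hall, mul_assoc,
        inv_mul_cancel₀ hy0, mul_one, LinearEquiv.apply_symm_apply] at h1
      exact ψ.symm.injective h1
    rw [hTx, hev, mul_one] at hfixall
    have := congrFun hfixall 0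
    simpa [v, e0] using this
  · intro z hz
    obtain ⟨a, ha0, ha⟩ := center_scalar hF (by norm_num) hz
    refine ⟨RingEquiv.refl E, fun x y => ?_⟩
    simp [ha]
  · intro g
    rcases three_cases hF g with ⟨v, μ, hv, hvv⟩ | ⟨p, hp, hp3, hpd⟩ | ⟨h3, hne⟩
    · obtain ⟨x, hx⟩ := conj_into_pointStab hF g hv hvv
      exact ⟨x, Or.inl hx⟩
    · -- irreducible cubic
      set f := lin g.1 with hf
      have hg : IsIso q f := su_isIso g
      haveI := Fact.mk hp
      let pb := AdjoinRoot.powerBasis hp.ne_zero
      haveI : FiniteDimensional F (AdjoinRoot p) := pb.finite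
      have hpd' : Module.finrank F (AdjoinRoot p) = 3 := by
        rw [pb.finrank, AdjoinRoot.powerBasis_dim, hp3]
      haveI : Finite (AdjoinRoot p) := Module.finite_of_finite F
      obtain ⟨e⟩ : Nonempty (AdjoinRoot p →ₐ[F] E) :=
        FiniteField.nonempty_algHom_of_finrank_dvd (by rw [hpd', hE])
      have hebij : Function.Bijective e :=
        ⟨RingHom.injective e.toRingHom, (LinearMap.injective_iff_surjective_of_finrank_eq_finrank
          (f := e.toLinearMap) (by rw [hpd', hE])).mp (RingHom.injective e.toRingHom)⟩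
      let ee := AlgEquiv.ofBijective e hebij
      set a := ee (AdjoinRoot.root p) with ha
      have hpa : aeval a p = 0 := by
        rw [ha, aeval_algHom_apply, AdjoinRoot.aeval_eq, AdjoinRoot.mk_self, map_zero]
      have hfp : aeval f p = 0 := by
        obtain ⟨r, hr⟩ := hpd
        have hm := minpoly.monic (A := F) (Algebra.IsIntegral.isIntegral f)
        have hr0 : r ≠ 0 := right_ne_zero_of_mul (hr ▸ hm.ne_zero)
        have hle : (minpoly F f).natDegree ≤ 3 := by
          refine (natDegree_le_of_dvd (LinearMap.minpoly_dvd_charpoly f)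
            (LinearMap.charpoly_monic f).ne_zero).trans ?_
          rw [LinearMap.charpoly_natDegree, Module.finrank_fin_fun]
        rw [hr, natDegree_mul hp.ne_zero hr0, hp3] at hle
        obtain ⟨b, hb⟩ := natDegree_eq_zero.mp (show r.natDegree = 0 by omega)
        have h0 := minpoly.aeval F f
        rw [hr, ← hb, map_mul, aeval_C] at h0
        have hb0 : b ≠ 0 := fun h => hr0 (by rw [← hb, h, map_zero])
        calc aeval f p = (aeval f p * algebraMap F _ b) * algebraMap F _ b⁻¹ := by
              rw [mul_assoc, ← map_mul, mul_inv_cancel₀ hb0, map_one, mul_one]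
          _ = 0 := by rw [h0, zero_mul]
      rcases hg.isotropic_or_selfconj.{_, 0} hF hp hpd with hTI | ⟨-, hconj⟩
      · exfalso
        have h2 := two_mul_finrank_le hF (kerPoly f p) hTI
        rw [show kerPoly f p = ⊤ by rw [kerPoly, hfp, LinearMap.ker_zero], finrank_top,
          Module.finrank_fin_fun] at h2
        omega
      have hainv : a⁻¹ = a ^ q ^ 3 := by
        have := hconj E a (by rw [hE, hp3]) hpa
        rwa [hp3] at this
      let T₀ : AdjoinRoot p →ₐ[F] Module.End F (Fin 3 → F) :=
        Ideal.Quotient.liftₐ (Ideal.span {p}) (aeval f) (fun s hs => by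
          obtain ⟨b, rfl⟩ := Ideal.mem_span_singleton.mp hs
          rw [map_mul, hfp, zero_mul])
      let T : E →ₐ[F] Module.End F (Fin 3 → F) := T₀.comp ee.symm.toAlgHom
      have hTa : T a = f := by
        show T₀ (ee.symm a) = f
        rw [ha, AlgEquiv.symm_apply_apply]
        show aeval f (X : F[X]) = f
        exact aeval_X f
      have ha0 : a ≠ 0 := fun h => hp.ne_zero (by
        have h1 := AdjoinRoot.root p
        exfalso
        rw [ha, map_eq_zero_iff _ ee.injective] at h
        have h2 : T₀ (AdjoinRoot.root p) = f := by show aeval f (X : F[X]) = f; exact aeval_X f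
        rw [h, map_zero] at h2
        have h3 := hg (Pi.single 0 1) (Pi.single 0 1)
        rw [← h2, LinearMap.zero_apply, herm_single_single, one_pow, mul_one] at h3
        exact zero_ne_one (((uForm hF 3).zero_left _).symm.trans h3))
      -- adjointness
      have hadj : ∀ (z : E) (u w : Fin 3 → F), hh (T z u) w = hh u (T (z ^ q ^ 3) w) := by
        have hbase : ∀ u w, hh (T a u) w = hh u (T (a ^ q ^ 3) w) := by
          intro u w
          rw [← hainv]
          conv_lhs => rw [show w = T a (T a⁻¹ w) by
            rw [← Module.End.mul_apply, ← map_mul, mul_inv_cancel₀ ha0, map_one]; rfl]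
          rw [hTa, hg]
        have hpowq : ∀ x y : E, (x + y) ^ q ^ 3 = x ^ q ^ 3 + y ^ q ^ 3 := add_pow_q hEc
        intro z
        obtain ⟨z', rfl⟩ := ee.surjective z
        obtain ⟨r, rfl⟩ := AdjoinRoot.mk_surjective z'
        induction r using Polynomial.induction_on with
        | C b =>
          intro u w
          rw [AdjoinRoot.mk_C, ← AdjoinRoot.algebraMap_eq, AlgEquiv.commutes, ← map_pow,
            AlgHom.commutes, AlgHom.commutes, Module.algebraMap_end_apply,
            Module.algebraMap_end_apply, herm_smul_left, herm_smul_right hF,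
            show (b ^ q ^ 3) ^ q = b by
              rw [show q ^ 3 = q * q * q by ring, pow_mul, pow_mul, pow_q_q hF, pow_q_q hF]]
        | add r s ihr ihs =>
          intro u w
          rw [map_add, map_add, map_add, LinearMap.add_apply, herm_add_left, hpowq, map_add,
            LinearMap.add_apply, herm_add_right hF, ihr, ihs]
        | monomial i b ih =>
          intro u w
          rw [show C b * X ^ (i + 1) = C b * X ^ i * X by rw [pow_succ, mul_assoc], map_mul,
            map_mul, AdjoinRoot.mk_X, ← ha, mul_pow, map_mul, Module.End.mul_apply, ih, hbase,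
            ← Module.End.mul_apply, ← map_mul, mul_comm]
      set u : Fin 3 → F := Pi.single 0 1 with hu
      have hu0 : u ≠ 0 := by simp [hu]
      let M : E →ₗ[F] (Fin 3 → F) := (LinearMap.applyₗ u).comp T.toLinearMap
      have hMinj : Function.Injective M := by
        rw [injective_iff_map_eq_zero]
        intro z hz
        by_contra hz0
        apply hu0
        calc u = T (z⁻¹ * z) u := by rw [inv_mul_cancel₀ hz0, map_one]; rfl
          _ = 0 := by rw [map_mul, Module.End.mul_apply, show T z u = 0 from hz, map_zero]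
      let Me : E ≃ₗ[F] (Fin 3 → F) :=
        M.linearEquivOfInjective hMinj (by rw [hE, Module.finrank_fin_fun])
      let L : E →ₗ[F] F :=
        { toFun := fun z => hh (M z) u
          map_add' := fun x y => by rw [map_add]; exact herm_add_left _ _ _ u
          map_smul' := fun b x => by rw [map_smul]; exact herm_smul_left _ b _ u }
      set c := (Algebra.traceForm F E).toDual (traceForm_nondegenerate F E) |>.symm L with hc
      have hL : ∀ z, hh (M z) u = Algebra.trace F E (c * z) := fun z =>
        (LinearMap.BilinForm.apply_toDual_symm_apply (B := Algebra.traceForm F E)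
          (hB := traceForm_nondegenerate F E) L z).symm
      have hMh : ∀ x y, hh (M x) (M y) = Algebra.trace F E (c * (x * y ^ q ^ 3)) := by
        intro x y
        rw [← hL]
        show hh (T x u) (T y u) = hh (T (x * y ^ q ^ 3) u) u
        rw [mul_comm, map_mul, Module.End.mul_apply]
        conv_lhs => rw [show y = (y ^ q ^ 3) ^ q ^ 3 from (pow_q_q hEc y).symm]
        rw [← hadj]
      have hc0 : c ≠ 0 := by
        intro h
        apply hu0
        apply uForm_nondeg hF 3
        intro w
        obtain ⟨z, rfl⟩ := Me.surjective w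
        rw [uForm_h, show Me z = M z from rfl, hL, h, zero_mul, map_zero]
      have hcbar : c ^ q ^ 3 = c := by
        apply sub_eq_zero.mp
        refine (traceForm_nondegenerate F E).1 _ fun z => ?_
        obtain ⟨w, rfl⟩ : ∃ w, w ^ q ^ 3 = z := ⟨z ^ q ^ 3, pow_q_q hEc z⟩
        have h1 := hMh 1 w
        have h2 := hMh w 1
        rw [one_mul] at h1
        rw [one_pow, mul_one] at h2
        rw [herm_swap hF (M w) (M 1), h2, ← trace_bar hF hE, mul_pow] at h1
        rw [Algebra.traceForm_apply, sub_mul, map_sub, h1, sub_self]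
      obtain ⟨d, hd⟩ := exists_norm_eq hEc hcbar
      have hd0 : d ≠ 0 := by
        intro h; rw [h, zero_pow (by omega)] at hd; exact hc0 hd.symm
      let L₀ : (Fin 3 → F) ≃ₗ[F] (Fin 3 → F) :=
        Me.symm.trans ((LinearEquiv.ofBijective (LinearMap.mulLeft F d)
          ⟨mul_right_injective₀ hd0, fun z => ⟨d⁻¹ * z, by
            rw [LinearMap.mulLeft_apply, ← mul_assoc, mul_inv_cancel₀ hd0, one_mul]⟩⟩).trans ψ)
      have hL₀ : ∀ z, L₀ (M z) = ψ (d * z) := fun z => by
        show ψ (d * Me.symm (Me z)) = _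
        rw [LinearEquiv.symm_apply_apply]
      obtain ⟨s, e', he0, hs⟩ := exists_su_scalar hF ⟨glOfEquiv L₀, mem_GU_iff.mpr fun x y => by
        obtain ⟨x, rfl⟩ := Me.surjective x
        obtain ⟨y, rfl⟩ := Me.surjective y
        rw [glOfEquiv_mulVec, glOfEquiv_mulVec, show Me x = M x from rfl,
          show Me y = M y from rfl, hL₀, hL₀, hψ, hMh, ← hd, mul_pow, pow_succ]
        congr 1; ring⟩
      refine ⟨s, Or.inr ⟨RingEquiv.refl E, fun x y => ?_⟩⟩
      have hconj' : ∀ z, lin (s * g * s⁻¹).1 (ψ z) = ψ (a * z) := by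
        intro z
        have h1 : lin s⁻¹.1 (ψ z) = e'⁻¹ • M (d⁻¹ * z) := by
          apply (su_isIso s).injective hF
          rw [Subgroup.coe_inv, lin_apply_inv, map_smul, hs]
          show _ = e'⁻¹ • e' • (glOfEquiv L₀ : Matrix (Fin 3) (Fin 3) F).mulVec (M (d⁻¹ * z))
          rw [glOfEquiv_mulVec, hL₀, smul_smul, inv_mul_cancel₀ he0, one_smul, ← mul_assoc,
            mul_inv_cancel₀ hd0, one_mul]
        rw [Subgroup.coe_mul, Subgroup.coe_mul, lin_mul, lin_mul, h1, map_smul, map_smul, hs,
          smul_smul, inv_mul_cancel₀ he0, one_smul]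
        show (glOfEquiv L₀ : Matrix (Fin 3) (Fin 3) F).mulVec (f (T (d⁻¹ * z) u)) = _
        rw [← hTa, ← Module.End.mul_apply, ← map_mul, glOfEquiv_mulVec,
          show T (a * (d⁻¹ * z)) u = M (a * (d⁻¹ * z)) from rfl, hL₀]
        rw [show d * (a * (d⁻¹ * z)) = a * z by rw [mul_left_comm, ← mul_assoc d, mul_inv_cancel₀ hd0, one_mul]]
      rw [hconj', hconj', LinearEquiv.symm_apply_apply, LinearEquiv.symm_apply_apply,
        RingEquiv.refl_apply]
      ring
    · -- regular unipotent
      haveI := Fintype.ofFinite F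
      let Φ : E ≃ₐ[F] E := FiniteField.frobeniusAlgEquivOfAlgebraic F E
      have hΦ : ∀ x : E, Φ x = x ^ q ^ 2 := fun x => by
        rw [← hF, ← Fintype.card_eq_nat_card]
        exact congrFun (FiniteField.coe_frobeniusAlgEquivOfAlgebraic F E) x
      have hΦ3 : ∀ x, Φ (Φ (Φ x)) = x := fun x => by
        rw [hΦ, hΦ, hΦ, ← pow_mul, ← pow_mul, show q ^ 2 * (q ^ 2 * q ^ 2) = (q ^ 3) ^ 2 by ring,
          ← hEc]
        haveI := Fintype.ofFinite E
        rw [← Fintype.card_eq_nat_card]; exact FiniteField.pow_card x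
      let u₀ : Module.End F (Fin 3 → F) :=
        ψ.toLinearMap.comp (Φ.toLinearMap.comp ψ.symm.toLinearMap)
      have hu₀ : ∀ x, u₀ (ψ x) = ψ (Φ x) := fun x => by simp [u₀]
      have hiso : IsIso q u₀ := by
        intro x y
        obtain ⟨x, rfl⟩ := ψ.surjective x
        obtain ⟨y, rfl⟩ := ψ.surjective y
        rw [hu₀, hu₀, hψ, hψ, hΦ, hΦ, ← pow_mul, mul_comm (q ^ 2) (q ^ 3), pow_mul, ← mul_pow]
        exact htq _
      haveI : CharP (Module.End F (Fin 3 → F)) 3 :=
        charP_of_injective_algebraMap (algebraMap F _).injective 3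
      have hu3 : (u₀ - 1) ^ 3 = 0 := by
        rw [sub_pow_char_of_commute (p := 3) (Commute.one_right u₀), one_pow, sub_eq_zero]
        refine LinearMap.ext fun x => ?_
        obtain ⟨x, rfl⟩ := ψ.surjective x
        simp [pow_succ, Module.End.mul_apply, hu₀, hΦ3]
      have hu2 : (u₀ - 1) ^ 2 ≠ 0 := by
        intro h
        obtain ⟨x, hx⟩ : ∃ x : E, Algebra.trace F E x ≠ 0 := by
          by_contra hc
          push Not at hc
          exact one_ne_zero ((traceForm_nondegenerate F E).1 (1 : E) fun y => by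
            rw [Algebra.traceForm_apply]; exact hc _)
        have h1 := LinearMap.congr_fun h (ψ x)
        simp only [pow_two, Module.End.mul_apply, LinearMap.sub_apply, Module.End.one_apply, hu₀,
          map_sub, LinearMap.zero_apply] at h1
        simp only [← map_sub] at h1
        rw [map_eq_zero_iff _ ψ.injective] at h1
        apply hx
        apply (algebraMap F E).injective
        rw [map_zero, FiniteField.algebraMap_trace_eq_sum_pow, hE, hF]
        simp only [Finset.sum_range_succ, Finset.sum_range_zero, zero_add, pow_zero, pow_one]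
        rw [map_sub, hΦ (Φ x), hΦ x, ← pow_mul, ← sq (q ^ 2)] at h1
        linear_combination h1 + (x ^ q ^ 2) * (CharP.cast_eq_zero E 3)
      obtain ⟨x₀, hli₀, hgram₀⟩ := exists_canonical hF hiso hu3 hu2
      obtain ⟨x, hli, hgram⟩ := exists_canonical hF (su_isIso g) h3 hne
      obtain ⟨L, hL⟩ := exists_GU_family hF _ _ hli hli₀ (fun i j => (hgram i j).trans (hgram₀ i j).symm)
      set Lm := Matrix.toLin' (L.1 : Matrix (Fin 3) (Fin 3) F) with hLm
      have hLm' : ∀ i : Fin 3, Lm (((lin g.1 - 1) ^ (i : ℕ)) x) = ((u₀ - 1) ^ (i : ℕ)) x₀ :=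
        fun i => by rw [hLm, Matrix.toLin'_apply]; exact hL i
      have hint : Lm.comp (lin g.1 - 1) = (u₀ - 1).comp Lm := by
        refine LinearMap.ext_on_range (hli.span_eq_top_of_card_eq_finrank (by simp)) fun i => ?_
        have hk : ∀ k : ℕ, k ≤ 3 → Lm (((lin g.1 - 1) ^ k) x) = ((u₀ - 1) ^ k) x₀ := by
          intro k hk
          rcases Nat.lt_or_ge k 3 with h | h
          · exact hLm' ⟨k, h⟩
          · rw [show k = 3 by omega, h3, hu3]; simp
        rw [LinearMap.comp_apply, LinearMap.comp_apply, hLm',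
          show (lin g.1 - 1) (((lin g.1 - 1) ^ (i : ℕ)) x) = ((lin g.1 - 1) ^ ((i : ℕ) + 1)) x by
            rw [pow_succ']; rfl, hk _ i.2, pow_succ']
        rfl
      obtain ⟨s, e', he0, hs⟩ := exists_su_scalar hF L
      refine ⟨s, Or.inr ⟨Φ.toRingEquiv, fun z w => ?_⟩⟩
      have hconj' : ∀ y, lin (s * g * s⁻¹).1 (ψ y) = ψ (Φ y) := by
        intro y
        set b := lin s⁻¹.1 (ψ y) with hb
        have hsb : e' • Lm b = ψ y := by
          rw [hLm, Matrix.toLin'_apply, ← hs, hb, Subgroup.coe_inv, lin_apply_inv]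
        have h1 := LinearMap.congr_fun hint b
        simp only [LinearMap.comp_apply, LinearMap.sub_apply, Module.End.one_apply, map_sub] at h1
        rw [sub_left_inj] at h1
        rw [Subgroup.coe_mul, Subgroup.coe_mul, lin_mul, lin_mul, ← hb, hs, ← Matrix.toLin'_apply,
          ← hLm, h1, ← map_smul, hsb, hu₀]
      rw [hconj', hconj', LinearEquiv.symm_apply_apply, LinearEquiv.symm_apply_apply, map_mul]
      rfl

end three

end CfsgLib.Cover5
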